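import Groth.Agent.Quot8.QuotCalc
import Groth.Agent.Coherent.AnnSheaf
import Groth.Agent.CurveRR24.Sky
import Groth.Agent.FlatMor12.HilbBC
import Groth.Agent.FEtStein.Local
import Groth.Agent.RelVALib.UPFunctor
import Groth.Agent.Coherent.Existence.SysKernel
import Groth.Agent.VarietyLib.HilbStratumLocal
import Groth.Agent.EGA43.FibDepth.Unit
import Groth.Prelude.Def_ClSub2

/-!
# Closed subschemes as quotients of the structure sheaf
-/

set_option autoImplicit false
set_option linter.style.haveILetI false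
set_option linter.unusedSectionVars false
set_option backward.isDefEq.respectTransparency false
set_option maxHeartbeats 1000000

universe u

open CategoryTheory CategoryTheory.Limits AlgebraicGeometry Opposite TopologicalSpace
open Groth.Agent.Coherent Groth.Agent.PicLib

noncomputable section

namespace Groth.Agent.Quot8

section Sections

variable {Y : Scheme.{u}} {M N N' : Y.Modules}

theorem imageSubobject_le_kernelSubobject_iff {A : Y.Modules} (a : A ⟶ M) (b : M ⟶ N) :
    imageSubobject a ≤ kernelSubobject b ↔ a ≫ b = 0 := by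
  constructor
  · intro h
    rw [← imageSubobject_arrow_comp a, ← Subobject.ofLE_arrow h, Category.assoc, Category.assoc,
      kernelSubobject_arrow_comp, comp_zero, comp_zero]
  · intro h
    exact imageSubobject_le _ (factorThruKernelSubobject _ a h) (factorThruKernelSubobject_comp_arrow _ _ _)

/-- Kernels are compared on sections over affine opens. -/
theorem kernelSubobject_le_of_sections (q : M ⟶ N) (q' : M ⟶ N')
    (h : ∀ (U : Y.Opens), IsAffineOpen U → ∀ s : Γ(M, U), q.app U s = 0 → q'.app U s = 0) :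
    kernelSubobject q ≤ kernelSubobject q' := by
  refine le_kernelSubobject _ _ (RelVALib.hom_ext_affine _ _ fun U hU x => ?_)
  rw [Scheme.Modules.Hom.comp_app, ConcreteCategory.comp_apply]
  refine (h U hU _ ?_).trans rfl
  rw [← ConcreteCategory.comp_apply, ← Scheme.Modules.Hom.comp_app, kernelSubobject_arrow_comp]
  rfl

theorem sections_of_kernelSubobject_le (q : M ⟶ N) (q' : M ⟶ N') [Epi q]
    (h : kernelSubobject q ≤ kernelSubobject q') (U : Y.Opens) (s : Γ(M, U)) (hs : q.app U s = 0) :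
    q'.app U s = 0 := by
  have h0 : kernel.ι q ≫ q' = 0 := by
    rw [← kernelSubobject_arrow' q, Category.assoc, ← Subobject.ofLE_arrow h, Category.assoc,
      kernelSubobject_arrow_comp, comp_zero, comp_zero]
  rw [← Abelian.comp_epiDesc q q' h0, Scheme.Modules.Hom.comp_app, ConcreteCategory.comp_apply, hs, map_zero]

end Sections

section Ideal

variable {Y : Scheme.{u}} {M : Y.Modules} (θ : M ≅ Coh.structureModule Y)

/-- The quotient of an invertibly trivialised module by an ideal sheaf. -/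
abbrev qI (I : Y.IdealSheafData) : M ⟶ ClSub.quotMod I := θ.hom ≫ ClSub.toSubscheme I

/-- The submodule of an ideal sheaf. -/
def KI (I : Y.IdealSheafData) : Subobject M := kernelSubobject (qI θ I)

instance epi_qI (I : Y.IdealSheafData) : Epi (qI θ I) := by
  haveI := CurveRR24.epi_toSubscheme I
  exact epi_comp _ _

/-- A section of the structure module as a function. -/
abbrev fn {U : Y.Opens} (s : Γ(Coh.structureModule Y, U)) : Γ(Y, U) := s

theorem qI_app_eq_zero_iff (I : Y.IdealSheafData) (U : Y.affineOpens) (s : Γ(M, U.1)) :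
    (qI θ I).app U.1 s = 0 ↔ fn (θ.hom.app U.1 s) ∈ I.ideal U := by
  rw [← I.ker_subschemeι_app U, RingHom.mem_ker]
  exact Iff.rfl

theorem KI_le_iff (I J : Y.IdealSheafData) : KI θ I ≤ KI θ J ↔ I ≤ J := by
  refine ⟨fun h U a ha => ?_, fun h => kernelSubobject_le_of_sections _ _ fun U hU s hs =>
    (qI_app_eq_zero_iff θ J ⟨U, hU⟩ s).2 (h ⟨U, hU⟩ ((qI_app_eq_zero_iff θ I ⟨U, hU⟩ s).1 hs))⟩
  have e : θ.hom.app U.1 (θ.inv.app U.1 (show Γ(Coh.structureModule Y, U.1) from a)) =
      (show Γ(Coh.structureModule Y, U.1) from a) := by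
    rw [← ConcreteCategory.comp_apply, ← Scheme.Modules.Hom.comp_app, θ.inv_hom_id]
    rfl
  have h1 := (qI_app_eq_zero_iff θ J U (θ.inv.app U.1 (show Γ(Coh.structureModule Y, U.1) from a))).1
    (sections_of_kernelSubobject_le _ _ h _ _ ((qI_app_eq_zero_iff θ I U _).2 (by rw [e]; exact ha)))
  rw [e] at h1
  exact h1

theorem KI_injective : Function.Injective (KI θ) := fun I J h =>
  le_antisymm ((KI_le_iff θ I J).1 h.le) ((KI_le_iff θ J I).1 h.ge)

theorem exists_cokernel_KI_iso (I : Y.IdealSheafData) :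
    ∃ i : cokernel (KI θ I).arrow ≅ ClSub.quotMod I, cokernel.π _ ≫ i.hom = qI θ I :=
  exists_cokernel_kernelSubobject_iso _

/-- Multiplication by functions on sections. -/
theorem app_fn {N : Y.Modules} (ψ : Coh.structureModule Y ⟶ N) (U : Y.Opens) (a : Γ(Coh.structureModule Y, U)) :
    ψ.app U a = fn a • ψ.app U (show Γ(Coh.structureModule Y, U) from (1 : Γ(Y, U))) := by
  rw [← Scheme.Modules.Hom.app_smul]
  exact congrArg _ (mul_one (fn a)).symm

/-- The submodule does not depend on the trivialisation. -/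
theorem KI_congr (θ' : M ≅ Coh.structureModule Y) (I : Y.IdealSheafData) : KI θ' I = KI θ I := by
  have key : ∀ (φ φ' : M ≅ Coh.structureModule Y) (U : Y.affineOpens) (s : Γ(M, U.1)),
      fn (φ.hom.app U.1 s) ∈ I.ideal U → fn (φ'.hom.app U.1 s) ∈ I.ideal U := by
    intro φ φ' U s h
    have e : φ'.hom = φ.hom ≫ φ.inv ≫ φ'.hom := by rw [Iso.hom_inv_id_assoc]
    rw [e, Scheme.Modules.Hom.comp_app, ConcreteCategory.comp_apply, app_fn (φ.inv ≫ φ'.hom)]
    exact Ideal.mul_mem_right _ _ h
  exact le_antisymm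
    (kernelSubobject_le_of_sections _ _ fun U hU s hs =>
      (qI_app_eq_zero_iff θ I ⟨U, hU⟩ s).2 (key θ' θ ⟨U, hU⟩ s ((qI_app_eq_zero_iff θ' I ⟨U, hU⟩ s).1 hs)))
    (kernelSubobject_le_of_sections _ _ fun U hU s hs =>
      (qI_app_eq_zero_iff θ' I ⟨U, hU⟩ s).2 (key θ θ' ⟨U, hU⟩ s ((qI_app_eq_zero_iff θ I ⟨U, hU⟩ s).1 hs)))

/-- A coherent quotient comes from an ideal sheaf. -/
theorem exists_eq_KI [Coh.IsQCoh (Coh.structureModule Y)] {Q : Y.Modules} (q : M ⟶ Q) [Epi q] (hQ : Coh.IsCoh Q) :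
    ∃ I : Y.IdealSheafData, kernelSubobject q = KI θ I := by
  haveI := hQ.1
  let I := annSheaf hQ.1 hQ.2
  let ψ : Coh.structureModule Y ⟶ Q := θ.inv ≫ q
  haveI : Epi ψ := epi_comp _ _
  have e : ∀ (U : Y.Opens) (s : Γ(M, U)), q.app U s = fn (θ.hom.app U s) •
      ψ.app U (show Γ(Coh.structureModule Y, U) from (1 : Γ(Y, U))) := fun U s => by
    rw [← app_fn ψ]
    show q.app U s = (θ.hom ≫ θ.inv ≫ q).app U s
    rw [Iso.hom_inv_id_assoc]
  refine ⟨I, le_antisymm (kernelSubobject_le_of_sections _ _ fun U hU s hs => ?_)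
    (kernelSubobject_le_of_sections _ _ fun U hU s hs => ?_)⟩
  · refine (qI_app_eq_zero_iff θ I ⟨U, hU⟩ s).2 (Module.mem_annihilator.2 fun m => ?_)
    obtain ⟨r, rfl⟩ := Existence.app_surjective_of_epi ψ hU m
    show fn (θ.hom.app U s) • ψ.app U r = 0
    rw [app_fn ψ U r, smul_comm, ← e, hs, smul_zero]
  · rw [e]
    exact Module.mem_annihilator.1 ((qI_app_eq_zero_iff θ I ⟨U, hU⟩ s).1 hs) _

/-- Inverse images of ideal submodules. -/
theorem image_pullback_KI_le_iff {Y' : Scheme.{u}} (h : Y' ⟶ Y) (I : Y.IdealSheafData) (J : Y'.IdealSheafData) :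
    imageSubobject ((Scheme.Modules.pullback h).map (KI θ I).arrow) ≤
        KI ((Scheme.Modules.pullback h).mapIso θ ≪≫ PicLoc.pullbackStructureIso h) J ↔ I.comap h ≤ J := by
  unfold KI
  rw [imageSubobject_le_kernelSubobject_iff, ← Scheme.IdealSheafData.le_map_iff_comap_le,
    Scheme.IdealSheafData.map, Scheme.Hom.ker, Scheme.IdealSheafData.le_ofIdeals_iff]
  let θ' := (Scheme.Modules.pullback h).mapIso θ ≪≫ PicLoc.pullbackStructureIso h
  have hval : ∀ (U : Y.Opens) (t : Γ(M, U)), (qI θ' J).app (h ⁻¹ᵁ U) (pullSec h t) =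
      (show Γ(ClSub.quotMod J, h ⁻¹ᵁ U) from J.subschemeι.app (h ⁻¹ᵁ U) (h.app U (fn (θ.hom.app U t)))) := by
    intro U t
    show (ClSub.toSubscheme J).app (h ⁻¹ᵁ U) ((PicLoc.pullbackStructureIso h).hom.app (h ⁻¹ᵁ U)
      (((Scheme.Modules.pullback h).map θ.hom).app (h ⁻¹ᵁ U) (pullSec h t))) = _
    rw [RelVALib.map_app_pullSec, FEtStein.structureIso_pullSec]
    rfl
  constructor
  · intro h0 U a ha
    have hs : (qI θ I).app U.1 (θ.inv.app U.1 (show Γ(Coh.structureModule Y, U.1) from a)) = 0 := by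
      refine (qI_app_eq_zero_iff θ I U _).2 ?_
      rw [← ConcreteCategory.comp_apply, ← Scheme.Modules.Hom.comp_app, θ.inv_hom_id]
      exact ha
    obtain ⟨k, hk⟩ := kernel_sections_exact (qI θ I) (U := U.1) _ hs
    let t := (kernelSubobjectIso (qI θ I)).inv.app U.1 k
    have ht : (kernelSubobject (qI θ I)).arrow.app U.1 t = θ.inv.app U.1 (show Γ(Coh.structureModule Y, U.1) from a) := by
      rw [← hk]
      show ((kernelSubobjectIso (qI θ I)).inv ≫ (kernelSubobject (qI θ I)).arrow).app U.1 k = _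
      rw [kernelSubobject_arrow']
    have h1 := hval U.1 ((kernelSubobject (qI θ I)).arrow.app U.1 t)
    rw [← RelVALib.map_app_pullSec, ← ConcreteCategory.comp_apply, ← Scheme.Modules.Hom.comp_app, h0, ht] at h1
    have e2 : θ.hom.app U.1 (θ.inv.app U.1 (show Γ(Coh.structureModule Y, U.1) from a)) =
        (show Γ(Coh.structureModule Y, U.1) from a) := by
      rw [← ConcreteCategory.comp_apply, ← Scheme.Modules.Hom.comp_app, θ.inv_hom_id]
      rfl
    rw [e2] at h1
    show (J.subschemeι ≫ h).app U.1 a = 0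
    rw [Scheme.Hom.comp_app]
    exact h1.symm
  · intro hle
    refine RelVALib.hom_ext_pullSec h _ _ fun U hU t => ?_
    rw [Scheme.Modules.Hom.comp_app, ConcreteCategory.comp_apply, RelVALib.map_app_pullSec, hval]
    have h1 : fn (θ.hom.app U ((kernelSubobject (qI θ I)).arrow.app U t)) ∈ I.ideal ⟨U, hU⟩ := by
      refine (qI_app_eq_zero_iff θ I ⟨U, hU⟩ _).1 ?_
      rw [← ConcreteCategory.comp_apply, ← Scheme.Modules.Hom.comp_app, kernelSubobject_arrow_comp]
      rfl
    have h2 := hle ⟨U, hU⟩ h1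
    rw [RingHom.mem_ker, Scheme.Hom.comp_app] at h2
    exact h2

end Ideal

section Hilb

variable {X S : Scheme.{u}} (f : X ⟶ S)

/-- The trivialisation of the inverse image of the structure sheaf. -/
abbrev thetaT (T : Over S) : FGA.ET f (Coh.structureModule X) T ≅ Coh.structureModule (PicF.XT f T) :=
  PicLoc.pullbackStructureIso (pullback.fst f T.hom)

variable [LocallyOfFiniteType f]

theorem quotPull_KI {T T' : Over S} [IsLocallyNoetherian T.left] [IsLocallyNoetherian T'.left] (a : T' ⟶ T)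
    (I : (PicF.XT f T).IdealSheafData) :
    FGA.quotPull f (Coh.structureModule X) a (KI (thetaT f T) I) = KI (thetaT f T') (FGA.hilbPull f a I) := by
  haveI := isLocallyNoetherian_XT f (T := T)
  haveI := isLocallyNoetherian_XT f (T := T')
  haveI := (Coherent.isCoh_structureModule (PicF.XT f T')).1
  haveI := epi_bcQ f (Coh.structureModule X) a (qI (thetaT f T) I)
  obtain ⟨J₀, hJ₀⟩ := exists_eq_KI (thetaT f T') (bcQ f (Coh.structureModule X) a (qI (thetaT f T) I))
    (ZClosLib.isCoh_pullback _ _ (CurveRR24.isCoh_quotMod I))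
  have key : ∀ J, FGA.quotPull f (Coh.structureModule X) a (KI (thetaT f T) I) ≤ KI (thetaT f T') J ↔
      FGA.hilbPull f a I ≤ J := fun J => by
    rw [FlatMor12.HilbBC.hilbPull_eq_comap, ← image_pullback_KI_le_iff (thetaT f T) (PicF.XTmap f a) I J,
      KI_congr ((FGA.ETiso f (Coh.structureModule X) a) ≪≫ thetaT f T')
        ((Scheme.Modules.pullback (PicF.XTmap f a)).mapIso (thetaT f T) ≪≫ PicLoc.pullbackStructureIso _) J]
    unfold FGA.quotPull KI
    rw [imageSubobject_le_kernelSubobject_iff, imageSubobject_le_kernelSubobject_iff, Category.assoc]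
    simp only [qI, Iso.trans_hom, Category.assoc]
  have h : FGA.quotPull f (Coh.structureModule X) a (KI (thetaT f T) I) = KI (thetaT f T') J₀ := by
    rw [← hJ₀, KI, quotPull_kernelSubobject]
  rw [h]
  congr 1
  refine le_antisymm ?_ ((key J₀).1 h.le)
  have := (key (FGA.hilbPull f a I)).2 le_rfl
  rw [h] at this
  exact (KI_le_iff _ _ _).1 this

theorem isFlatOver_quotMod_iff {T : Over S} (I : (PicF.XT f T).IdealSheafData) :
    FlatMod.IsFlatOver (PicF.XTproj f T) (ClSub.quotMod I) ↔ Flat (I.subschemeι ≫ PicF.XTproj f T) := by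
  haveI : Coh.IsQCoh (Coh.structureModule I.subscheme) := Coherent.isQCoh_structureModule (X := I.subscheme)
  rw [ClSub.quotMod, VarietyLib.isFlatOver_push_iff, Flat.iff_flat_stalkMap]
  exact forall_congr' fun x => EGA43.FibDepth.isFlatOverAt_structureModule _ x

/-- Points of the Hilbert functor as points of the Quot functor. -/
theorem exists_quotSet_of_hilbSet {T : Over S} [IsLocallyNoetherian T.left] (Z : FGA.HilbSet f T) :
    ∃ K : FGA.QuotSet f (Coh.structureModule X) T, K.1 = KI (thetaT f T) Z.1 := by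
  haveI := isLocallyNoetherian_XT f (T := T)
  exact ⟨mkQuot f _ (qI (thetaT f T) Z.1) (CurveRR24.isCoh_quotMod _) ((isFlatOver_quotMod_iff f _).2 Z.2.2), rfl⟩

theorem exists_hilbSet_of_quotSet [IsProper f] {T : Over S} [IsLocallyNoetherian T.left]
    (K : FGA.QuotSet f (Coh.structureModule X) T) :
    ∃ Z : FGA.HilbSet f T, K.1 = KI (thetaT f T) Z.1 := by
  haveI := isLocallyNoetherian_XT f (T := T)
  haveI := (Coherent.isCoh_structureModule (PicF.XT f T)).1
  obtain ⟨I, hI⟩ := exists_eq_KI (thetaT f T) (cokernel.π K.1.arrow) K.2.1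
  rw [kernelSubobject_cokernel] at hI
  haveI : IsProper (PicF.XTproj f T) := MorphismProperty.pullback_snd (P := @IsProper) _ _ inferInstance
  have hfl := K.2.2
  rw [hI] at hfl
  obtain ⟨i, -⟩ := exists_cokernel_KI_iso (thetaT f T) I
  exact ⟨⟨I, inferInstance, (isFlatOver_quotMod_iff f I).1
    fun x => EGA43.DvrCrit.isFlatOverAt_of_iso _ i x (hfl x)⟩, hI⟩

/-- A scheme representing the Quot functor of the structure sheaf represents the Hilbert functor. -/
theorem exists_hilbRepresentedBy [IsProper f] {H : Over S} {K : FGA.QuotSet f (Coh.structureModule X) H}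
    (hH : FGA.QuotRepresentedBy f (Coh.structureModule X) H K) :
    ∃ Z : FGA.HilbSet f H, FGA.HilbRepresentedBy f H Z := by
  haveI := hH.1
  obtain ⟨Z, hZ⟩ := exists_hilbSet_of_quotSet f K
  refine ⟨Z, hH.1, fun T hT Y => ?_⟩
  obtain ⟨K', hK'⟩ := exists_quotSet_of_hilbSet f Y
  have hiff : ∀ g : T ⟶ H, FGA.quotPull f (Coh.structureModule X) g K.1 = K'.1 ↔ FGA.hilbPull f g Z.1 = Y.1 :=
    fun g => by
      rw [hZ, hK', quotPull_KI]
      exact (KI_injective _).eq_iff
  obtain ⟨g, hg, hu⟩ := hH.2 T K'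
  exact ⟨g, (hiff g).1 hg, fun g' hg' => hu g' ((hiff g').2 hg')⟩

end Hilb

end Groth.Agent.Quot8

end
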