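import Groth.Agent.DCat.ClosedPush

/-!
# Modules supported on a closed subscheme
-/

set_option autoImplicit false
set_option backward.isDefEq.respectTransparency false
set_option linter.style.haveILetI false

universe v w u

open CategoryTheory CategoryTheory.Limits AlgebraicGeometry Opposite TopologicalSpace
open Groth.Agent.ModStalk Groth.Agent.Coherent

noncomputable section

namespace Groth.Agent.Quot8

variable {X Y : Scheme.{u}} (j : X ⟶ Y) [IsClosedImmersion j]

/-- The modules that are direct images from a closed subscheme. -/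
def Supp (R : Y.Modules) : Prop := IsIso ((Scheme.Modules.pullbackPushforwardAdjunction j).unit.app R)

theorem supp_push (M : X.Modules) : Supp j ((Scheme.Modules.pushforward j).obj M) := by
  haveI := DCat.ClosedPush.isIso_counit j M
  haveI : IsIso ((Scheme.Modules.pullbackPushforwardAdjunction j).unit.app ((Scheme.Modules.pushforward j).obj M) ≫
      (Scheme.Modules.pushforward j).map ((Scheme.Modules.pullbackPushforwardAdjunction j).counit.app M)) := by
    rw [Adjunction.right_triangle_components]; infer_instance
  exact IsIso.of_isIso_comp_right _ ((Scheme.Modules.pushforward j).map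
    ((Scheme.Modules.pullbackPushforwardAdjunction j).counit.app M))

theorem supp_of_iso {R R' : Y.Modules} (e : R ≅ R') (h : Supp j R) : Supp j R' :=
  (NatTrans.isIso_app_iff_of_iso (Scheme.Modules.pullbackPushforwardAdjunction j).unit e).1 h

theorem supp_iff_exists {R : Y.Modules} :
    Supp j R ↔ ∃ M : X.Modules, Nonempty ((Scheme.Modules.pushforward j).obj M ≅ R) :=
  ⟨fun h => haveI : IsIso ((Scheme.Modules.pullbackPushforwardAdjunction j).unit.app R) := h
    ⟨_, ⟨(asIso ((Scheme.Modules.pullbackPushforwardAdjunction j).unit.app R)).symm⟩⟩,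
    fun ⟨M, ⟨e⟩⟩ => supp_of_iso j e (supp_push j M)⟩

/-- A quotient of a supported module is supported. -/
theorem supp_of_epi {R R' : Y.Modules} (q : R ⟶ R') [Epi q] (h : Supp j R) : Supp j R' := by
  obtain ⟨M, ⟨e⟩⟩ := (supp_iff_exists j).1 h
  haveI : Epi (e.hom ≫ q) := epi_comp _ _
  have hs : ∀ y, Function.Surjective ((DerSch.stalkFunctor Y y).map (e.hom ≫ q)) := fun y => by
    haveI : (DerSch.stalkFunctor Y y).PreservesEpimorphisms := preservesEpimorphisms_of_preservesColimitsOfShape _
    exact (ModuleCat.epi_iff_surjective _).1 ((DerSch.stalkFunctor Y y).map_epi (e.hom ≫ q))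
  haveI : IsIso ((Scheme.Modules.pullback j).map
      ((Scheme.Modules.pullbackPushforwardAdjunction j).unit.app R')) := by
    haveI := DCat.ClosedPush.isIso_counit j ((Scheme.Modules.pullback j).obj R')
    haveI : IsIso ((Scheme.Modules.pullback j).map
        ((Scheme.Modules.pullbackPushforwardAdjunction j).unit.app R') ≫
        (Scheme.Modules.pullbackPushforwardAdjunction j).counit.app _) := by
      erw [Adjunction.left_triangle_components]; infer_instance
    exact IsIso.of_isIso_comp_right _ ((Scheme.Modules.pullbackPushforwardAdjunction j).counit.app _)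
  refine DCat.ClosedPush.isIso_of_pullback (f := j) _ (fun y hy => ?_)
    (fun y hy => DCat.ClosedPush.subsingleton_stalk_push j _ y hy) (fun x r hr t => ?_)
    fun x => DCat.ClosedPush.smul_stalk_push j _ x
  · haveI := DCat.ClosedPush.subsingleton_stalk_push j M y hy
    exact (hs y).subsingleton
  · obtain ⟨s, rfl⟩ := hs _ t
    refine (((DerSch.stalkFunctor Y (j x)).map (e.hom ≫ q)).hom.map_smul r s).symm.trans ?_
    exact (congrArg _ (DCat.ClosedPush.smul_stalk_push j M x r hr s)).trans
      (((DerSch.stalkFunctor Y (j x)).map (e.hom ≫ q)).hom.map_zero)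

/-- Direct images along closed immersions preserve epimorphisms. -/
theorem epi_push_map {M N : X.Modules} (φ : M ⟶ N) [Epi φ] : Epi ((Scheme.Modules.pushforward j).map φ) := by
  let G := Scheme.Modules.pushforward j
  let F := Scheme.Modules.pullback j
  let ad := Scheme.Modules.pullbackPushforwardAdjunction j
  haveI : IsIso (ad.counit.app M) := DCat.ClosedPush.isIso_counit j M
  haveI : IsIso (ad.counit.app N) := DCat.ClosedPush.isIso_counit j N
  have h : Epi (F.map (G.map φ)) := by
    haveI : Epi (ad.counit.app M ≫ φ) := epi_comp _ _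
    have e : F.map (G.map φ) = (ad.counit.app M ≫ φ) ≫ inv (ad.counit.app N) := by
      rw [IsIso.eq_comp_inv]
      exact ad.counit.naturality φ
    rw [e]
    exact epi_comp _ _
  suffices key : ∀ (C : Y.Modules) (π : G.obj N ⟶ C), Supp j C → G.map φ ≫ π = 0 → π = 0 from
    Abelian.epi_of_cokernel_π_eq_zero _
      (key _ (cokernel.π (G.map φ)) (supp_of_epi j (cokernel.π (G.map φ)) (supp_push j N)) (cokernel.condition _))
  intro C π hC hπ
  haveI : IsIso (ad.unit.app C) := hC
  have h0 : F.map π = 0 := by
    rw [← cancel_epi (F.map (G.map φ)), ← F.map_comp, hπ, comp_zero, Functor.map_zero]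
  have hn := ad.unit.naturality π
  dsimp only [Functor.id_map, Functor.comp_map] at hn
  rw [h0, G.map_zero, comp_zero] at hn
  exact (cancel_mono (ad.unit.app C)).1 (hn.trans zero_comp.symm)

theorem epi_transpose {R : Y.Modules} (hR : Supp j R) {Q : X.Modules} (r : (Scheme.Modules.pullback j).obj R ⟶ Q) [Epi r] :
    Epi ((Scheme.Modules.pullbackPushforwardAdjunction j).homEquiv _ _ r) := by
  haveI : IsIso ((Scheme.Modules.pullbackPushforwardAdjunction j).unit.app R) := hR
  haveI := epi_push_map j r
  rw [Adjunction.homEquiv_unit]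
  exact epi_comp _ _

/-- Pullback to the closed subscheme is faithful on supported targets. -/
theorem exists_iso_of_pullback {M R R' : Y.Modules} (hR : Supp j R) (hR' : Supp j R') (q : M ⟶ R) (q' : M ⟶ R')
    (i : (Scheme.Modules.pullback j).obj R ≅ (Scheme.Modules.pullback j).obj R')
    (hi : (Scheme.Modules.pullback j).map q ≫ i.hom = (Scheme.Modules.pullback j).map q') :
    ∃ e : R ≅ R', q ≫ e.hom = q' := by
  let ad := Scheme.Modules.pullbackPushforwardAdjunction j
  haveI : IsIso (ad.unit.app R) := hR
  haveI : IsIso (ad.unit.app R') := hR'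
  refine ⟨asIso (ad.unit.app R) ≪≫ (Scheme.Modules.pushforward j).mapIso i ≪≫ (asIso (ad.unit.app R')).symm, ?_⟩
  have h1 := ad.unit.naturality q
  have h2 := ad.unit.naturality q'
  dsimp only [Functor.id_map, Functor.comp_map, Functor.comp_obj, Functor.id_obj] at h1 h2
  simp only [Iso.trans_hom, asIso_hom, Functor.mapIso_hom, Iso.symm_hom, asIso_inv]
  rw [← Category.assoc, h1, Category.assoc, ← Functor.map_comp_assoc, hi, ← Category.assoc, ← h2,
    Category.assoc, IsIso.hom_inv_id, Category.comp_id]

end Groth.Agent.Quot8

end
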