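import Groth.Agent.Quot8.FreeTwist
import Groth.Agent.Quot8.ClosedSupp

/-!
# Presentations by twisted free modules on projective space
-/

set_option autoImplicit false
set_option linter.style.haveILetI false
set_option linter.unusedSectionVars false
set_option backward.isDefEq.respectTransparency false
set_option maxHeartbeats 1600000

universe u

open CategoryTheory CategoryTheory.Limits AlgebraicGeometry TopologicalSpace
open Groth.Agent.Coherent Groth.Agent.PicLib Groth.Agent.AmpleLib

noncomputable section

namespace Groth.Agent.Quot8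

/-- A quotient of twists on a closed subscheme is a quotient of a twisted free module on projective space. -/
theorem exists_presentation {n : ℕ} {S X : Scheme.{u}} (i : X ⟶ CohB1.ProjSpaceOver n S) [IsClosedImmersion i]
    {E : X.Modules} (p : ℕ) (ν : ℤ)
    (q : (∐ fun _ : Fin p => (Scheme.Modules.pullback i).obj (Twist.twistOver n S ν)) ⟶ E) [Epi q] :
    ∃ ψ : EF (-ν) S n p ⟶ (Scheme.Modules.pushforward i).obj E, Epi ψ := by
  let h := hG n S
  haveI := isEquivalence_tensorR_OT (n := n) h (- -ν)
  haveI : (Scheme.Modules.pullback i).IsLeftAdjoint :=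
    (Scheme.Modules.pullbackPushforwardAdjunction i).isLeftAdjoint
  let e₁ : EF (-ν) S n p ≅ ∐ fun _ : Fin p => Twist.twistOver n S ν :=
    PreservesCoproduct.iso (tensorR (OT n h (- -ν))) (fun _ : Fin p => Coh.structureModule _) ≪≫
      Sigma.mapIso (fun _ => unitTensorIso (Twist.twistOver n S (- -ν)) ≪≫
        eqToIso (congrArg (Twist.twistOver n S) (neg_neg ν)))
  let e₂ := (Scheme.Modules.pullback i).mapIso e₁ ≪≫ PreservesCoproduct.iso (Scheme.Modules.pullback i) _
  haveI : Epi (e₂.hom ≫ q) := epi_comp _ _
  refine ⟨(Scheme.Modules.pullbackPushforwardAdjunction i).homEquiv _ _ (e₂.hom ≫ q), ?_⟩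
  rw [Adjunction.homEquiv_unit]
  haveI := epi_push_map i (e₂.hom ≫ q)
  haveI : Epi ((Scheme.Modules.pullbackPushforwardAdjunction i).unit.app (EF (-ν) S n p)) :=
    Coherent.epi_clUnit i
  exact epi_comp _ _

end Groth.Agent.Quot8

end
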