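import Groth.Agent.GrassLib.Classify
import Groth.Agent.GrassLib.QuotFun
import Groth.Agent.FlatMor12.FlatFun.Sheaf
import Groth.Agent.KZeroLib.PerfectCoh
import Groth.Agent.Coherent.RpushSupport
import Groth.Agent.ZClosLib.Descent
import Groth.Prelude.Def_FGA
import Mathlib.CategoryTheory.Abelian.Exact

/-!
# Points of Quot functors as quotients
-/

set_option autoImplicit false
set_option linter.style.haveILetI false
set_option linter.unusedSectionVars false
set_option backward.isDefEq.respectTransparency false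
set_option maxHeartbeats 1000000

universe v w u

open CategoryTheory CategoryTheory.Limits AlgebraicGeometry Opposite TopologicalSpace
open Groth.Agent.Coherent Groth.Agent.PicLib

noncomputable section

namespace Groth.Agent.Quot8

section Abelian

variable {A : Type w} [Category.{v} A] [Abelian A] {M Q Q' : A}

theorem kernelSubobject_arrow_comp' (q : M ⟶ Q) : (kernelSubobject q).arrow ≫ q = 0 :=
  kernelSubobject_arrow_comp q

/-- An epimorphism is the cokernel of its kernel. -/
theorem exists_cokernel_kernelSubobject_iso (q : M ⟶ Q) [Epi q] :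
    ∃ i : cokernel (kernelSubobject q).arrow ≅ Q, cokernel.π _ ≫ i.hom = q := by
  refine ⟨⟨cokernel.desc _ q (kernelSubobject_arrow_comp q),
    Abelian.epiDesc q (cokernel.π _) (?_ : kernel.ι q ≫ _ = 0), ?_, ?_⟩, cokernel.π_desc _ _ _⟩
  · rw [← kernelSubobject_arrow' q, Category.assoc, cokernel.condition, comp_zero]
  · refine coequalizer.hom_ext ?_
    rw [← Category.assoc, cokernel.π_desc, Abelian.comp_epiDesc, Category.comp_id]
  · rw [← cancel_epi q, ← Category.assoc, Abelian.comp_epiDesc, cokernel.π_desc, Category.comp_id]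

theorem kernelSubobject_cokernel (K : Subobject M) : kernelSubobject (cokernel.π K.arrow) = K := by
  refine le_antisymm ?_ (le_kernelSubobject _ _ (cokernel.condition _))
  have hS : (ShortComplex.mk K.arrow (cokernel.π K.arrow) (cokernel.condition _)).Exact :=
    ShortComplex.exact_cokernel K.arrow
  have h := (ShortComplex.exact_iff_image_eq_kernel _).1 hS
  rw [← h]
  exact imageSubobject_le _ (𝟙 _) (Category.id_comp _)

theorem kernelSubobject_comp_iso (q : M ⟶ Q) (i : Q ≅ Q') :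
    kernelSubobject (q ≫ i.hom) = kernelSubobject q := by
  refine le_antisymm (le_kernelSubobject _ _ ?_) (le_kernelSubobject _ _ ?_)
  · rw [← cancel_mono i.hom, Category.assoc, kernelSubobject_arrow_comp, zero_comp]
  · rw [← Category.assoc, kernelSubobject_arrow_comp, zero_comp]

theorem exists_iso_of_kernelSubobject_eq (q : M ⟶ Q) (q' : M ⟶ Q') [Epi q] [Epi q']
    (h : kernelSubobject q = kernelSubobject q') : ∃ i : Q ≅ Q', q ≫ i.hom = q' := by
  obtain ⟨i, hi⟩ := exists_cokernel_kernelSubobject_iso q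
  obtain ⟨j, hj⟩ := exists_cokernel_kernelSubobject_iso q'
  have key : ∀ (K K' : Subobject M), K = K' →
      ∃ k : cokernel K.arrow ≅ cokernel K'.arrow, cokernel.π _ ≫ k.hom = cokernel.π _ := by
    rintro K _ rfl
    exact ⟨Iso.refl _, Category.comp_id _⟩
  obtain ⟨k, hk⟩ := key _ _ h
  refine ⟨i.symm ≪≫ k ≪≫ j, ?_⟩
  have hi' : q ≫ i.inv = cokernel.π _ := (Iso.comp_inv_eq i).2 hi.symm
  simp only [Iso.trans_hom, Iso.symm_hom]
  rw [reassoc_of% hi', reassoc_of% hk, hj]

theorem kernelSubobject_eq_iff (q : M ⟶ Q) (q' : M ⟶ Q') [Epi q] [Epi q'] :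
    kernelSubobject q = kernelSubobject q' ↔ ∃ i : Q ≅ Q', q ≫ i.hom = q' :=
  ⟨exists_iso_of_kernelSubobject_eq q q', fun ⟨i, hi⟩ => by rw [← hi, kernelSubobject_comp_iso]⟩

end Abelian

section General

variable {P P' P'' Y : Scheme.{u}} {E : Y.Modules} {Q Q' : P.Modules}

/-- The abstract comparison of inverse images. -/
def bcGenIso (h : P' ⟶ P) (π : P ⟶ Y) {g : P' ⟶ Y} (w : h ≫ π = g) (E : Y.Modules) :
    (Scheme.Modules.pullback h).obj ((Scheme.Modules.pullback π).obj E) ≅ (Scheme.Modules.pullback g).obj E :=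
  (Scheme.Modules.pullbackComp h π).app E ≪≫ (Scheme.Modules.pullbackCongr w).app E

/-- Base change of a quotient along an abstract comparison of inverse images. -/
theorem quotBC_eq_gen (h : P' ⟶ P) (π : P ⟶ Y) {g : P' ⟶ Y} (w : h ≫ π = g)
    (q : (Scheme.Modules.pullback π).obj E ⟶ Q) :
    Grass.quotBC w q = (bcGenIso h π w E).inv ≫ (Scheme.Modules.pullback h).map q := by
  simp [Grass.quotBC, bcGenIso, Category.assoc]

theorem exists_quotBC_comp (π : P ⟶ Y) {π' : P' ⟶ Y} {π'' : P'' ⟶ Y} (q : (Scheme.Modules.pullback π).obj E ⟶ Q)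
    {h : P' ⟶ P} {h' : P'' ⟶ P'} {c : P'' ⟶ P} (hc : c = h' ≫ h) (w : c ≫ π = π'') (wh : h ≫ π = π')
    (wh' : h' ≫ π' = π'') :
    ∃ i : (Scheme.Modules.pullback c).obj Q ≅ (Scheme.Modules.pullback h').obj ((Scheme.Modules.pullback h).obj Q),
      ((bcGenIso c π w E).inv ≫ (Scheme.Modules.pullback c).map q) ≫ i.hom =
        (bcGenIso h' π' wh' E).inv ≫
          (Scheme.Modules.pullback h').map ((bcGenIso h π wh E).inv ≫ (Scheme.Modules.pullback h).map q) := by
  subst hc
  refine ⟨((Scheme.Modules.pullbackComp h' h).app Q).symm, ?_⟩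
  rw [← quotBC_eq_gen, ← quotBC_eq_gen, ← quotBC_eq_gen]
  exact GrassLib.quotBC_comp q wh wh' w

theorem exists_quotBC_id (π : P ⟶ Y) (q : (Scheme.Modules.pullback π).obj E ⟶ Q) {c : P ⟶ P} (hc : c = 𝟙 P)
    (w : c ≫ π = π) : ∃ i : (Scheme.Modules.pullback c).obj Q ≅ Q,
      ((bcGenIso c π w E).inv ≫ (Scheme.Modules.pullback c).map q) ≫ i.hom = q := by
  subst hc
  rw [← quotBC_eq_gen]
  exact ⟨(Scheme.Modules.pullbackId _).app _, GrassLib.QElt.quotBC_id q w⟩

end General

variable {X S : Scheme.{u}} (f : X ⟶ S) (E : X.Modules)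

theorem ETiso_eq {T T' : Over S} (g : T' ⟶ T) :
    FGA.ETiso f E g = bcGenIso (PicF.XTmap f g) (pullback.fst f T.hom) (FGA.XTmap_fst f g) E := by
  delta FGA.ETiso bcGenIso
  rfl

/-- The base change of a quotient. -/
def bcQ {T T' : Over S} (g : T' ⟶ T) {Q : (PicF.XT f T).Modules} (q : FGA.ET f E T ⟶ Q) :
    FGA.ET f E T' ⟶ (Scheme.Modules.pullback (PicF.XTmap f g)).obj Q :=
  (FGA.ETiso f E g).inv ≫ (Scheme.Modules.pullback (PicF.XTmap f g)).map q

variable {T T' T'' : Over S}

theorem bcQ_eq (g : T' ⟶ T) {Q : (PicF.XT f T).Modules} (q : FGA.ET f E T ⟶ Q) :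
    bcQ f E g q = (FGA.ETiso f E g).inv ≫ (Scheme.Modules.pullback (PicF.XTmap f g)).map q := rfl

theorem bcQ_comp_map (g : T' ⟶ T) {Q Q' : (PicF.XT f T).Modules} (q : FGA.ET f E T ⟶ Q) (a : Q ⟶ Q') :
    bcQ f E g (q ≫ a) = bcQ f E g q ≫ (Scheme.Modules.pullback (PicF.XTmap f g)).map a := by
  rw [bcQ_eq, bcQ_eq, Functor.map_comp, Category.assoc]

instance epi_bcQ (g : T' ⟶ T) {Q : (PicF.XT f T).Modules} (q : FGA.ET f E T ⟶ Q) [Epi q] : Epi (bcQ f E g q) := by
  haveI := Grass.epi_pullback_map (PicF.XTmap f g) q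
  rw [bcQ_eq]
  exact epi_comp _ _

theorem XTmap_comp (a : T' ⟶ T) (b : T'' ⟶ T') :
    PicF.XTmap f (b ≫ a) = PicF.XTmap f b ≫ PicF.XTmap f a := by
  apply pullback.hom_ext <;> simp [PicF.XTmap, PicF.XT]

theorem XTmap_id : PicF.XTmap f (𝟙 T) = 𝟙 (PicF.XT f T) := by
  apply pullback.hom_ext <;> simp [PicF.XTmap, PicF.XT]

/-- Pullback of points is base change of quotients. -/
theorem quotPull_kernelSubobject (g : T' ⟶ T) {Q : (PicF.XT f T).Modules} (q : FGA.ET f E T ⟶ Q) [Epi q] :
    FGA.quotPull f E g (kernelSubobject q) = kernelSubobject (bcQ f E g q) := by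
  let F := Scheme.Modules.pullback (PicF.XTmap f g)
  haveI : F.IsLeftAdjoint := (Scheme.Modules.pullbackPushforwardAdjunction _).isLeftAdjoint
  let a := F.map (kernelSubobject q).arrow ≫ (FGA.ETiso f E g).hom
  have w : a ≫ bcQ f E g q = 0 := by
    rw [bcQ_eq, Category.assoc, Iso.hom_inv_id_assoc, ← Functor.map_comp, kernelSubobject_arrow_comp, F.map_zero]
  obtain ⟨i, hi⟩ := exists_cokernel_kernelSubobject_iso q
  have hc0 : IsColimit (CokernelCofork.ofπ q (kernelSubobject_arrow_comp q)) :=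
    IsColimit.ofIsoColimit (cokernelIsCokernel (kernelSubobject q).arrow)
      (Cocone.ext i (by rintro (_ | _) <;> simp [hi]))
  have hc' := CokernelCofork.mapIsColimit _ hc0 F
  let S₀ : ShortComplex (PicF.XT f T').Modules :=
    ShortComplex.mk (F.map (kernelSubobject q).arrow) (F.map q)
      (by rw [← Functor.map_comp, kernelSubobject_arrow_comp, F.map_zero])
  have hS₀ : S₀.Exact := ShortComplex.exact_of_g_is_cokernel _ hc'
  let S₁ : ShortComplex (PicF.XT f T').Modules := ShortComplex.mk a (bcQ f E g q) w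
  have hS₁ : S₁.Exact := (ShortComplex.exact_iff_of_iso
    (ShortComplex.isoMk (S₁ := S₀) (S₂ := S₁) (Iso.refl _) (FGA.ETiso f E g) (Iso.refl _) (by simp [S₀, S₁, a])
      (by simp [S₀, S₁, bcQ_eq, F]))).1 hS₀
  exact (ShortComplex.exact_iff_image_eq_kernel S₁).1 hS₁

theorem exists_bcQ_comp (a : T' ⟶ T) (b : T'' ⟶ T') {Q : (PicF.XT f T).Modules} (q : FGA.ET f E T ⟶ Q) :
    ∃ i : (Scheme.Modules.pullback (PicF.XTmap f (b ≫ a))).obj Q ≅
        (Scheme.Modules.pullback (PicF.XTmap f b)).obj ((Scheme.Modules.pullback (PicF.XTmap f a)).obj Q),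
      bcQ f E (b ≫ a) q ≫ i.hom = bcQ f E b (bcQ f E a q) := by
  obtain ⟨i, hi⟩ := exists_quotBC_comp (pullback.fst f T.hom) q (XTmap_comp f a b) (FGA.XTmap_fst f (b ≫ a))
    (FGA.XTmap_fst f a) (FGA.XTmap_fst f b)
  refine ⟨i, ?_⟩
  rw [← ETiso_eq f E (b ≫ a), ← ETiso_eq f E a, ← ETiso_eq f E b, ← bcQ_eq, ← bcQ_eq, ← bcQ_eq] at hi
  exact hi

theorem quotPull_comp (a : T' ⟶ T) (b : T'' ⟶ T') (K : Subobject (FGA.ET f E T)) :
    FGA.quotPull f E (b ≫ a) K = FGA.quotPull f E b (FGA.quotPull f E a K) := by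
  conv_lhs => rw [← kernelSubobject_cokernel K, quotPull_kernelSubobject]
  conv_rhs => rw [← kernelSubobject_cokernel K, quotPull_kernelSubobject, quotPull_kernelSubobject]
  obtain ⟨i, hi⟩ := exists_bcQ_comp f E a b (cokernel.π K.arrow)
  rw [← hi, kernelSubobject_comp_iso]

theorem quotPull_id (K : Subobject (FGA.ET f E T)) : FGA.quotPull f E (𝟙 T) K = K := by
  conv_lhs => rw [← kernelSubobject_cokernel K, quotPull_kernelSubobject]
  obtain ⟨i, hi⟩ := exists_quotBC_id _ (cokernel.π K.arrow) (XTmap_id f) (FGA.XTmap_fst f (𝟙 T))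
  rw [← ETiso_eq, ← bcQ_eq] at hi
  conv_rhs => rw [← kernelSubobject_cokernel K, ← hi, kernelSubobject_comp_iso]

variable [IsLocallyNoetherian T.left] [LocallyOfFiniteType f]

theorem isLocallyNoetherian_XT : IsLocallyNoetherian (PicF.XT f T) :=
  haveI : LocallyOfFiniteType (pullback.snd f T.hom) := inferInstance
  LocallyOfFiniteType.isLocallyNoetherian (pullback.snd f T.hom)

/-- A flat coherent quotient gives a point. -/
def mkQuot {Q : (PicF.XT f T).Modules} (q : FGA.ET f E T ⟶ Q) [Epi q] (hQ : Coh.IsCoh Q)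
    (hfl : FlatMod.IsFlatOver (PicF.XTproj f T) Q) : FGA.QuotSet f E T :=
  ⟨kernelSubobject q, by
    haveI := isLocallyNoetherian_XT f (T := T)
    obtain ⟨i, -⟩ := exists_cokernel_kernelSubobject_iso q
    exact ⟨Coherent.isCoh_of_iso i.symm hQ,
      fun x => EGA43.DvrCrit.isFlatOverAt_of_iso _ i.symm x (hfl x)⟩⟩

theorem mkQuot_val {Q : (PicF.XT f T).Modules} (q : FGA.ET f E T ⟶ Q) [Epi q] (hQ : Coh.IsCoh Q)
    (hfl : FlatMod.IsFlatOver (PicF.XTproj f T) Q) : (mkQuot f E q hQ hfl).1 = kernelSubobject q := rfl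

omit [IsLocallyNoetherian T.left] [LocallyOfFiniteType f] in
theorem exists_point_of_mem {T' : Over S} (a : T' ⟶ T) [IsOpenImmersion a.left] (z : PicF.XT f T)
    (hz : PicF.XTproj f T z ∈ a.left.opensRange) :
    ∃ y, PicF.XTmap f a y = z := (FlatMor12.FlatFun.exists_point f a z hz).2

omit [IsLocallyNoetherian T.left] [LocallyOfFiniteType f] in
/-- Points agreeing on an open cover are equal. -/
theorem ext_cover {ι : Type u} {V : ι → Over S} (a : ∀ i, V i ⟶ T) [∀ i, IsOpenImmersion (a i).left]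
    (ha : ∀ x : T.left, ∃ i, x ∈ (a i).left.opensRange) {K K' : Subobject (FGA.ET f E T)}
    (h : ∀ i, FGA.quotPull f E (a i) K = FGA.quotPull f E (a i) K') : K = K' := by
  suffices key : ∀ K K' : Subobject (FGA.ET f E T),
      (∀ i, FGA.quotPull f E (a i) K = FGA.quotPull f E (a i) K') → K ≤ K' from
    le_antisymm (key K K' h) (key K' K fun i => (h i).symm)
  intro K K' h
  suffices h0 : K.arrow ≫ cokernel.π K'.arrow = 0 by
    rw [← kernelSubobject_cokernel K']
    exact le_kernelSubobject _ _ h0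
  refine FlatMor12.FlatFun.zero_of_local _ fun z => ?_
  obtain ⟨i, hi⟩ := ha (PicF.XTproj f T z)
  obtain ⟨hflat, y, hy⟩ := FlatMor12.FlatFun.exists_point f (a i) z hi
  refine ⟨_, PicF.XTmap f (a i), y, hflat, hy, ?_⟩
  have h1 := h i
  rw [← kernelSubobject_cokernel K, ← kernelSubobject_cokernel K', quotPull_kernelSubobject,
    quotPull_kernelSubobject] at h1
  obtain ⟨j, hj⟩ := exists_iso_of_kernelSubobject_eq _ _ h1
  rw [Functor.map_comp, ← Iso.hom_inv_id_assoc (FGA.ETiso f E (a i))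
    ((Scheme.Modules.pullback _).map (cokernel.π K'.arrow)), ← bcQ_eq, ← hj, bcQ_eq]
  simp only [Category.assoc, Iso.hom_inv_id_assoc]
  rw [← Functor.map_comp_assoc, cokernel.condition, Functor.map_zero, zero_comp]

/-- A coherent flat family is one locally on the base. -/
theorem isCoh_and_flat_of_cover {ι : Type u} {V : ι → Over S} (a : ∀ i, V i ⟶ T) [∀ i, IsOpenImmersion (a i).left]
    (ha : ∀ x : T.left, ∃ i, x ∈ (a i).left.opensRange) (F : (PicF.XT f T).Modules)
    (hc : ∀ i, Coh.IsCoh ((Scheme.Modules.pullback (PicF.XTmap f (a i))).obj F))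
    (hfl : ∀ i, FlatMod.IsFlatOver (PicF.XTproj f (V i)) ((Scheme.Modules.pullback (PicF.XTmap f (a i))).obj F)) :
    Coh.IsCoh F ∧ FlatMod.IsFlatOver (PicF.XTproj f T) F := by
  haveI := isLocallyNoetherian_XT f (T := T)
  haveI hoi : ∀ i, IsOpenImmersion (PicF.XTmap f (a i)) := fun i =>
    MorphismProperty.of_isPullback (P := @IsOpenImmersion)
      (FlatMor12.FlatFun.isPullback_XTmap f (a i)).flip inferInstance
  refine ⟨KZeroLib.isCoh_of_cover F (fun i => (PicF.XTmap f (a i)).opensRange) ?_ fun i => ?_, fun z => ?_⟩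
  · refine top_le_iff.1 fun z _ => ?_
    obtain ⟨i, hi⟩ := ha (PicF.XTproj f T z)
    obtain ⟨-, y, hy⟩ := FlatMor12.FlatFun.exists_point f (a i) z hi
    exact Opens.mem_iSup.2 ⟨i, y, hy⟩
  · let e := (PicF.XTmap f (a i)).isoOpensRange
    refine Coherent.isCoh_of_iso
      (((Scheme.Modules.restrictFunctorIsoPullback _).app F ≪≫
        (Scheme.Modules.pullbackCongr (Scheme.Hom.isoOpensRange_inv_comp (PicF.XTmap f (a i))).symm).app F ≪≫
        ((Scheme.Modules.pullbackComp e.inv (PicF.XTmap f (a i))).app F).symm).symm) ?_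
    haveI : IsLocallyNoetherian (PicF.XT f (V i)) := isLocallyNoetherian_of_isOpenImmersion (PicF.XTmap f (a i))
    exact ZClosLib.isCoh_pullback _ _ (hc i)
  · obtain ⟨i, hi⟩ := ha (PicF.XTproj f T z)
    obtain ⟨-, y, rfl⟩ := FlatMor12.FlatFun.exists_point f (a i) z hi
    exact Desc19b.isFlatOverAt_of_baseChange _ _ _ _ (FlatMor12.FlatFun.isPullback_XTmap f (a i)) _ y
      (Flat.stalkMap _ _) (hfl i y)

/-- Points on the pieces of a disjoint open cover glue. -/
theorem exists_glue_disjoint {ι : Type u} {V : ι → Over S} (a : ∀ i, V i ⟶ T) [∀ i, IsOpenImmersion (a i).left]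
    (ha : ∀ x : T.left, ∃ i, x ∈ (a i).left.opensRange)
    (hdis : ∀ i l, i ≠ l → Disjoint (Set.range (a i).left) (Set.range (a l).left))
    (K : ∀ i, FGA.QuotSet f E (V i)) : ∃ G : FGA.QuotSet f E T, ∀ i, FGA.quotPull f E (a i) G.1 = (K i).1 := by
  classical
  haveI hoi : ∀ i, IsOpenImmersion (PicF.XTmap f (a i)) := fun i =>
    MorphismProperty.of_isPullback (P := @IsOpenImmersion)
      (FlatMor12.FlatFun.isPullback_XTmap f (a i)).flip inferInstance
  let adj := fun i => Scheme.Modules.pullbackPushforwardAdjunction (PicF.XTmap f (a i))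
  let M : ι → (PicF.XT f T).Modules := fun i =>
    (Scheme.Modules.pushforward (PicF.XTmap f (a i))).obj (cokernel (K i).1.arrow)
  let s' : ∀ i, FGA.ET f E T ⟶ M i := fun i =>
    ((adj i).homEquiv _ _) ((FGA.ETiso f E (a i)).hom ≫ cokernel.π (K i).1.arrow)
  let s : FGA.ET f E T ⟶ ∏ᶜ M := Pi.lift s'
  let q := Abelian.factorThruImage s
  let ρ : ∀ i, Abelian.image s ⟶ M i := fun i => Abelian.image.ι s ≫ Pi.π M i
  let w : ∀ i, (Scheme.Modules.pullback (PicF.XTmap f (a i))).obj (Abelian.image s) ⟶ cokernel (K i).1.arrow :=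
    fun i => (Scheme.Modules.pullback _).map (ρ i) ≫ (adj i).counit.app _
  have hw : ∀ i, bcQ f E (a i) q ≫ w i = cokernel.π (K i).1.arrow := by
    intro i
    have h1 : q ≫ ρ i = s' i := by
      simp only [q, ρ]
      rw [← Category.assoc]
      erw [Abelian.image.fac s]
      exact Pi.lift_π s' i
    rw [bcQ_eq, Category.assoc]
    show _ ≫ _ ≫ (Scheme.Modules.pullback _).map (ρ i) ≫ _ = _
    rw [← Functor.map_comp_assoc, h1, Iso.inv_comp_eq]
    exact ((adj i).homEquiv_counit _ _ _).symm.trans (((adj i).homEquiv _ _).symm_apply_apply _)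
  have hempty : ∀ i l, l ≠ i → ∀ W : (PicF.XT f T).Opens, W ≤ (PicF.XTmap f (a i)).opensRange →
      PicF.XTmap f (a l) ⁻¹ᵁ W = ⊥ := by
    intro i l hl W hW
    refine le_bot_iff.1 fun z hz => ?_
    obtain ⟨y, hy⟩ := hW hz
    have e1 : (a i).left (PicF.XTproj f (V i) y) = (a l).left (PicF.XTproj f (V l) z) := by
      have ei := (FlatMor12.FlatFun.isPullback_XTmap f (a i)).w
      have el := (FlatMor12.FlatFun.isPullback_XTmap f (a l)).w
      rw [← Scheme.Hom.comp_apply, ← ei, ← Scheme.Hom.comp_apply, ← el, Scheme.Hom.comp_apply,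
        Scheme.Hom.comp_apply]
      exact congrArg _ hy
    exact Set.disjoint_left.1 (hdis i l (Ne.symm hl)) ⟨_, rfl⟩ ⟨_, e1.symm⟩
  have hinj : ∀ i (W : (PicF.XT f T).Opens), W ≤ (PicF.XTmap f (a i)).opensRange →
      Function.Injective ((ρ i).app W) := by
    intro i W hW
    rw [injective_iff_map_eq_zero]
    intro x hx
    refine Coherent.app_injective_of_mono (Abelian.image.ι s) W ?_
    rw [map_zero]
    refine GrassLib.pi_sections_ext M fun l => ?_
    rw [map_zero]
    by_cases hl : l = i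
    · subst hl
      exact hx
    · haveI : Subsingleton Γ(cokernel (K l).1.arrow, PicF.XTmap f (a l) ⁻¹ᵁ W) := by
        rw [hempty i l hl W hW]
        exact ⟨fun x y => AmpleLib.sec_ext _ x y fun z hz => hz.elim⟩
      exact Subsingleton.elim (α := Γ(cokernel (K l).1.arrow, PicF.XTmap f (a l) ⁻¹ᵁ W)) _ _
  haveI : ∀ i, IsIso (w i) := by
    intro i
    haveI : Mono ((Scheme.Modules.restrictFunctor (PicF.XTmap f (a i))).map (ρ i)) := by
      refine ⟨fun {N} u v huv => Scheme.Modules.hom_ext _ _ fun U => ?_⟩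
      ext x
      refine hinj i _ ((PicF.XTmap f (a i)).image_le_opensRange U) ?_
      exact congrArg (fun φ : N ⟶ _ => φ.app U x) huv
    haveI : Mono ((Scheme.Modules.pullback (PicF.XTmap f (a i))).map (ρ i)) := by
      rw [← NatIso.naturality_1 (Scheme.Modules.restrictFunctorIsoPullback (PicF.XTmap f (a i))) (ρ i)]
      exact mono_comp _ _
    haveI : Mono (w i) := mono_comp _ _
    haveI : Epi (bcQ f E (a i) q ≫ w i) := by rw [hw]; infer_instance
    haveI : Epi (w i) := epi_of_epi (bcQ f E (a i) q) _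
    exact isIso_of_mono_of_epi _
  haveI := isLocallyNoetherian_XT f (T := T)
  haveI : ∀ i, IsLocallyNoetherian (PicF.XT f (V i)) := fun i =>
    isLocallyNoetherian_of_isOpenImmersion (PicF.XTmap f (a i))
  obtain ⟨hc, hfl⟩ := isCoh_and_flat_of_cover f a ha (Abelian.image s)
    (fun i => Coherent.isCoh_of_iso (asIso (w i)).symm (K i).2.1)
    (fun i x => EGA43.DvrCrit.isFlatOverAt_of_iso _ (asIso (w i)).symm x ((K i).2.2 x))
  refine ⟨mkQuot f E q hc hfl, fun i => ?_⟩
  rw [mkQuot_val, quotPull_kernelSubobject, ← kernelSubobject_comp_iso _ (asIso (w i))]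
  exact (congrArg (fun φ => kernelSubobject φ) (hw i)).trans (kernelSubobject_cokernel (K i).1)

end Groth.Agent.Quot8

end
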