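import Groth.Agent.Quot8.Hilb
import Groth.Agent.Quot8.QuotCalc

/-!
# A Quot scheme from its pieces of constant Hilbert polynomial
-/

set_option autoImplicit false
set_option linter.style.haveILetI false
set_option linter.unusedSectionVars false
set_option backward.isDefEq.respectTransparency false
set_option maxHeartbeats 1000000

universe u

open CategoryTheory CategoryTheory.Limits AlgebraicGeometry TopologicalSpace
open Groth.Agent.Coherent Groth.Agent.PicLib

noncomputable section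

namespace Groth.Agent.Quot8

section Pieces

variable {n : ℕ} {X S : Scheme.{u}} {f : X ⟶ S} [LocallyOfFiniteType f] {E : X.Modules}
  (chiQ : ∀ {T : Over S}, Subobject (FGA.ET f E T) → T.left → ℤ → ℤ)

/-- Pieces of constant Hilbert function assemble to a scheme representing the Quot functor. -/
theorem exists_quot_of_pieces
    (hbc : ∀ {T T' : Over S} [IsLocallyNoetherian T.left] [IsLocallyNoetherian T'.left] (g : T' ⟶ T)
      (K : FGA.QuotSet f E T) (y : T'.left) (d : ℤ), chiQ (FGA.quotPull f E g K.1) y d = chiQ K.1 (g.left y) d)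
    (hpoly : ∀ {T : Over S} [IsLocallyNoetherian T.left] (K : FGA.QuotSet f E T) (y : T.left),
      ∃ Ψ : Polynomial ℚ, ∀ d : ℤ, (chiQ K.1 y d : ℚ) = Ψ.eval (d : ℚ))
    (hopen : ∀ {T : Over S} [IsLocallyNoetherian T.left] (K : FGA.QuotSet f E T) (y : T.left),
      ∃ U : T.left.Opens, y ∈ U ∧ ∀ z ∈ U, ∀ d : ℤ, chiQ K.1 z d = chiQ K.1 y d)
    (Z : Polynomial ℚ → Over S) [∀ Ψ, IsLocallyNoetherian (Z Ψ).left] (KZ : ∀ Ψ, FGA.QuotSet f E (Z Ψ))
    (hKZ : ∀ (Ψ) (y : (Z Ψ).left) (d : ℤ), (chiQ (KZ Ψ).1 y d : ℚ) = Ψ.eval (d : ℚ))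
    (huniv : ∀ (Ψ : Polynomial ℚ) (T : Over S), IsLocallyNoetherian T.left → ∀ K' : FGA.QuotSet f E T,
      (∀ (y : T.left) (d : ℤ), (chiQ K'.1 y d : ℚ) = Ψ.eval (d : ℚ)) →
        ∃! g : T ⟶ Z Ψ, FGA.quotPull f E g (KZ Ψ).1 = K'.1) :
    ∃ K₀ : FGA.QuotSet f E (Over.mk (Sigma.desc fun i : ULift.{u} (Polynomial ℚ) => (Z i.down).hom)),
      FGA.QuotRepresentedBy f E (Over.mk (Sigma.desc fun i : ULift.{u} (Polynomial ℚ) => (Z i.down).hom)) K₀ := by
  classical
  let W := fun i : ULift.{u} (Polynomial ℚ) => (Z i.down).left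
  let Q : Over S := Over.mk (Sigma.desc fun i : ULift.{u} (Polynomial ℚ) => (Z i.down).hom)
  let a : ∀ i : ULift.{u} (Polynomial ℚ), Z i.down ⟶ Q := fun i =>
    Over.homMk (Limits.Sigma.ι W i) (Sigma.ι_desc (fun i : ULift.{u} (Polynomial ℚ) => (Z i.down).hom) i)
  haveI hoi : ∀ i, IsOpenImmersion (a i).left := fun i => inferInstanceAs (IsOpenImmersion (Limits.Sigma.ι W i))
  haveI hLN : IsLocallyNoetherian Q.left :=
    (isLocallyNoetherian_iff_openCover (sigmaOpenCover W)).2 fun i => inferInstanceAs (IsLocallyNoetherian (Z i.down).left)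
  have hcov : ∀ x : Q.left, ∃ i, x ∈ (a i).left.opensRange := fun x => by
    obtain ⟨i, z, hz⟩ : ∃ (i : ULift.{u} (Polynomial ℚ)) (z : W i), Limits.Sigma.ι W i z = x :=
      (sigmaOpenCover W).exists_eq x
    exact ⟨i, z, hz⟩
  have hdis : ∀ i l, i ≠ l → Disjoint (Set.range (a i).left) (Set.range (a l).left) := fun i l h => by
    refine Set.disjoint_left.2 ?_
    rintro _ ⟨x, rfl⟩ ⟨y, hy⟩
    have h1 : sigmaMk W ⟨l, y⟩ = sigmaMk W ⟨i, x⟩ := by
      rw [sigmaMk_mk, sigmaMk_mk]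
      exact hy
    exact h (congrArg Sigma.fst ((sigmaMk W).injective h1)).symm
  obtain ⟨K₀, hK₀⟩ := exists_glue_disjoint f E a hcov hdis fun i => KZ i.down
  have heval : ∀ (p q : Polynomial ℚ), (∀ d : ℤ, p.eval (d : ℚ) = q.eval (d : ℚ)) → p = q := fun p q h' =>
    Polynomial.eq_of_infinite_eval_eq _ _ (Set.infinite_of_injective_forall_mem
      (f := fun d : ℤ => (d : ℚ)) Int.cast_injective fun d => h' d)
  refine ⟨K₀, hLN, fun T hT K => ?_⟩
  haveI := hT
  choose P hP using fun y : T.left => hpoly K y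
  let U : ULift.{u} (Polynomial ℚ) → T.left.Opens := fun i => ⟨{y | P y = i.down}, by
    refine isOpen_iff_forall_mem_open.2 fun y hy => ?_
    obtain ⟨V, hyV, hV⟩ := hopen K y
    refine ⟨V, fun z hz => ?_, V.2, hyV⟩
    show P z = i.down
    rw [← (show P y = i.down from hy)]
    exact heval _ _ fun d => ((hP z d).symm.trans (congrArg (fun m : ℤ => (m : ℚ)) (hV z hz d))).trans (hP y d)⟩
  let V : ULift.{u} (Polynomial ℚ) → Over S := fun i => Over.mk ((U i).ι ≫ T.hom)
  let b : ∀ i, V i ⟶ T := fun i => Over.homMk (U i).ι rfl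
  haveI : ∀ i, IsOpenImmersion (b i).left := fun i => inferInstanceAs (IsOpenImmersion (U i).ι)
  haveI hVLN : ∀ i, IsLocallyNoetherian (V i).left := fun i => isLocallyNoetherian_of_isOpenImmersion (b i).left
  have hbcov : ∀ y : T.left, ∃ i, y ∈ (b i).left.opensRange := fun y =>
    ⟨⟨P y⟩, (U ⟨P y⟩).opensRange_ι.ge (show P y = P y from rfl)⟩
  have hKV : ∀ i, Coh.IsCoh (cokernel (FGA.quotPull f E (b i) K.1).arrow) ∧
      FlatMod.IsFlatOver (PicF.XTproj f (V i)) (cokernel (FGA.quotPull f E (b i) K.1).arrow) := by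
    intro i
    haveI := isLocallyNoetherian_XT f (T := V i)
    haveI := isLocallyNoetherian_XT f (T := T)
    haveI := epi_bcQ f E (b i) (cokernel.π K.1.arrow)
    obtain ⟨j, -⟩ := exists_cokernel_kernelSubobject_iso (bcQ f E (b i) (cokernel.π K.1.arrow))
    have e : FGA.quotPull f E (b i) K.1 = kernelSubobject (bcQ f E (b i) (cokernel.π K.1.arrow)) := by
      conv_lhs => rw [← kernelSubobject_cokernel K.1]
      rw [quotPull_kernelSubobject]
    rw [e]
    exact ⟨Coherent.isCoh_of_iso j.symm (ZClosLib.isCoh_pullback _ _ K.2.1),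
      fun x => EGA43.DvrCrit.isFlatOverAt_of_iso _ j.symm x (Desc19b.isFlatOverAt_baseChange _ _ _ _
        (FlatMor12.FlatFun.isPullback_XTmap f (b i)) _ x (K.2.2 _))⟩
  have hex : ∀ i, ∃! g : V i ⟶ Z i.down, FGA.quotPull f E g (KZ i.down).1 = FGA.quotPull f E (b i) K.1 :=
    fun i => huniv i.down (V i) (hVLN i) ⟨_, hKV i⟩ fun y d => by
      show (chiQ (FGA.quotPull f E (b i) K.1) y d : ℚ) = _
      rw [hbc (b i) K y d, hP]
      exact congrArg (Polynomial.eval (d : ℚ)) (show P ((U i).ι y) = i.down from y.2)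
  choose gV hgV hgu using hex
  let 𝒰 := T.left.openCoverOfIsOpenCover U (top_le_iff.1 fun y _ => Opens.mem_iSup.2 ⟨⟨P y⟩, rfl⟩)
  let φ : T.left ⟶ Q.left := 𝒰.glueMorphisms (fun i => (gV i).left ≫ (a i).left) (by
    intro i l
    by_cases h : i = l
    · subst h
      haveI : Mono (𝒰.f i) := (inferInstance : Mono (U i).ι)
      rw [fst_eq_snd_of_mono_eq (f := 𝒰.f i)]
    · haveI : IsEmpty ↥(pullback (𝒰.f i) (𝒰.f l)) := ⟨fun z => h (ULift.ext _ _ (by
        have h1 : 𝒰.f i (pullback.fst (𝒰.f i) (𝒰.f l) z) = 𝒰.f l (pullback.snd (𝒰.f i) (𝒰.f l) z) := by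
          rw [← Scheme.Hom.comp_apply, ← Scheme.Hom.comp_apply]
          exact congrArg (fun m : pullback (𝒰.f i) (𝒰.f l) ⟶ T.left => m z) pullback.condition
        exact (show P ((U i).ι _) = i.down from (pullback.fst (𝒰.f i) (𝒰.f l) z).2).symm.trans
          ((congrArg P h1).trans (pullback.snd (𝒰.f i) (𝒰.f l) z).2)))⟩
      exact isInitialOfIsEmpty.hom_ext _ _)
  have hφ : ∀ i, (U i).ι ≫ φ = (gV i).left ≫ (a i).left := fun i => 𝒰.ι_glueMorphisms _ _ i
  let g : T ⟶ Q := Over.homMk φ (by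
    refine 𝒰.hom_ext _ _ fun i => ?_
    show (U i).ι ≫ φ ≫ Q.hom = (U i).ι ≫ T.hom
    rw [reassoc_of% hφ i, Over.w (a i), Over.w (gV i)]
    rfl)
  have hg : ∀ i, b i ≫ g = gV i ≫ a i := fun i => Over.OverMorphism.ext (hφ i)
  refine ⟨g, ext_cover f E b hbcov fun i => ?_, fun g' hg' => ?_⟩
  · rw [← quotPull_comp, hg i, quotPull_comp, hK₀ i, hgV i]
  · refine Over.OverMorphism.ext (𝒰.hom_ext _ _ fun i => ?_)
    show (U i).ι ≫ g'.left = (U i).ι ≫ φ
    have hsub : Set.range ((U i).ι ≫ g'.left) ⊆ Set.range (a i).left := by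
      rintro _ ⟨y, rfl⟩
      obtain ⟨l, z, hz⟩ := hcov (g'.left ((U i).ι y))
      suffices l = i by subst this; exact ⟨z, hz⟩
      refine ULift.ext _ _ (heval _ _ fun d => ?_)
      rw [← hKZ l.down z d, ← hK₀ l, hbc (a l) K₀ z d, hz, ← hbc g' K₀ ((U i).ι y) d, hg', hP,
        show P ((U i).ι y) = i.down from y.2]
    have hfac : IsOpenImmersion.lift (a i).left ((U i).ι ≫ g'.left) hsub ≫ (a i).left = (U i).ι ≫ g'.left :=
      IsOpenImmersion.lift_fac _ _ _
    let k : V i ⟶ Z i.down := Over.homMk (IsOpenImmersion.lift (a i).left ((U i).ι ≫ g'.left) hsub) (by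
      rw [← Over.w (a i), ← Category.assoc, hfac, Category.assoc, Over.w g']
      rfl)
    have hk : k ≫ a i = b i ≫ g' := Over.OverMorphism.ext hfac
    have hk' : FGA.quotPull f E k (KZ i.down).1 = FGA.quotPull f E (b i) K.1 := by
      rw [← hK₀ i, ← quotPull_comp, hk, quotPull_comp, hg']
    rw [hφ i, ← hgu i k hk']
    exact hfac.symm

end Pieces

end Groth.Agent.Quot8

end
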