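import Groth.Agent.Quot8.FreeTwist
import Groth.Agent.Quot8.ClosedSupp
import Groth.Agent.CohExch.AffineBC0
import Groth.Agent.EGA43.InjFibre.Scheme

/-!
# Quot functors of direct images along closed immersions
-/

set_option autoImplicit false
set_option linter.style.haveILetI false
set_option linter.unusedSectionVars false
set_option backward.isDefEq.respectTransparency false
set_option maxHeartbeats 1000000

universe u

open CategoryTheory CategoryTheory.Limits AlgebraicGeometry Opposite TopologicalSpace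
open Groth.Agent.Coherent

noncomputable section

namespace Groth.Agent.Quot8

theorem kernelSubobject_iso_comp_congr {Z : Scheme.{u}} {A B R R' : Z.Modules} (e : A ≅ B) {u : B ⟶ R} {v : B ⟶ R'}
    [Epi u] [Epi v] (h : kernelSubobject u = kernelSubobject v) :
    kernelSubobject (e.hom ≫ u) = kernelSubobject (e.hom ≫ v) := by
  obtain ⟨k, hk⟩ := exists_iso_of_kernelSubobject_eq u v h
  exact (kernelSubobject_comp_iso (e.hom ≫ u) k).symm.trans
    (kernelSubobject_congr (by rw [Category.assoc, hk]))

variable {X P S : Scheme.{u}} (i : X ⟶ P) (g : P ⟶ S) [IsClosedImmersion i]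

/-- The base change of a closed immersion. -/
def xi (T : Over S) : PicF.XT (i ≫ g) T ⟶ PicF.XT g T :=
  pullback.lift (pullback.fst (i ≫ g) T.hom ≫ i) (pullback.snd (i ≫ g) T.hom)
    (by rw [Category.assoc]; exact pullback.condition)

theorem xi_fst (T : Over S) : xi i g T ≫ pullback.fst g T.hom = pullback.fst (i ≫ g) T.hom ≫ i :=
  pullback.lift_fst _ _ _

theorem xi_proj (T : Over S) : xi i g T ≫ PicF.XTproj g T = PicF.XTproj (i ≫ g) T :=
  pullback.lift_snd _ _ _

theorem isPullback_xi (T : Over S) : IsPullback (pullback.fst (i ≫ g) T.hom) (xi i g T) i (pullback.fst g T.hom) := by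
  refine IsPullback.of_bot ?_ (xi_fst i g T).symm (IsPullback.of_hasPullback g T.hom)
  rw [show xi i g T ≫ pullback.snd g T.hom = pullback.snd (i ≫ g) T.hom from pullback.lift_snd _ _ _]
  exact IsPullback.of_hasPullback (i ≫ g) T.hom

instance isClosedImmersion_xi (T : Over S) : IsClosedImmersion (xi i g T) :=
  MorphismProperty.of_isPullback (P := @IsClosedImmersion) (isPullback_xi i g T) inferInstance

theorem XTmap_xi {T T' : Over S} (a : T' ⟶ T) :
    PicF.XTmap (i ≫ g) a ≫ xi i g T = xi i g T' ≫ PicF.XTmap g a := by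
  apply pullback.hom_ext
  · rw [Category.assoc, Category.assoc, xi_fst, FGA.XTmap_fst, xi_fst, ← Category.assoc, FGA.XTmap_fst]
  · simp [xi, PicF.XTmap, PicF.XT]

variable (E : X.Modules)

/-- The direct image. -/
abbrev pushE : P.Modules := (Scheme.Modules.pushforward i).obj E

/-- The comparison of the two inverse images of the module. -/
def tau (T : Over S) :
    (Scheme.Modules.pullback (pullback.fst (i ≫ g) T.hom ≫ i)).obj (pushE i E) ⟶ FGA.ET (i ≫ g) E T :=
  Grass.quotBC (rfl : pullback.fst (i ≫ g) T.hom ≫ i = _)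
    ((Scheme.Modules.pullbackPushforwardAdjunction i).counit.app E)

instance isIso_tau (T : Over S) : IsIso (tau i g E T) := by
  haveI := DCat.ClosedPush.isIso_counit i E
  unfold tau Grass.quotBC
  infer_instance

/-- The module on the closed subfamily is the restriction of its direct image. -/
def beta (T : Over S) :
    FGA.ET (i ≫ g) E T ≅ (Scheme.Modules.pullback (xi i g T)).obj (FGA.ET g (pushE i E) T) :=
  (asIso (tau i g E T)).symm ≪≫ (bcGenIso (xi i g T) (pullback.fst g T.hom) (xi_fst i g T) (pushE i E)).symm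

theorem beta_comp {T : Over S} {R : (PicF.XT g T).Modules} (q : FGA.ET g (pushE i E) T ⟶ R) :
    (beta i g E T).hom ≫ (Scheme.Modules.pullback (xi i g T)).map q =
      inv (tau i g E T) ≫ Grass.quotBC (xi_fst i g T) q := by
  rw [quotBC_eq_gen]
  simp [beta]

/-- A point of the Quot functor of the direct image restricted to the closed subfamily. -/
def pullK (T : Over S) (K : Subobject (FGA.ET g (pushE i E) T)) : Subobject (FGA.ET (i ≫ g) E T) :=
  kernelSubobject ((beta i g E T).hom ≫ (Scheme.Modules.pullback (xi i g T)).map (cokernel.π K.arrow))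

theorem pullK_kernelSubobject {T : Over S} {R : (PicF.XT g T).Modules} (q : FGA.ET g (pushE i E) T ⟶ R) [Epi q] :
    pullK i g E T (kernelSubobject q) =
      kernelSubobject ((beta i g E T).hom ≫ (Scheme.Modules.pullback (xi i g T)).map q) := by
  obtain ⟨k, hk⟩ := exists_cokernel_kernelSubobject_iso q
  rw [pullK]
  refine (kernelSubobject_comp_iso _ ((Scheme.Modules.pullback (xi i g T)).mapIso k)).symm.trans
    (kernelSubobject_congr ?_)
  rw [Category.assoc, Functor.mapIso_hom, ← Functor.map_comp, hk]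

theorem pullK_quotPull {T T' : Over S} (a : T' ⟶ T) (K : Subobject (FGA.ET g (pushE i E) T)) :
    pullK i g E T' (FGA.quotPull g (pushE i E) a K) = FGA.quotPull (i ≫ g) E a (pullK i g E T K) := by
  conv_lhs => rw [← kernelSubobject_cokernel K, quotPull_kernelSubobject]
  haveI := epi_bcQ g (pushE i E) a (cokernel.π K.arrow)
  rw [pullK_kernelSubobject, pullK]
  haveI : Epi ((Scheme.Modules.pullback (xi i g T)).map (cokernel.π K.arrow)) := Grass.epi_pullback_map _ _
  haveI : Epi ((beta i g E T).hom ≫ (Scheme.Modules.pullback (xi i g T)).map (cokernel.π K.arrow)) := epi_comp _ _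
  rw [quotPull_kernelSubobject]
  refine (kernelSubobject_congr (beta_comp i g E _)).trans (Eq.trans ?_
    (kernelSubobject_congr (congrArg (bcQ (i ≫ g) E a) (beta_comp i g E _)).symm))
  let q := cokernel.π K.arrow
  let w' : (xi i g T' ≫ PicF.XTmap g a) ≫ pullback.fst g T.hom = pullback.fst (i ≫ g) T'.hom ≫ i := by
    rw [Category.assoc, FGA.XTmap_fst, xi_fst]
  -- the two routes from the family over `T`
  have h1 := GrassLib.quotBC_comp q (FGA.XTmap_fst g a) (xi_fst i g T') w'
  have h2 := GrassLib.quotBC_comp q (xi_fst i g T)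
    (show PicF.XTmap (i ≫ g) a ≫ (pullback.fst (i ≫ g) T.hom ≫ i) = pullback.fst (i ≫ g) T'.hom ≫ i by
      rw [← Category.assoc, FGA.XTmap_fst]) (show (PicF.XTmap (i ≫ g) a ≫ xi i g T) ≫ pullback.fst g T.hom = _ by
      rw [XTmap_xi, w'])
  have h3 : Grass.quotBC (show PicF.XTmap (i ≫ g) a ≫ (pullback.fst (i ≫ g) T.hom ≫ i) =
      pullback.fst (i ≫ g) T'.hom ≫ i by rw [← Category.assoc, FGA.XTmap_fst]) (Grass.quotBC (xi_fst i g T) q) =
      tau i g E T' ≫ bcQ (i ≫ g) E a (inv (tau i g E T) ≫ Grass.quotBC (xi_fst i g T) q) := by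
    rw [bcQ_eq, ETiso_eq, ← quotBC_eq_gen]
    refine Eq.trans ?_ (quotBC_quotBC_comp (FGA.XTmap_fst (i ≫ g) a) rfl rfl
      (show PicF.XTmap (i ≫ g) a ≫ (pullback.fst (i ≫ g) T.hom ≫ i) = pullback.fst (i ≫ g) T'.hom ≫ i by
        rw [← Category.assoc, FGA.XTmap_fst])
      ((Scheme.Modules.pullbackPushforwardAdjunction i).counit.app E)
      (inv (tau i g E T) ≫ Grass.quotBC (xi_fst i g T) q))
    congr 1
    exact (IsIso.hom_inv_id_assoc (tau i g E T) _).symm
  have h4 : bcQ (i ≫ g) E a (inv (tau i g E T) ≫ Grass.quotBC (xi_fst i g T) q) =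
      inv (tau i g E T') ≫ Grass.quotBC (show PicF.XTmap (i ≫ g) a ≫ (pullback.fst (i ≫ g) T.hom ≫ i) =
        pullback.fst (i ≫ g) T'.hom ≫ i by rw [← Category.assoc, FGA.XTmap_fst]) (Grass.quotBC (xi_fst i g T) q) := by
    rw [h3, IsIso.inv_hom_id_assoc]
  refine Eq.trans ?_ (kernelSubobject_congr h4.symm)
  have e1 : kernelSubobject (Grass.quotBC (xi_fst i g T') (bcQ g (pushE i E) a q)) =
      kernelSubobject (Grass.quotBC w' q) := by
    refine (kernelSubobject_congr (congrArg (Grass.quotBC (xi_fst i g T'))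
      (show bcQ g (pushE i E) a q = Grass.quotBC (FGA.XTmap_fst g a) q by
        rw [bcQ_eq, ETiso_eq, ← quotBC_eq_gen]))).trans ?_
    exact (kernelSubobject_congr h1.symm).trans (kernelSubobject_comp_iso _
      ((Scheme.Modules.pullbackComp (xi i g T') (PicF.XTmap g a)).symm.app _))
  have e2 : kernelSubobject (Grass.quotBC (show PicF.XTmap (i ≫ g) a ≫ (pullback.fst (i ≫ g) T.hom ≫ i) =
        pullback.fst (i ≫ g) T'.hom ≫ i by rw [← Category.assoc, FGA.XTmap_fst]) (Grass.quotBC (xi_fst i g T) q)) =
      kernelSubobject (Grass.quotBC w' q) := by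
    refine ((kernelSubobject_congr h2.symm).trans (kernelSubobject_comp_iso _
      ((Scheme.Modules.pullbackComp (PicF.XTmap (i ≫ g) a) (xi i g T)).symm.app _))).trans ?_
    exact kernelSubobject_quotBC_congr q (XTmap_xi i g a) _ w'
  exact kernelSubobject_iso_comp_congr (asIso (tau i g E T')).symm (e1.trans e2.symm)

variable [Coh.IsQCoh E]

theorem supp_ET (T : Over S) : Supp (xi i g T) (FGA.ET g (pushE i E) T) := by
  haveI := CohExch.isIso_bc0_of_affine (isPullback_xi i g T) E
  exact supp_of_iso _ (asIso (CohBC.bc0 i (pullback.fst g T.hom) (xi i g T) (pullback.fst (i ≫ g) T.hom)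
    (isPullback_xi i g T).w E)).symm (supp_push _ _)

theorem supp_cokernel (T : Over S) (K : Subobject (FGA.ET g (pushE i E) T)) :
    Supp (xi i g T) (cokernel K.arrow) :=
  supp_of_epi _ (cokernel.π K.arrow) (supp_ET i g E T)

theorem pullK_injective (T : Over S) : Function.Injective (pullK i g E T) := fun K K' h => by
  haveI : ∀ K : Subobject (FGA.ET g (pushE i E) T),
      Epi ((Scheme.Modules.pullback (xi i g T)).map (cokernel.π K.arrow)) := fun _ => Grass.epi_pullback_map _ _
  haveI : ∀ K : Subobject (FGA.ET g (pushE i E) T), Epi ((beta i g E T).hom ≫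
      (Scheme.Modules.pullback (xi i g T)).map (cokernel.π K.arrow)) := fun _ => epi_comp _ _
  obtain ⟨k, hk⟩ := exists_iso_of_kernelSubobject_eq _ _ h
  rw [Category.assoc, cancel_epi] at hk
  rw [← kernelSubobject_cokernel K, ← kernelSubobject_cokernel K', kernelSubobject_eq_iff]
  exact exists_iso_of_pullback _ (supp_cokernel i g E T K) (supp_cokernel i g E T K') _ _ k hk

/-- The transposed quotient. -/
def transQ {T : Over S} {Q : (PicF.XT (i ≫ g) T).Modules} (r : FGA.ET (i ≫ g) E T ⟶ Q) :
    FGA.ET g (pushE i E) T ⟶ (Scheme.Modules.pushforward (xi i g T)).obj Q :=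
  (Scheme.Modules.pullbackPushforwardAdjunction (xi i g T)).homEquiv _ _ ((beta i g E T).inv ≫ r)

theorem epi_transQ {T : Over S} {Q : (PicF.XT (i ≫ g) T).Modules} (r : FGA.ET (i ≫ g) E T ⟶ Q) [Epi r] :
    Epi (transQ i g E r) := by
  haveI : Epi ((beta i g E T).inv ≫ r) := epi_comp _ _
  exact epi_transpose _ (supp_ET i g E T) _

theorem pullK_transQ {T : Over S} {Q : (PicF.XT (i ≫ g) T).Modules} (r : FGA.ET (i ≫ g) E T ⟶ Q) [Epi r] :
    pullK i g E T (kernelSubobject (transQ i g E r)) = kernelSubobject r := by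
  haveI := epi_transQ i g E r
  haveI := DCat.ClosedPush.isIso_counit (xi i g T) Q
  rw [pullK_kernelSubobject]
  refine (kernelSubobject_comp_iso _
    (asIso ((Scheme.Modules.pullbackPushforwardAdjunction (xi i g T)).counit.app Q))).symm.trans
    (kernelSubobject_congr ?_)
  have h := ((Scheme.Modules.pullbackPushforwardAdjunction (xi i g T)).homEquiv_counit (g := transQ i g E r)).symm
  rw [asIso_hom, Category.assoc, h, transQ, Equiv.symm_apply_apply, Iso.hom_inv_id_assoc]

end Groth.Agent.Quot8

end
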