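import Groth.Agent.Quot8.QuotCalc

/-!
# Quotients of a quotient module
-/

set_option autoImplicit false
set_option linter.style.haveILetI false
set_option linter.unusedSectionVars false
set_option backward.isDefEq.respectTransparency false
set_option maxHeartbeats 1000000

universe v w u

open CategoryTheory CategoryTheory.Limits AlgebraicGeometry Opposite TopologicalSpace

noncomputable section

namespace Groth.Agent.Quot8

section Abelian

variable {A : Type w} [Category.{v} A] [Abelian A] {M N Q : A}

theorem kernelSubobject_comp_epi_inj (p : M ⟶ N) [Epi p] {Q' : A} (q : N ⟶ Q) (q' : N ⟶ Q') [Epi q] [Epi q'] :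
    kernelSubobject (p ≫ q) = kernelSubobject (p ≫ q') ↔ kernelSubobject q = kernelSubobject q' := by
  haveI : Epi (p ≫ q) := epi_comp _ _
  haveI : Epi (p ≫ q') := epi_comp _ _
  rw [kernelSubobject_eq_iff, kernelSubobject_eq_iff]
  exact exists_congr fun i => by rw [Category.assoc, cancel_epi]

end Abelian

variable {X S : Scheme.{u}} (f : X ⟶ S) {E G : X.Modules} (φ : E ⟶ G)

/-- The base change of a map of modules. -/
abbrev mapET (T : Over S) : FGA.ET f E T ⟶ FGA.ET f G T :=
  (Scheme.Modules.pullback (pullback.fst f T.hom)).map φ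

/-- A point of the Quot functor of `G` as a point of that of `E`. -/
def liftK (T : Over S) (K : Subobject (FGA.ET f G T)) : Subobject (FGA.ET f E T) :=
  kernelSubobject (mapET f φ T ≫ cokernel.π K.arrow)

variable [Epi φ]

instance epi_mapET (T : Over S) : Epi (mapET f φ T) := Grass.epi_pullback_map _ φ

theorem liftK_kernelSubobject {T : Over S} {Q : (PicF.XT f T).Modules} (q : FGA.ET f G T ⟶ Q) [Epi q] :
    liftK f φ T (kernelSubobject q) = kernelSubobject (mapET f φ T ≫ q) := by
  rw [liftK, kernelSubobject_comp_epi_inj, kernelSubobject_cokernel]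

theorem liftK_injective (T : Over S) : Function.Injective (liftK f φ T) := fun K K' h => by
  rw [← kernelSubobject_cokernel K, ← kernelSubobject_cokernel K']
  exact (kernelSubobject_comp_epi_inj _ _ _).1 h

omit [Epi φ] in
theorem bcQ_mapET {T T' : Over S} (g : T' ⟶ T) {Q : (PicF.XT f T).Modules} (q : FGA.ET f G T ⟶ Q) :
    bcQ f E g (mapET f φ T ≫ q) = mapET f φ T' ≫ bcQ f G g q := by
  have h := ((Scheme.Modules.pullbackComp (PicF.XTmap f g) (pullback.fst f T.hom)) ≪≫
    (Scheme.Modules.pullbackCongr (FGA.XTmap_fst f g))).inv.naturality φ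
  rw [bcQ_eq, bcQ_eq, Functor.map_comp, ← Category.assoc, ← Category.assoc]
  exact congrArg (fun t => t ≫ (Scheme.Modules.pullback (PicF.XTmap f g)).map q) h.symm

theorem liftK_quotPull {T T' : Over S} (g : T' ⟶ T) (K : Subobject (FGA.ET f G T)) :
    liftK f φ T' (FGA.quotPull f G g K) = FGA.quotPull f E g (liftK f φ T K) := by
  conv_lhs => rw [← kernelSubobject_cokernel K, quotPull_kernelSubobject]
  haveI := epi_bcQ f G g (cokernel.π K.arrow)
  haveI : Epi (mapET f φ T ≫ cokernel.π K.arrow) := epi_comp _ _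
  rw [liftK_kernelSubobject, ← bcQ_mapET, liftK, quotPull_kernelSubobject]

theorem exists_cokernel_liftK_iso (T : Over S) (K : Subobject (FGA.ET f G T)) :
    Nonempty (cokernel (liftK f φ T K).arrow ≅ cokernel K.arrow) := by
  haveI : Epi (mapET f φ T ≫ cokernel.π K.arrow) := epi_comp _ _
  obtain ⟨i, -⟩ := exists_cokernel_kernelSubobject_iso (mapET f φ T ≫ cokernel.π K.arrow)
  exact ⟨i⟩

/-- The points in the image are those containing the kernel. -/
theorem exists_liftK_eq_iff (T : Over S) (K' : Subobject (FGA.ET f E T)) :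
    imageSubobject ((Scheme.Modules.pullback (pullback.fst f T.hom)).map (kernel.ι φ)) ≤ K' ↔
      ∃ K, liftK f φ T K = K' := by
  let F := Scheme.Modules.pullback (pullback.fst f T.hom)
  haveI : F.IsLeftAdjoint := (Scheme.Modules.pullbackPushforwardAdjunction _).isLeftAdjoint
  constructor
  · intro h
    have h0 : F.map (kernel.ι φ) ≫ cokernel.π K'.arrow = 0 := by
      rw [← imageSubobject_arrow_comp (F.map (kernel.ι φ)), ← Subobject.ofLE_arrow h, Category.assoc,
        Category.assoc, cokernel.condition, comp_zero, comp_zero]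
    have hc0 : IsColimit (CokernelCofork.ofπ φ (kernel.condition φ)) :=
      Abelian.epiIsCokernelOfKernel (KernelFork.ofι (kernel.ι φ) (kernel.condition φ)) (kernelIsKernel φ)
    have hc' := CokernelCofork.mapIsColimit _ hc0 F
    obtain ⟨d, hd⟩ : ∃ d : FGA.ET f G T ⟶ cokernel K'.arrow, mapET f φ T ≫ d = cokernel.π K'.arrow :=
      ⟨_, hc'.fac (CokernelCofork.ofπ (cokernel.π K'.arrow) h0) WalkingParallelPair.one⟩
    haveI : Epi d := epi_of_epi_fac hd
    exact ⟨kernelSubobject d, by rw [liftK_kernelSubobject, hd, kernelSubobject_cokernel]⟩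
  · rintro ⟨K, rfl⟩
    refine imageSubobject_le _ (factorThruKernelSubobject _ (F.map (kernel.ι φ)) ?_)
      (factorThruKernelSubobject_comp_arrow _ _ _)
    rw [← Category.assoc, ← F.map_comp, kernel.condition, F.map_zero, zero_comp]

/-- Points of the quotient as points of the source. -/
def liftQ [LocallyOfFiniteType f] {T : Over S} [IsLocallyNoetherian T.left] (K : FGA.QuotSet f G T) :
    FGA.QuotSet f E T :=
  haveI : Epi (mapET f φ T ≫ cokernel.π K.1.arrow) := epi_comp _ _
  mkQuot f E (mapET f φ T ≫ cokernel.π K.1.arrow) K.2.1 K.2.2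

theorem liftQ_val [LocallyOfFiniteType f] {T : Over S} [IsLocallyNoetherian T.left] (K : FGA.QuotSet f G T) :
    (liftQ f φ K).1 = liftK f φ T K.1 := rfl

/-- A point of the source containing the kernel is a point of the quotient. -/
theorem exists_liftQ_eq [LocallyOfFiniteType f] {T : Over S} [IsLocallyNoetherian T.left] (K' : FGA.QuotSet f E T)
    (h : imageSubobject ((Scheme.Modules.pullback (pullback.fst f T.hom)).map (kernel.ι φ)) ≤ K'.1) :
    ∃ K : FGA.QuotSet f G T, (liftQ f φ K).1 = K'.1 := by
  obtain ⟨K, hK⟩ := (exists_liftK_eq_iff f φ T K'.1).1 h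
  obtain ⟨i⟩ := exists_cokernel_liftK_iso f φ T K
  haveI := isLocallyNoetherian_XT f (T := T)
  have h2 := K'.2
  rw [← hK] at h2
  exact ⟨⟨K, Coherent.isCoh_of_iso i h2.1, fun x => EGA43.DvrCrit.isFlatOverAt_of_iso _ i x (h2.2 x)⟩, hK⟩

end Groth.Agent.Quot8

end
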