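import Groth.Agent.Quot8.FreeTwist
import Groth.Agent.Quot8.Assemble
import Groth.Agent.Quot8.QuotientQuot
import Groth.Agent.Quot8.ClosedQuot
import Groth.Agent.VarietyLib.HilbStratumLocal
import Groth.Agent.S11743

/-!
# Quot schemes on closed subschemes of projective space
-/

set_option autoImplicit false
set_option linter.style.haveILetI false
set_option linter.unusedSectionVars false
set_option backward.isDefEq.respectTransparency false
set_option maxHeartbeats 1600000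

universe u

open CategoryTheory CategoryTheory.Limits AlgebraicGeometry TopologicalSpace
open Groth.Agent.Coherent

noncomputable section

namespace Groth.Agent.Quot8

variable {n : ℕ} {S : Scheme.{u}}

theorem exists_factor_locus [AlgebraicGeometry.IsNoetherian S]
    (f : CohB1.ProjSpaceOver n S ⟶ S) (hf : f = 𝟙 _ ≫ CohB1.ProjSpaceOver.toBase n S)
    {E G : (CohB1.ProjSpaceOver n S).Modules} (hE : Coh.IsCoh E) (hG : Coh.IsCoh G) (φ : E ⟶ G) [Epi φ]
    (T : Over S) [IsLocallyNoetherian T.left] (K : FGA.QuotSet f E T) :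
    ∃ (T' : Over S) (c : T' ⟶ T), IsClosedImmersion c.left ∧
      ∀ (U : Over S) [IsLocallyNoetherian U.left] (g : U ⟶ T),
        imageSubobject ((Scheme.Modules.pullback (pullback.fst f U.hom)).map (kernel.ι φ)) ≤
            FGA.quotPull f E g K.1 ↔
          ∃ h : U ⟶ T', h ≫ c = g := by
  subst hf
  exact Groth.Agent.S11743.result S n _ (𝟙 _) E G hE hG φ T K

/-- The Quot scheme with a fixed Hilbert polynomial of a quotient of a twisted free module. -/
theorem exists_piece_quotient [AlgebraicGeometry.IsNoetherian S] (p : ℕ) (l : ℤ)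
    {G : (CohB1.ProjSpaceOver n S).Modules} (hG : Coh.IsCoh G) (ψ : EF l S n p ⟶ G) [Epi ψ] (Ψ : Polynomial ℚ) :
    ∃ (Z : Over S) (_ : IsLocallyNoetherian Z.left)
      (K : FGA.QuotSet (CohB1.ProjSpaceOver.toBase n S) G Z),
      QuotHP K.1 Ψ ∧ (∃ (M : ℕ) (c : Z.left ⟶ CohB1.ProjSpaceOver M S), IsClosedImmersion c ∧
        c ≫ CohB1.ProjSpaceOver.toBase M S = Z.hom) ∧
      ∀ (T : Over S), IsLocallyNoetherian T.left →
        ∀ (K' : FGA.QuotSet (CohB1.ProjSpaceOver.toBase n S) G T), QuotHP K'.1 Ψ →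
          ∃! g : T ⟶ Z, FGA.quotPull (CohB1.ProjSpaceOver.toBase n S) G g K.1 = K'.1 := by
  let f := CohB1.ProjSpaceOver.toBase n S
  obtain ⟨Z₁, hZ₁, K₁, hK₁, ⟨M, c₁, hc₁, wc₁⟩, hu₁⟩ := exists_quot_piece (S := S) n p l Ψ
  haveI := hZ₁
  have hE : Coh.IsCoh (EF l S n p) := by
    haveI : IsProper f := (isPn_projSpaceOver n S).isProper
    haveI : IsLocallyNoetherian (CohB1.ProjSpaceOver n S) := LocallyOfFiniteType.isLocallyNoetherian f
    exact EulerLib.isCoh_twist (isInvertible_OT (Groth.Agent.Quot8.hG n S) (-l))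
      (Mumford23.isCoh_freeMod p)
  obtain ⟨Z, c, hc, hZ⟩ := exists_factor_locus f (Category.id_comp _).symm hE hG ψ Z₁ K₁
  haveI := hc
  haveI : IsLocallyNoetherian Z.left := LocallyOfFiniteType.isLocallyNoetherian c.left
  have hQP : Coh.IsCoh (cokernel (FGA.quotPull f (EF l S n p) c K₁.1).arrow) ∧
      FlatMod.IsFlatOver (PicF.XTproj f Z) (cokernel (FGA.quotPull f (EF l S n p) c K₁.1).arrow) := by
    haveI := isLocallyNoetherian_XT f (T := Z)
    haveI := isLocallyNoetherian_XT f (T := Z₁)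
    haveI := epi_bcQ f (EF l S n p) c (cokernel.π K₁.1.arrow)
    obtain ⟨j, -⟩ := exists_cokernel_kernelSubobject_iso (bcQ f (EF l S n p) c (cokernel.π K₁.1.arrow))
    have e : FGA.quotPull f (EF l S n p) c K₁.1 = kernelSubobject (bcQ f (EF l S n p) c (cokernel.π K₁.1.arrow)) := by
      conv_lhs => rw [← kernelSubobject_cokernel K₁.1]
      rw [quotPull_kernelSubobject]
    rw [e]
    exact ⟨Coherent.isCoh_of_iso j.symm (ZClosLib.isCoh_pullback _ _ K₁.2.1),
      fun x => EGA43.DvrCrit.isFlatOverAt_of_iso _ j.symm x (Desc19b.isFlatOverAt_baseChange _ _ _ _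
        (FlatMor12.FlatFun.isPullback_XTmap f c) _ x (K₁.2.2 _))⟩
  obtain ⟨K, hK⟩ := exists_liftQ_eq f ψ ⟨_, hQP⟩ ((hZ Z c).2 ⟨𝟙 _, Category.id_comp _⟩)
  rw [liftQ_val] at hK
  change liftK f ψ Z K.1 = FGA.quotPull f (EF l S n p) c K₁.1 at hK
  have hhp : ∀ (T : Over S) [IsLocallyNoetherian T.left] (L : Subobject (FGA.ET f G T)), QuotHP (liftK f ψ T L) Ψ ↔ QuotHP L Ψ := fun T _ L => by
    obtain ⟨i⟩ := exists_cokernel_liftK_iso f ψ T L
    exact ⟨fun h => h.congr i, fun h => h.congr i.symm⟩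
  refine ⟨Z, inferInstance, K, (hhp Z K.1).1 ?_, ⟨M, c.left ≫ c₁, inferInstance,
    by rw [Category.assoc, wc₁, Over.w c]⟩, fun T hT K' hK' => ?_⟩
  · rw [hK]
    exact hK₁.quotPull c
  haveI := hT
  obtain ⟨g₁, hg₁, hu⟩ := hu₁ T hT (liftQ f ψ K') ((hhp T K'.1).2 hK')
  rw [liftQ_val] at hg₁
  obtain ⟨k, hk⟩ := (hZ T g₁).1 (by
    rw [hg₁]
    exact (exists_liftK_eq_iff f ψ T _).2 ⟨_, rfl⟩)
  refine ⟨k, liftK_injective f ψ T ?_, fun k' hk' => ?_⟩
  · rw [liftK_quotPull, hK, ← quotPull_comp, hk, hg₁]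
  · haveI : IsClosedImmersion c.left := hc
    refine Over.OverMorphism.ext ((cancel_mono c.left).1 ?_)
    have h := hu (k' ≫ c) (by
      show FGA.quotPull f (EF l S n p) (k' ≫ c) K₁.1 = (liftQ f ψ K').1
      rw [quotPull_comp, ← hK, ← liftK_quotPull, hk', liftQ_val])
    rw [← hk] at h
    exact congrArg CommaMorphism.left h

variable {X : Scheme.{u}} (i : X ⟶ CohB1.ProjSpaceOver n S) [IsClosedImmersion i] {E : X.Modules}

/-- The Hilbert function of a point, computed in projective space. -/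
def chiX {T : Over S} (K : Subobject (FGA.ET (i ≫ CohB1.ProjSpaceOver.toBase n S) E T)) (y : T.left) (d : ℤ) : ℤ :=
  chi (PicF.XTproj (CohB1.ProjSpaceOver.toBase n S) T) (hX n T)
    ((Scheme.Modules.pushforward (xi i (CohB1.ProjSpaceOver.toBase n S) T)).obj (cokernel K.arrow)) y d

instance : LocallyOfFiniteType (i ≫ CohB1.ProjSpaceOver.toBase n S) := inferInstance

variable [Coh.IsQCoh E]

theorem exists_push_cokernel_pullK_iso (T : Over S)
    (K : Subobject (FGA.ET (CohB1.ProjSpaceOver.toBase n S) (pushE i E) T)) :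
    Nonempty ((Scheme.Modules.pushforward (xi i (CohB1.ProjSpaceOver.toBase n S) T)).obj
      (cokernel (pullK i _ E T K).arrow) ≅ cokernel K.arrow) := by
  let g := CohB1.ProjSpaceOver.toBase n S
  haveI : Epi ((Scheme.Modules.pullback (xi i g T)).map (cokernel.π K.arrow)) := Grass.epi_pullback_map _ _
  haveI : Epi ((beta i g E T).hom ≫ (Scheme.Modules.pullback (xi i g T)).map (cokernel.π K.arrow)) := epi_comp _ _
  obtain ⟨k, -⟩ := exists_cokernel_kernelSubobject_iso
    ((beta i g E T).hom ≫ (Scheme.Modules.pullback (xi i g T)).map (cokernel.π K.arrow))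
  haveI : IsIso ((Scheme.Modules.pullbackPushforwardAdjunction (xi i g T)).unit.app (cokernel K.arrow)) :=
    supp_cokernel i g E T K
  exact ⟨(Scheme.Modules.pushforward (xi i g T)).mapIso k ≪≫
    (asIso ((Scheme.Modules.pullbackPushforwardAdjunction (xi i g T)).unit.app (cokernel K.arrow))).symm⟩

theorem chiX_pullK (T : Over S) [IsLocallyNoetherian T.left] (K : Subobject (FGA.ET (CohB1.ProjSpaceOver.toBase n S) (pushE i E) T))
    (y : T.left) (d : ℤ) : chiX i (pullK i _ E T K) y d =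
      chi (PicF.XTproj (CohB1.ProjSpaceOver.toBase n S) T) (hX n T) (cokernel K.arrow) y d := by
  obtain ⟨e⟩ := exists_push_cokernel_pullK_iso i T K
  exact chi_congr e y d

/-- A point of the direct image restricts to a point. -/
theorem exists_pullQ (T : Over S) [IsLocallyNoetherian T.left]
    (K : FGA.QuotSet (CohB1.ProjSpaceOver.toBase n S) (pushE i E) T) :
    ∃ K' : FGA.QuotSet (i ≫ CohB1.ProjSpaceOver.toBase n S) E T, K'.1 = pullK i _ E T K.1 := by
  let g := CohB1.ProjSpaceOver.toBase n S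
  let j := xi i g T
  haveI := isLocallyNoetherian_XT g (T := T)
  haveI := isLocallyNoetherian_XT (i ≫ g) (T := T)
  haveI : Epi ((Scheme.Modules.pullback j).map (cokernel.π K.1.arrow)) := Grass.epi_pullback_map _ _
  haveI : Epi ((beta i g E T).hom ≫ (Scheme.Modules.pullback j).map (cokernel.π K.1.arrow)) := epi_comp _ _
  have hC := ZClosLib.isCoh_pullback j _ K.2.1
  haveI := hC.1
  refine ⟨mkQuot (i ≫ g) E ((beta i g E T).hom ≫ (Scheme.Modules.pullback j).map (cokernel.π K.1.arrow)) hC ?_, rfl⟩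
  rw [← xi_proj i g T, ← VarietyLib.isFlatOver_push_iff]
  haveI : IsIso ((Scheme.Modules.pullbackPushforwardAdjunction j).unit.app (cokernel K.1.arrow)) :=
    supp_cokernel i g E T K.1
  exact fun x => EGA43.DvrCrit.isFlatOverAt_of_iso _
    (asIso ((Scheme.Modules.pullbackPushforwardAdjunction j).unit.app (cokernel K.1.arrow))) x (K.2.2 x)

/-- Every point comes from the direct image. -/
theorem exists_pullK_eq (T : Over S) [IsLocallyNoetherian T.left]
    (K' : FGA.QuotSet (i ≫ CohB1.ProjSpaceOver.toBase n S) E T) :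
    ∃ K : FGA.QuotSet (CohB1.ProjSpaceOver.toBase n S) (pushE i E) T, pullK i _ E T K.1 = K'.1 := by
  let g := CohB1.ProjSpaceOver.toBase n S
  haveI := epi_transQ i g E (cokernel.π K'.1.arrow)
  haveI := K'.2.1.1
  refine ⟨mkQuot g (pushE i E) (transQ i g E (cokernel.π K'.1.arrow)) (Coherent.isCoh_push_finite _ K'.2.1) ?_,
    (pullK_transQ i g E (cokernel.π K'.1.arrow)).trans (kernelSubobject_cokernel _)⟩
  rw [VarietyLib.isFlatOver_push_iff, xi_proj]
  exact K'.2.2

theorem chiX_quotPull {T T' : Over S} [IsLocallyNoetherian T.left] [IsLocallyNoetherian T'.left] (a : T' ⟶ T)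
    (K : FGA.QuotSet (i ≫ CohB1.ProjSpaceOver.toBase n S) E T) (y : T'.left) (d : ℤ) :
    chiX i (FGA.quotPull (i ≫ CohB1.ProjSpaceOver.toBase n S) E a K.1) y d = chiX i K.1 (a.left y) d := by
  obtain ⟨L, hL⟩ := exists_pullK_eq i T K
  rw [← hL, ← pullK_quotPull, chiX_pullK, chiX_pullK, chi_cokernel_quotPull]

variable [AlgebraicGeometry.IsNoetherian S]

/-- The Quot scheme with a fixed Hilbert polynomial on a closed subscheme. -/
theorem exists_piece_closed (p : ℕ) (l : ℤ) (hE : Coh.IsCoh E) (ψ : EF l S n p ⟶ pushE i E) [Epi ψ] (Ψ : Polynomial ℚ) :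
    ∃ (Z : Over S) (_ : IsLocallyNoetherian Z.left)
      (K : FGA.QuotSet (i ≫ CohB1.ProjSpaceOver.toBase n S) E Z),
      (∀ y d, (chiX i K.1 y d : ℚ) = Ψ.eval (d : ℚ)) ∧
      (∃ (M : ℕ) (c : Z.left ⟶ CohB1.ProjSpaceOver M S), IsClosedImmersion c ∧
        c ≫ CohB1.ProjSpaceOver.toBase M S = Z.hom) ∧
      ∀ (T : Over S), IsLocallyNoetherian T.left →
        ∀ (K' : FGA.QuotSet (i ≫ CohB1.ProjSpaceOver.toBase n S) E T),
          (∀ y d, (chiX i K'.1 y d : ℚ) = Ψ.eval (d : ℚ)) →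
          ∃! a : T ⟶ Z, FGA.quotPull (i ≫ CohB1.ProjSpaceOver.toBase n S) E a K.1 = K'.1 := by
  obtain ⟨Z, hZ, L, hL, hc, hu⟩ := exists_piece_quotient p l (Coherent.isCoh_push_finite i hE) ψ Ψ
  haveI := hZ
  obtain ⟨K, hK⟩ := exists_pullQ i Z L
  refine ⟨Z, hZ, K, fun y d => ?_, hc, fun T hT K' hK' => ?_⟩
  · rw [hK, chiX_pullK]
    exact hL y d
  haveI := hT
  obtain ⟨L', hL'⟩ := exists_pullK_eq i T K'
  have hiff : ∀ a : T ⟶ Z, FGA.quotPull (i ≫ CohB1.ProjSpaceOver.toBase n S) E a K.1 = K'.1 ↔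
      FGA.quotPull (CohB1.ProjSpaceOver.toBase n S) (pushE i E) a L.1 = L'.1 := fun a => by
    rw [hK, ← pullK_quotPull, ← hL']
    exact (pullK_injective i _ E T).eq_iff
  obtain ⟨a, ha, ha'⟩ := hu T hT L' (fun y d => by
    rw [← chiX_pullK i T L'.1 y d, hL']
    exact hK' y d)
  exact ⟨a, (hiff a).2 ha, fun b hb => ha' b ((hiff b).1 hb)⟩

/-- The Quot scheme on a closed subscheme is a disjoint union of its pieces. -/
theorem exists_quot_closed (p : ℕ) (l : ℤ) (hE : Coh.IsCoh E) (ψ : EF l S n p ⟶ pushE i E) [Epi ψ] :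
    ∃ (Q : Over S) (K : FGA.QuotSet (i ≫ CohB1.ProjSpaceOver.toBase n S) E Q),
      FGA.QuotRepresentedBy (i ≫ CohB1.ProjSpaceOver.toBase n S) E Q K ∧
      ∃ (ι : Type u) (P : ι → Scheme.{u}) (e : (∐ P) ≅ Q.left) (m : ι → ℕ)
        (c : ∀ a, P a ⟶ CohB1.ProjSpaceOver (m a) S),
        ∀ a, IsClosedImmersion (c a) ∧
          c a ≫ CohB1.ProjSpaceOver.toBase (m a) S = Limits.Sigma.ι P a ≫ e.hom ≫ Q.hom := by
  classical
  choose Z hZ KZ hKZ hc huniv using fun Ψ => exists_piece_closed i p l hE ψ Ψ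
  haveI : ∀ Ψ, IsLocallyNoetherian (Z Ψ).left := hZ
  obtain ⟨K₀, hK₀⟩ := exists_quot_of_pieces (f := i ≫ CohB1.ProjSpaceOver.toBase n S) (E := E)
    (fun {T} K y d => chiX i K y d) (fun a K y d => chiX_quotPull i a K y d)
    (fun {T} _ K y => by
      obtain ⟨L, hL⟩ := exists_pullK_eq i T K
      refine (exists_chi_poly L.2.1 (isPn_hX T) y).imp fun _ h d => ?_
      rw [← hL, chiX_pullK]
      exact h.2 d)
    (fun {T} _ K y => by
      obtain ⟨L, hL⟩ := exists_pullK_eq i T K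
      refine (exists_open_hasHP L.2.1 (isPn_hX T) L.2.2 y).imp fun _ h => ⟨h.1, fun z hz d => ?_⟩
      rw [← hL, chiX_pullK, chiX_pullK]
      exact h.2 z hz d)
    Z KZ hKZ huniv
  choose m c hc₁ hc₂ using hc
  refine ⟨_, K₀, hK₀, ULift.{u} (Polynomial ℚ), fun a => (Z a.down).left, Iso.refl _, fun a => m a.down,
    fun a => c a.down, fun a => ⟨hc₁ _, ?_⟩⟩
  rw [hc₂, Iso.refl_hom, Category.id_comp]
  exact (Limits.Sigma.ι_desc (fun a : ULift.{u} (Polynomial ℚ) => (Z a.down).hom) a).symm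

end Groth.Agent.Quot8

end
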