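import Groth.Agent.Quot8.FlatQuotient
import Groth.Agent.H8Lim.ChowPn
import Groth.Agent.S3218

/-!
# Quotients by flat proper equivalence relations are quasi-projective
-/

set_option autoImplicit false
set_option linter.style.haveILetI false
set_option linter.unusedSectionVars false
set_option backward.isDefEq.respectTransparency false
set_option backward.isDefEq.respectTransparency.types false
set_option maxHeartbeats 1000000

universe u

open CategoryTheory CategoryTheory.Limits AlgebraicGeometry TopologicalSpace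
open CohB1 Groth.Agent.H8Coh Groth.Agent.H8Lim Groth.Agent.H8Lim.ChowPn

noncomputable section

namespace Groth.Agent.Quot8

/-- A disjoint union of separated schemes is separated. -/
theorem isSeparated_sigmaDesc {ι : Type u} {Y : ι → Scheme.{u}} {S : Scheme.{u}} (s : ∀ i, Y i ⟶ S)
    [∀ i, IsSeparated (s i)] : IsSeparated (Limits.Sigma.desc s) := by
  let f := Limits.Sigma.desc s
  have hcov : ∀ z : (∐ Y : Scheme.{u}), ∃ (i : ι) (x : Y i), Limits.Sigma.ι Y i x = z := fun z =>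
    (sigmaOpenCover Y).exists_eq z
  refine ⟨IsClosedImmersion.of_isPreimmersion (pullback.diagonal f) (isOpen_compl_iff.1 ?_)⟩
  refine isOpen_iff_forall_mem_open.2 fun z hz => ?_
  obtain ⟨a, x, hx⟩ := hcov (pullback.fst f f z)
  obtain ⟨b, y, hy⟩ := hcov (pullback.snd f f z)
  by_cases hab : a = b
  · subst hab
    have hs : Limits.Sigma.ι Y a ≫ f = s a := Limits.Sigma.ι_desc _ _
    let m : pullback (s a) (s a) ⟶ pullback f f := pullback.map _ _ _ _ (Limits.Sigma.ι Y a) (Limits.Sigma.ι Y a) (𝟙 S)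
      (by rw [Category.comp_id, hs]) (by rw [Category.comp_id, hs])
    have hzm : z ∈ Set.range m := by
      rw [Scheme.Pullback.range_map]
      exact ⟨⟨x, hx⟩, ⟨y, hy⟩⟩
    obtain ⟨w, rfl⟩ := hzm
    have hd : pullback.diagonal (s a) ≫ m = Limits.Sigma.ι Y a ≫ pullback.diagonal f := by
      apply pullback.hom_ext <;> simp [m]
    refine ⟨m '' (Set.range (pullback.diagonal (s a)))ᶜ, ?_,
      m.isOpenEmbedding.isOpenMap _ (pullback.diagonal (s a)).isClosedEmbedding.isClosed_range.isOpen_compl,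
      ⟨w, fun ⟨v, hv⟩ => hz ⟨Limits.Sigma.ι Y a v, by rw [← Scheme.Hom.comp_apply, ← hd, Scheme.Hom.comp_apply, hv]⟩, rfl⟩⟩
    rintro _ ⟨w', hw', rfl⟩ ⟨v, hv⟩
    have h1 : pullback.fst f f (m w') = Limits.Sigma.ι Y a (pullback.fst (s a) (s a) w') := by
      rw [← Scheme.Hom.comp_apply, pullback.lift_fst, Scheme.Hom.comp_apply]
    rw [← hv, ← Scheme.Hom.comp_apply, pullback.diagonal_fst] at h1
    refine hw' ⟨pullback.fst (s a) (s a) w', m.isOpenEmbedding.injective ?_⟩
    rw [← Scheme.Hom.comp_apply, hd, Scheme.Hom.comp_apply, ← h1]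
    exact hv
  · refine ⟨pullback.fst f f ⁻¹' Set.range (Limits.Sigma.ι Y a) ∩ pullback.snd f f ⁻¹' Set.range (Limits.Sigma.ι Y b), ?_,
      ((Limits.Sigma.ι Y a).isOpenEmbedding.isOpen_range.preimage (pullback.fst f f).continuous).inter
        ((Limits.Sigma.ι Y b).isOpenEmbedding.isOpen_range.preimage (pullback.snd f f).continuous),
      ⟨⟨x, hx⟩, ⟨y, hy⟩⟩⟩
    rintro _ ⟨⟨x', hx'⟩, ⟨y', hy'⟩⟩ ⟨v, rfl⟩
    rw [← Scheme.Hom.comp_apply, pullback.diagonal_fst] at hx'
    rw [← Scheme.Hom.comp_apply, pullback.diagonal_snd, ← hx'] at hy'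
    exact hab (congrArg Sigma.fst ((sigmaι_eq_iff Y b a y' x').1 hy')).symm

variable {S : Scheme.{u}}

/-- Two schemes immersed in projective spaces are immersed in one. -/
theorem exists_immersion_coprod {A B : Scheme.{u}} {n m : ℕ} (πA : A ⟶ S) (πB : B ⟶ S)
    (iA : A ⟶ ProjSpaceOver n S) (iB : B ⟶ ProjSpaceOver m S) [IsImmersion iA] [IsImmersion iB]
    (hA : iA ≫ ProjSpaceOver.toBase n S = πA) (hB : iB ≫ ProjSpaceOver.toBase m S = πB) :
    ∃ (N : ℕ) (j : A ⨿ B ⟶ ProjSpaceOver N S), IsImmersion j ∧ j ≫ ProjSpaceOver.toBase N S = coprod.desc πA πB := by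
  obtain ⟨cn, hcn⟩ := exists_section n S
  obtain ⟨cm, hcm⟩ := exists_section m S
  let tn := ProjSpaceOver.toBase n S
  let tm := ProjSpaceOver.toBase m S
  let t1 := ProjSpaceOver.toBase 1 S
  let sQ : pullback tn tm ⟶ S := pullback.fst tn tm ≫ tn
  let s3 : pullback sQ t1 ⟶ S := pullback.fst sQ t1 ≫ sQ
  have hs3 : RelProj.IsHProjective s3 :=
    isHProjective_prod (isHProjective_prod (isHProjective_toBase n) (isHProjective_toBase m)) (isHProjective_toBase 1)
  have hsect : ∀ i, P1.sect S i ≫ t1 = 𝟙 S := fun i => pullback.lift_snd _ _ _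
  let α : A ⟶ pullback sQ t1 := pullback.lift (pullback.lift iA (πA ≫ cm) (by simp [tn, tm, hA, hcm]))
    (πA ≫ P1.sect S 0) (by
      show _ ≫ pullback.fst tn tm ≫ tn = _ ≫ t1
      rw [pullback.lift_fst_assoc, Category.assoc πA, hsect, Category.comp_id]
      exact hA)
  let β : B ⟶ pullback sQ t1 := pullback.lift (pullback.lift (πB ≫ cn) iB (by simp [tn, tm, hB, hcn]))
    (πB ≫ P1.sect S 1) (by
      show _ ≫ pullback.fst tn tm ≫ tn = _ ≫ t1
      rw [pullback.lift_fst_assoc, Category.assoc πB, Category.assoc πB, hsect]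
      exact congrArg (πB ≫ ·) hcn)
  have hα3 : α ≫ s3 = πA := by
    show α ≫ pullback.fst sQ t1 ≫ pullback.fst tn tm ≫ tn = _
    rw [pullback.lift_fst_assoc, pullback.lift_fst_assoc]
    exact hA
  have hβ3 : β ≫ s3 = πB := by
    show β ≫ pullback.fst sQ t1 ≫ pullback.fst tn tm ≫ tn = _
    rw [pullback.lift_fst_assoc, pullback.lift_fst_assoc, Category.assoc πB]
    exact (congrArg (πB ≫ ·) hcn).trans (Category.comp_id _)
  have hα : IsImmersion α := by
    have : IsImmersion (α ≫ pullback.fst sQ t1 ≫ pullback.fst tn tm) := by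
      simp only [α, pullback.lift_fst_assoc, pullback.lift_fst]; infer_instance
    exact IsImmersion.of_comp α (pullback.fst sQ t1 ≫ pullback.fst tn tm)
  have hβ : IsImmersion β := by
    have : IsImmersion (β ≫ pullback.fst sQ t1 ≫ pullback.snd tn tm) := by
      simp only [β, pullback.lift_fst_assoc, pullback.lift_snd]; infer_instance
    exact IsImmersion.of_comp β (pullback.fst sQ t1 ≫ pullback.snd tn tm)
  let D' : Fin (1 + 1) → (pullback sQ t1).Opens := fun j => pullback.snd sQ t1 ⁻¹ᵁ D S j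
  have hαD : ∀ x, α x ∈ D' 0 ∧ α x ∉ D' 1 := fun x => by
    have e : pullback.snd sQ t1 (α x) = P1.sect S 0 (πA x) := by
      rw [← Scheme.Hom.comp_apply, pullback.lift_snd]; rfl
    refine ⟨?_, fun h => absurd ((sect_mem_iff 0 1 (πA x)).1 ?_) (by decide)⟩
    · show pullback.snd sQ t1 (α x) ∈ D S 0
      rw [e]; exact (sect_mem_iff 0 0 _).2 rfl
    · have h' : pullback.snd sQ t1 (α x) ∈ D S 1 := h
      rwa [e] at h'
  have hβD : ∀ x, β x ∈ D' 1 ∧ β x ∉ D' 0 := fun x => by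
    have e : pullback.snd sQ t1 (β x) = P1.sect S 1 (πB x) := by
      rw [← Scheme.Hom.comp_apply, pullback.lift_snd]; rfl
    refine ⟨?_, fun h => absurd ((sect_mem_iff 1 0 (πB x)).1 ?_) (by decide)⟩
    · show pullback.snd sQ t1 (β x) ∈ D S 1
      rw [e]; exact (sect_mem_iff 1 1 _).2 rfl
    · have h' : pullback.snd sQ t1 (β x) ∈ D S 0 := h
      rwa [e] at h'
  have hj : IsImmersion (coprod.desc α β) := isImmersion_coprod_desc α β (D' 0) (D' 1) hαD hβD
  obtain ⟨N, ι, hι, hιs⟩ := hs3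
  refine ⟨N, coprod.desc α β ≫ ι, inferInstance, ?_⟩
  rw [Category.assoc, hιs]
  apply coprod.hom_ext <;> simp [hα3, hβ3]

/-- A quasi-compact scheme immersed in a disjoint union of schemes immersed in projective spaces is immersed in one. -/
theorem exists_immersion_of_sigma {W : Scheme.{u}} [CompactSpace W] (w : W ⟶ S) {ι : Type u} (P : ι → Scheme.{u})
    (p : ∀ a, P a ⟶ S) (r : ι → ℕ) (c : ∀ a, P a ⟶ ProjSpaceOver (r a) S) [∀ a, IsImmersion (c a)]
    (hc : ∀ a, c a ≫ ProjSpaceOver.toBase (r a) S = p a) (θ : W ⟶ ∐ P) [IsImmersion θ]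
    (hθ : θ ≫ Limits.Sigma.desc p = w) :
    ∃ (m : ℕ) (j : W ⟶ ProjSpaceOver m S), IsImmersion j ∧ j ≫ ProjSpaceOver.toBase m S = w := by
  classical
  let A : ι → W.Opens := fun a => θ ⁻¹ᵁ (Limits.Sigma.ι P a).opensRange
  have hA : ∀ y, ∃ a, y ∈ A a := fun y => by
    obtain ⟨a, x, hx⟩ := (sigmaOpenCover P).exists_eq (θ y)
    exact ⟨a, x, hx⟩
  have hdis : ∀ a b, a ≠ b → Disjoint (A a) (A b) := fun a b h => by
    refine disjoint_iff.2 (le_bot_iff.1 ?_)
    rintro y ⟨⟨x, hx⟩, ⟨x', hx'⟩⟩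
    exact h (congrArg Sigma.fst ((sigmaι_eq_iff P a b x x').1 (hx.trans hx'.symm)))
  have key : ∀ (t : Finset ι), ∀ U : W.Opens, U = t.sup A →
      ∃ (m : ℕ) (j : (U : Scheme.{u}) ⟶ ProjSpaceOver m S), IsImmersion j ∧ j ≫ ProjSpaceOver.toBase m S = U.ι ≫ w := by
    intro t
    induction t using Finset.induction_on with
    | empty =>
      intro U hU
      obtain ⟨c₀, hc₀⟩ := exists_section 0 S
      haveI : IsEmpty (U : Scheme.{u}) := ⟨fun y => by
        have h : y.1 ∈ (⊥ : W.Opens) := (hU.trans Finset.sup_empty) ▸ y.2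
        exact h⟩
      refine ⟨0, (U.ι ≫ w) ≫ c₀, ?_, by rw [Category.assoc, hc₀, Category.comp_id]⟩
      infer_instance
    | insert a t hat ih =>
      intro U hU
      obtain ⟨m, j, hj, hjw⟩ := ih (t.sup A) rfl
      haveI := hj
      rw [Finset.sup_insert] at hU
      let θa : (A a : Scheme.{u}) ⟶ P a := IsOpenImmersion.lift (Limits.Sigma.ι P a) ((A a).ι ≫ θ) (by
        rintro _ ⟨y, rfl⟩
        exact y.2)
      have hθa : θa ≫ Limits.Sigma.ι P a = (A a).ι ≫ θ := IsOpenImmersion.lift_fac _ _ _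
      haveI : IsImmersion (θa ≫ Limits.Sigma.ι P a) := by rw [hθa]; infer_instance
      haveI : IsImmersion θa := IsImmersion.of_comp θa (Limits.Sigma.ι P a)
      have hθaw : (θa ≫ c a) ≫ ProjSpaceOver.toBase (r a) S = (A a).ι ≫ w := by
        rw [Category.assoc, hc, ← Limits.Sigma.ι_desc p a, ← Category.assoc, hθa, Category.assoc, hθ]
      obtain ⟨N, k, hk, hkw⟩ := exists_immersion_coprod ((A a).ι ≫ w) ((t.sup A).ι ≫ w) (θa ≫ c a) j hθaw hjw
      have hle₁ : A a ≤ U := hU.symm ▸ le_sup_left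
      have hle₂ : t.sup A ≤ U := hU.symm ▸ le_sup_right
      let f : (A a : Scheme.{u}) ⟶ (U : Scheme.{u}) := W.homOfLE hle₁
      let g : (t.sup A : W.Opens).toScheme ⟶ (U : Scheme.{u}) := W.homOfLE hle₂
      haveI : IsOpenImmersion f := inferInstanceAs (IsOpenImmersion (W.homOfLE hle₁))
      haveI : IsOpenImmersion g := inferInstanceAs (IsOpenImmersion (W.homOfLE hle₂))
      have hcompl : IsCompl f.opensRange g.opensRange := by
        have hd : Disjoint (A a) (t.sup A) := Finset.disjoint_sup_right.2 fun b hb => hdis a b fun h => hat (h ▸ hb)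
        refine ⟨disjoint_iff.2 (le_bot_iff.1 ?_), codisjoint_iff.2 (top_le_iff.1 ?_)⟩
        · rintro y ⟨⟨y₁, h₁⟩, ⟨y₂, h₂⟩⟩
          have e₁ : U.ι y = (A a).ι y₁ := by rw [← h₁, ← Scheme.Hom.comp_apply, Scheme.homOfLE_ι]
          have e₂ : U.ι y = (t.sup A).ι y₂ := by rw [← h₂, ← Scheme.Hom.comp_apply, Scheme.homOfLE_ι]
          exact (disjoint_iff.1 hd).le ⟨show U.ι y ∈ A a from e₁ ▸ y₁.2, show U.ι y ∈ t.sup A from e₂ ▸ y₂.2⟩
        · intro y _
          have hy : y.1 ∈ A a ⊔ t.sup A := hU ▸ y.2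
          rcases hy with h | h
          · exact Or.inl ⟨⟨y.1, h⟩, U.ι.isOpenEmbedding.injective (by rw [← Scheme.Hom.comp_apply, Scheme.homOfLE_ι]; rfl)⟩
          · exact Or.inr ⟨⟨y.1, h⟩, U.ι.isOpenEmbedding.injective (by rw [← Scheme.Hom.comp_apply, Scheme.homOfLE_ι]; rfl)⟩
      obtain ⟨hcol⟩ := nonempty_isColimit_binaryCofanMk_of_isCompl f g hcompl
      let e : (U : Scheme.{u}) ≅ (A a : Scheme.{u}) ⨿ (t.sup A : W.Opens).toScheme :=
        hcol.coconePointUniqueUpToIso (colimit.isColimit _)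
      haveI := hk
      refine ⟨N, e.hom ≫ k, inferInstance, ?_⟩
      rw [Category.assoc, hkw]
      refine BinaryCofan.IsColimit.hom_ext hcol ?_ ?_
      · rw [← Category.assoc]
        have := hcol.comp_coconePointUniqueUpToIso_hom (colimit.isColimit (pair (A a : Scheme.{u}) (t.sup A : W.Opens).toScheme)) ⟨WalkingPair.left⟩
        change f ≫ e.hom = coprod.inl at this
        show (f ≫ e.hom) ≫ _ = f ≫ _
        rw [this, coprod.inl_desc, ← Category.assoc, Scheme.homOfLE_ι]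
      · rw [← Category.assoc]
        have := hcol.comp_coconePointUniqueUpToIso_hom (colimit.isColimit (pair (A a : Scheme.{u}) (t.sup A : W.Opens).toScheme)) ⟨WalkingPair.right⟩
        change g ≫ e.hom = coprod.inr at this
        show (g ≫ e.hom) ≫ _ = g ≫ _
        rw [this, coprod.inr_desc, ← Category.assoc, Scheme.homOfLE_ι]
  obtain ⟨t, ht⟩ := isCompact_univ.elim_finite_subcover (fun a => (A a : Set W)) (fun a => (A a).isOpen)
    fun y _ => Set.mem_iUnion.2 (hA y)
  have htop : (⊤ : W.Opens) = t.sup A := top_le_iff.1 (fun y _ => by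
    obtain ⟨a, ha, hy⟩ := Set.mem_iUnion₂.1 (ht (Set.mem_univ y))
    exact Finset.le_sup (f := A) ha hy) |>.symm
  obtain ⟨m, j, hj, hjw⟩ := key t ⊤ htop
  haveI := hj
  refine ⟨m, W.topIso.inv ≫ j, inferInstance, ?_⟩
  rw [Category.assoc, hjw, ← Category.assoc]
  simp

/-- The quotient by a flat proper equivalence relation of a quasi-projective scheme. -/
theorem exists_quotient_quasiProjective [AlgebraicGeometry.IsNoetherian S] {n : ℕ}
    (X R : Over S) (e : X.left ⟶ ProjSpaceOver n S) [IsImmersion e]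
    (he : e ≫ ProjSpaceOver.toBase n S = X.hom) (f₁ f₂ : R ⟶ X) [IsProper f₁.left] [Flat f₁.left]
    (hinj : ∀ (T : Over S) (r r' : T ⟶ R), r ≫ f₁ = r' ≫ f₁ → r ≫ f₂ = r' ≫ f₂ → r = r')
    (hequiv : ∀ T : Over S, Equivalence (fun a b : T ⟶ X => ∃ r : T ⟶ R, r ≫ f₁ = a ∧ r ≫ f₂ = b)) :
    ∃ (Q : Over S) (q : X ⟶ Q) (w : f₁ ≫ q = f₂ ≫ q),
      Nonempty (IsColimit (Cofork.ofπ q w)) ∧
      (∃ (m : ℕ) (e' : Q.left ⟶ ProjSpaceOver m S), IsImmersion e' ∧ e' ≫ ProjSpaceOver.toBase m S = Q.hom) ∧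
      Function.Surjective q.left ∧ Flat q.left ∧ IsProper q.left ∧
      ∀ (T : Over S) (a b : T ⟶ X), a ≫ q = b ≫ q → ∃ r : T ⟶ R, r ≫ f₁ = a ∧ r ≫ f₂ = b := by
  let g := ProjSpaceOver.toBase n S
  obtain ⟨H, Z, hH, ι, P, ε, r, c, hc⟩ := S3218.result S n (ProjSpaceOver n S) (𝟙 _)
  haveI : IsProper g := RelVALib.isProper_toBase n S
  obtain ⟨H₀, Z₀, -, hH₀⟩ := FlatMor12.HilbOpen.exists_open_represented (𝟙 _ ≫ g) e.coborderRange.ι H Z hH
  haveI : ∀ a, IsClosedImmersion (c a) := fun a => (hc a).1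
  haveI : ∀ a, IsSeparated (Limits.Sigma.ι P a ≫ ε.hom ≫ H.hom) := fun a => by
    rw [← (hc a).2]
    haveI := RelVALib.isProper_toBase (r a) S
    infer_instance
  have hε : Limits.Sigma.desc (fun a => Limits.Sigma.ι P a ≫ ε.hom ≫ H.hom) = ε.hom ≫ H.hom :=
    Limits.Sigma.hom_ext _ _ fun a => Limits.Sigma.ι_desc _ _
  haveI : IsSeparated H.hom := by
    have h := isSeparated_sigmaDesc fun a => Limits.Sigma.ι P a ≫ ε.hom ≫ H.hom
    rw [hε] at h
    exact (MorphismProperty.cancel_left_of_respectsIso @IsSeparated ε.hom H.hom).1 h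
  haveI : IsSeparated (Over.mk (H₀.ι ≫ H.hom)).hom := inferInstanceAs (IsSeparated (H₀.ι ≫ H.hom))
  haveI : LocallyOfFiniteType X.hom := by rw [← he]; infer_instance
  obtain ⟨Q, q, w, k, hk, hcol, hs, hf, hp, heff⟩ := exists_flat_quotient (e.coborderRange.ι ≫ 𝟙 _ ≫ g)
    (Over.mk (H₀.ι ≫ H.hom)) Z₀ hH₀ X R e.liftCoborder
    (by rw [← Category.assoc, Scheme.Hom.liftCoborder_ι, Category.id_comp]; exact he) f₁ f₂ hinj hequiv
  refine ⟨Q, q, w, hcol, ?_, hs, hf, hp, heff⟩
  haveI : CompactSpace X.left := by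
    haveI : IsLocallyNoetherian (ProjSpaceOver n S) := LocallyOfFiniteType.isLocallyNoetherian g
    haveI : CompactSpace (ProjSpaceOver n S) := QuasiCompact.compactSpace_of_compactSpace g
    haveI : AlgebraicGeometry.IsNoetherian (ProjSpaceOver n S) := {}
    refine ⟨e.isEmbedding.isCompact_iff.2 ?_⟩
    exact TopologicalSpace.NoetherianSpace.isCompact _
  haveI : CompactSpace Q.left := ⟨by rw [← hs.range_eq]; exact isCompact_range q.left.continuous⟩
  haveI := hk
  refine exists_immersion_of_sigma Q.hom P (fun a => Limits.Sigma.ι P a ≫ ε.hom ≫ H.hom) r c (fun a => (hc a).2)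
    (k.left ≫ H₀.ι ≫ ε.inv) ?_
  rw [hε, Category.assoc, Category.assoc, Iso.inv_hom_id_assoc]
  exact Over.w k

end Groth.Agent.Quot8

end
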