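import Groth.Agent.TwistLib.G.Gen
import Groth.Agent.Coherent.ProjSpaceBase
import Groth.Agent.PicLib.FlatTriv
import Groth.Agent.TwistLib.TwistInv
import Groth.Agent.UPLib.Basic
import Groth.Agent.UPLib.SecKernel
import Groth.Prelude.Def_GrTwist

/-!
# `O(t)` on projective space commutes with change of the coefficient ring
-/

set_option autoImplicit false
set_option linter.style.haveILetI false
set_option backward.isDefEq.respectTransparency.types false

universe u

open CategoryTheory AlgebraicGeometry TopologicalSpace Opposite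
open Groth.Agent.Coherent Groth.Agent.PicLib Groth.Agent.TwistLib

noncomputable section

namespace Groth.Agent.Quot8

theorem isGen_of_eq {X : Scheme.{u}} {L : X.Modules} {U : X.Opens} {s t : Γ(L, U)} (h : s = t) (hs : IsGen L U s) :
    IsGen L U t := h ▸ hs

variable (n : ℕ) (R' R : Type u) [CommRing R'] [CommRing R] [Algebra R' R]

/-- `P^n_R → P^n_{R'}`. -/
abbrev projChange : CohB1.ProjSpace n R ⟶ CohB1.ProjSpace n R' :=
  Proj.map (polyGradedMap n R' R) (polyGradedMap_irrelevant n R' R)

/-- `O(t)` on `P^n` commutes with change of the coefficient ring. -/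
theorem nonempty_pullback_twistProjSpace (t : ℤ) :
    Nonempty ((Scheme.Modules.pullback (projChange n R' R)).obj (Twist.twistProjSpace n R' t) ≅
      Twist.twistProjSpace n R t) := by
  obtain ⟨m, rfl⟩ : ∃ m : ℤ, t = m * (1 : ℕ) := ⟨t, by simp⟩
  let g := polyGradedMap n R' R
  let hg := polyGradedMap_irrelevant n R' R
  let h := projChange n R' R
  let θ : Twist.twistProjSpace n R' (m * (1 : ℕ)) ⟶
      (Scheme.Modules.pushforward h).obj (Twist.twistProjSpace n R (m * (1 : ℕ))) :=
    GrTwist.comap g hg (m * (1 : ℕ))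
  let ψ := ((Scheme.Modules.pullbackPushforwardAdjunction h).homEquiv _ _).symm θ
  have hX : ∀ i, (MvPolynomial.X i : MvPolynomial (Fin (n + 1)) R') ∈ CohB1.polyGrading n R' 1 :=
    fun i => MvPolynomial.isHomogeneous_X R' i
  have hX' : ∀ i, g (MvPolynomial.X i) ∈ CohB1.polyGrading n R 1 := fun i => g.map_mem (hX i)
  let O : ULift.{u} (Fin (n + 1)) → (CohB1.ProjSpace n R').Opens := fun i =>
    Proj.basicOpen (CohB1.polyGrading n R') (MvPolynomial.X i.down)
  have hcovI : ⨆ i, O i = ⊤ := eq_top_iff.2 fun x _ => by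
    obtain ⟨i, hi⟩ := UPLib.exists_degOne_projSpace (R := CommRingCat.of R') n x
    exact Opens.mem_iSup.2 ⟨⟨i⟩, hi⟩
  have hcov : ∀ x : ProjectiveSpectrum (CohB1.polyGrading n R'),
      ∃ p ∈ CohB1.polyGrading n R' 1, p ∉ x.asHomogeneousIdeal.toIdeal := fun x => by
    obtain ⟨i, hi⟩ := UPLib.exists_degOne_projSpace (R := CommRingCat.of R') n x
    exact ⟨_, hX i, hi⟩
  have hinv : PicF.IsInvertible (Twist.twistProjSpace n R' (m * (1 : ℕ))) :=
    TwistLib.isInvertible_twist hcov _
  have hsg : ∀ i, IsGen (Twist.twistProjSpace n R' (m * (1 : ℕ))) (O i) (G.tau (hX i.down) m (O i) le_rfl) :=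
    fun i => G.isGen_tau (hX i.down) m
  have hpre : ∀ i, h ⁻¹ᵁ O i = Proj.basicOpen (CohB1.polyGrading n R) (g (MvPolynomial.X i.down)) :=
    fun i => Proj.map_preimage_basicOpen g hg _
  have : IsIso ψ := by
    refine PicLib.isIso_of_gens ψ (fun i => h ⁻¹ᵁ O i) ?_ (fun i => PicLib.pullSec h _)
      (fun i => isGen_pullSec h (hsg i) hinv) fun i => ?_
    · rw [← Scheme.Hom.preimage_iSup, hcovI, Scheme.Hom.preimage_top]
    · rw [homEquiv_symm_app_pullSec]
      refine isGen_of_eq ?_ ((G.isGen_tau (hX' i.down) m).restrict (hpre i).le)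
      refine G.sectN_ext fun y => ?_
      obtain ⟨y, hy⟩ := y
      exact (congrArg₂ Localization.mk (map_pow g _ _).symm (Subtype.ext (map_pow g _ _).symm)).trans
        (GrTwist.locMap_mk g hg y _ _).symm
  exact ⟨asIso ψ⟩

end Groth.Agent.Quot8

end
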