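import Groth.Agent.Quot8.TwistMap
import Groth.Agent.Coherent.ProjSpaceFlat
import Groth.Agent.RelVALib.ChowPn
import Groth.Agent.DCat.PullTensor
import Groth.Agent.DCat.TensorAssoc
import Groth.Agent.EulerLib.Twist
import Groth.Agent.CohExch.TwistBase
import Groth.Agent.ZClosLib.Descent
import Groth.Prelude.Def_FGA

/-!
# Families of projective spaces

`IsPn n π h` says that `π : P ⟶ T` is the base change of `P^n_ℤ` with projection `h`.
-/

set_option autoImplicit false
set_option linter.style.haveILetI false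
set_option backward.isDefEq.respectTransparency.types false

universe u

open CategoryTheory CategoryTheory.Limits AlgebraicGeometry
open Groth.Agent.Coherent Groth.Agent.PicLib Groth.Agent.AmpleLib

noncomputable section

namespace Groth.Agent.Quot8

variable (n : ℕ)

/-- `π : P ⟶ T` is `P^n` over `T`, with projection `h` to `P^n_ℤ`. -/
abbrev IsPn {P T : Scheme.{u}} (π : P ⟶ T) (h : P ⟶ CohB1.ProjSpace n (ULift.{u} ℤ)) : Prop :=
  IsPullback h π (CohB1.ProjSpace.toSpec n (ULift.{u} ℤ)) (specULiftZIsTerminal.from T)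

/-- The twisting sheaves of a family of projective spaces. -/
abbrev OT {P : Scheme.{u}} (h : P ⟶ CohB1.ProjSpace n (ULift.{u} ℤ)) (t : ℤ) : P.Modules :=
  (Scheme.Modules.pullback h).obj (Twist.twistProjSpace n (ULift.{u} ℤ) t)

theorem isPn_projSpaceOver (S : Scheme.{u}) :
    IsPn n (CohB1.ProjSpaceOver.toBase n S)
      (pullback.fst (CohB1.ProjSpace.toSpec n (ULift.{u} ℤ)) (specULiftZIsTerminal.from S)) :=
  IsPullback.of_hasPullback _ _

variable {n} {P T : Scheme.{u}} {π : P ⟶ T} {h : P ⟶ CohB1.ProjSpace n (ULift.{u} ℤ)}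

theorem IsPn.comp (H : IsPn n π h) {P' T' : Scheme.{u}} {π' : P' ⟶ T'} {g : P' ⟶ P} {u : T' ⟶ T}
    (hsq : IsPullback g π' π u) : IsPn n π' (g ≫ h) := by
  show IsPullback _ _ _ _
  rw [specULiftZIsTerminal.hom_ext (specULiftZIsTerminal.from T') (u ≫ specULiftZIsTerminal.from T)]
  exact hsq.paste_horiz H

theorem isPn_XT {S : Scheme.{u}} (T : Over S) :
    IsPn n (PicF.XTproj (CohB1.ProjSpaceOver.toBase n S) T)
      (pullback.fst (CohB1.ProjSpaceOver.toBase n S) T.hom ≫
        pullback.fst (CohB1.ProjSpace.toSpec n (ULift.{u} ℤ)) (specULiftZIsTerminal.from S)) :=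
  (isPn_projSpaceOver n S).comp (IsPullback.of_hasPullback _ _)

theorem IsPn.isPullback_of_comp (H : IsPn n π h) {P' T' : Scheme.{u}} {π' : P' ⟶ T'}
    {h' : P' ⟶ CohB1.ProjSpace n (ULift.{u} ℤ)} (H' : IsPn n π' h') {g : P' ⟶ P} {u : T' ⟶ T}
    (hg : g ≫ h = h') (hu : g ≫ π = π' ≫ u) : IsPullback g π' π u := by
  refine IsPullback.of_right (h₁₂ := h) ?_ hu H
  rw [hg, show u ≫ specULiftZIsTerminal.from T = specULiftZIsTerminal.from T' from
    specULiftZIsTerminal.hom_ext _ _]
  exact H'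

theorem IsPn.isProper (H : IsPn n π h) : IsProper π := by
  haveI := isProper_projSpace_toSpec n (ULift.{u} ℤ)
  exact MorphismProperty.of_isPullback (P := @IsProper) H inferInstance

theorem IsPn.flat (H : IsPn n π h) : Flat π := by
  haveI := Coherent.flat_toBase n T
  let e := H.isoIsPullback _ _ (isPn_projSpaceOver n T)
  have he : e.hom ≫ CohB1.ProjSpaceOver.toBase n T = π := H.isoIsPullback_hom_snd _ _ _
  rw [← he]
  infer_instance

theorem covers_int (x : ProjectiveSpectrum (CohB1.polyGrading n (ULift.{u} ℤ))) :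
    ∃ p ∈ CohB1.polyGrading n (ULift.{u} ℤ) 1, p ∉ x.asHomogeneousIdeal.toIdeal := by
  obtain ⟨i, hi⟩ := UPLib.exists_degOne_projSpace (R := CommRingCat.of (ULift.{u} ℤ)) n x
  exact ⟨_, MvPolynomial.isHomogeneous_X (ULift.{u} ℤ) i, hi⟩

variable (h)

theorem isInvertible_OT (t : ℤ) : PicF.IsInvertible (OT n h t) :=
  PicLoc.isInvertible_pullback _ (TwistLib.isInvertible_twist covers_int t)

theorem nonempty_OT_add {a b c : ℤ} (e : a + b = c) :
    Nonempty (CohB1.tensorMod (OT n h a) (OT n h b) ≅ OT n h c) := by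
  obtain ⟨i⟩ := TwistLib.nonempty_tensor_twist_iso (𝒜 := CohB1.polyGrading n (ULift.{u} ℤ)) covers_int e
  exact ⟨(DCat.PullTensor.pullTensorIso h _ _).symm ≪≫ (Scheme.Modules.pullback h).mapIso i⟩

theorem nonempty_OT_zero : Nonempty (OT n h 0 ≅ Coh.structureModule P) := by
  obtain ⟨i⟩ := TwistLib.nonempty_twist_zero_iso (𝒜 := CohB1.polyGrading n (ULift.{u} ℤ))
  exact ⟨(Scheme.Modules.pullback h).mapIso i ≪≫ PicLoc.pullbackStructureIso h⟩

theorem nonempty_twist_twist (G : P.Modules) {a b c : ℤ} (e : a + b = c) :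
    Nonempty (CohB1.tensorMod (CohB1.tensorMod G (OT n h a)) (OT n h b) ≅ CohB1.tensorMod G (OT n h c)) := by
  obtain ⟨i⟩ := nonempty_OT_add h e
  exact ⟨DCat.TensorAssoc.assocIso _ _ _ ≪≫ AmpleLib.tensorIso (Iso.refl G) i⟩

/-- The twists of a twist, pulled back. -/
theorem nonempty_pullback_twist {P' : Scheme.{u}} (g : P' ⟶ P) (G : P.Modules) (t : ℤ) :
    Nonempty ((Scheme.Modules.pullback g).obj (CohB1.tensorMod G (OT n h t)) ≅
      CohB1.tensorMod ((Scheme.Modules.pullback g).obj G) (OT n (g ≫ h) t)) :=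
  ⟨DCat.PullTensor.pullTensorIso g _ _ ≪≫
    AmpleLib.tensorIso (Iso.refl _) ((Scheme.Modules.pullbackComp g h).app _)⟩

variable {h}

/-- Over an affine point a family of projective spaces is `Proj` of a polynomial ring, twists included. -/
theorem IsPn.exists_projSquare (H : IsPn n π h) {R : Type u} [CommRing R]
    (u : Spec (CommRingCat.of R) ⟶ T) :
    ∃ g : CohB1.ProjSpace n R ⟶ P, IsPullback g (CohB1.ProjSpace.toSpec n R) π u ∧
      ∀ t : ℤ, Nonempty ((Scheme.Modules.pullback g).obj (OT n h t) ≅ Twist.twistProjSpace n R t) := by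
  letI : Algebra (ULift.{u} ℤ) R := ((Int.castRingHom R).comp (ULift.ringEquiv : (ULift.{u} ℤ) ≃+* ℤ).toRingHom).toAlgebra
  have hR : IsPn n (CohB1.ProjSpace.toSpec n R) (projChange n (ULift.{u} ℤ) R) := by
    show IsPullback _ _ _ _
    rw [specULiftZIsTerminal.hom_ext (specULiftZIsTerminal.from _)
      (Spec.map (CommRingCat.ofHom (algebraMap (ULift.{u} ℤ) R)))]
    exact Coherent.isPullback_projSpace n (ULift.{u} ℤ) R
  let g := H.lift (projChange n (ULift.{u} ℤ) R) (CohB1.ProjSpace.toSpec n R ≫ u) (by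
    rw [Category.assoc, show u ≫ specULiftZIsTerminal.from T = specULiftZIsTerminal.from _ from
      specULiftZIsTerminal.hom_ext _ _]
    exact hR.w)
  refine ⟨g, H.isPullback_of_comp hR (H.lift_fst _ _ _) (H.lift_snd _ _ _), fun t => ?_⟩
  obtain ⟨e⟩ := nonempty_pullback_twistProjSpace n (ULift.{u} ℤ) R t
  exact ⟨(Scheme.Modules.pullbackComp g h).app _ ≪≫
    (Scheme.Modules.pullbackCongr (H.lift_fst _ _ _)).app _ ≪≫ e⟩

/-- Twists restricted to an affine point. -/
theorem nonempty_pullback_twist_point {R : Type u} [CommRing R] {g : CohB1.ProjSpace n R ⟶ P}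
    (hg : ∀ t : ℤ, Nonempty ((Scheme.Modules.pullback g).obj (OT n h t) ≅ Twist.twistProjSpace n R t))
    (G : P.Modules) (t : ℤ) :
    Nonempty ((Scheme.Modules.pullback g).obj (CohB1.tensorMod G (OT n h t)) ≅
      CohB1.tensorMod ((Scheme.Modules.pullback g).obj G) (Twist.twistProjSpace n R t)) := by
  obtain ⟨e⟩ := hg t
  exact ⟨DCat.PullTensor.pullTensorIso g _ _ ≪≫ AmpleLib.tensorIso (Iso.refl _) e⟩

theorem isCoh_twist [IsLocallyNoetherian P] {G : P.Modules} (hG : Coh.IsCoh G) (t : ℤ) :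
    Coh.IsCoh (CohB1.tensorMod G (OT n h t)) :=
  EulerLib.isCoh_twist (isInvertible_OT h t) hG

theorem isFlatOver_twist {G : P.Modules} (hG : FlatMod.IsFlatOver π G) (t : ℤ) :
    FlatMod.IsFlatOver π (CohB1.tensorMod G (OT n h t)) :=
  CohExch.isFlatOver_twist π (isInvertible_OT h t) G hG

end Groth.Agent.Quot8

end
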