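import Groth.Agent.Coherent.CohBC.Relative
import Groth.Agent.Coherent.CohBC.PushStructureIso
import Groth.Agent.Coherent.CohBC.SectionSpread
import Groth.Agent.Coherent.CohBC.ClosedFibreMono
import Groth.Agent.CohExch.ChartMain
import Groth.Agent.AmpleLib.CounitEpi
import Groth.Agent.AmpleLib.GenLocus
import Groth.Agent.Props12.FinLocFree
import Groth.Agent.S11319

/-!
# Flat families whose fibres have no higher cohomology
-/

set_option autoImplicit false
set_option linter.style.haveILetI false
set_option backward.isDefEq.respectTransparency.types false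

universe u

open CategoryTheory CategoryTheory.Limits AlgebraicGeometry TopologicalSpace Opposite
open Groth.Agent.Coherent Groth.Agent.PicLib Groth.Agent.AmpleLib Groth.Agent.Coherent.CohBC

noncomputable section

namespace Groth.Agent.Quot8

/-- A map killing all global sections of a globally generated module is zero. -/
theorem eq_zero_of_globallyGenerated {X : Scheme.{u}} {M N : X.Modules} (hM : Curv2.IsGloballyGenerated M)
    (d : M ⟶ N) (h : ∀ s : Γ(M, (⊤ : X.Opens)), d.app ⊤ s = 0) : d = 0 := by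
  obtain ⟨ι, p₀, hp₀⟩ := hM
  let p : freeMod X ι ⟶ M := p₀
  haveI : Epi p := hp₀
  rw [← cancel_epi p, comp_zero]
  refine freeMod_hom_ext fun i => ?_
  rw [comp_zero]
  refine Scheme.Modules.hom_ext _ _ fun W => ?_
  ext r
  show (freeInj i ≫ p ≫ d).app W r = 0
  refine (app_unit (freeInj i ≫ p ≫ d) r).trans ?_
  rw [← resM_unitVal (freeInj i ≫ p ≫ d) (le_top : W ≤ ⊤)]
  have h1 : unitVal (freeInj i ≫ p ≫ d) ⊤ = 0 := h (p.app ⊤ (freeBasisVec i ⊤))
  rw [h1, map_zero, smul_zero]

variable {X S : Scheme.{u}} (f : X ⟶ S) [IsProper f] [IsLocallyNoetherian S] {F : X.Modules}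
  (hF : Coh.IsCoh F) (hfl : FlatMod.IsFlatOver f F)
  (hv : ∀ (y : S) (p : ℕ), 1 ≤ p → CohIII.fiberRank f F p y = 0)

include hF hfl hv

theorem exists_free_nhd_push (y : S) :
    ∃ U : S.Opens, y ∈ U ∧
      Nonempty (((Coh.push f).obj F).restrict U.ι ≅
        FlatMod.freeMod U.toScheme (CohIII.fiberRank f F 0 y)) := by
  haveI := hF.1
  haveI : HasInjectiveResolutions X.Modules := by infer_instance
  obtain ⟨U, hy, -, ⟨e⟩⟩ := exists_free_rpush f F hF hfl 0 ⊤ (fun z _ => hv z 1 le_rfl) (by omega)
    (Opens.mem_top y)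
  exact ⟨U, hy, ⟨(Scheme.Modules.restrictFunctor U.ι).mapIso
    (((Coh.push f).rightDerivedZeroIsoSelf).app F).symm ≪≫ e⟩⟩

theorem isFinLocFree_push : FlatMod.IsFinLocFree ((Coh.push f).obj F) := fun y => by
  obtain ⟨U, hy, h⟩ := exists_free_nhd_push f hF hfl hv y
  exact ⟨U, _, hy, h⟩

theorem isFinLocFreeOfRank_push {r : ℕ} (hr : ∀ y, CohIII.fiberRank f F 0 y = r) :
    FlatMod.IsFinLocFreeOfRank r ((Coh.push f).obj F) := fun y => by
  obtain ⟨U, hy, h⟩ := exists_free_nhd_push f hF hfl hv y
  rw [hr y] at h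
  exact ⟨U, hy, h⟩

theorem isZero_rpushAb (i : ℕ) (hi : 1 ≤ i) : IsZero ((Coh.RpushAb f i).obj (Coh.toAb F)) := by
  haveI := hF.1
  haveI : HasInjectiveResolutions X.Modules := by infer_instance
  haveI : IsLocallyNoetherian X := LocallyOfFiniteType.isLocallyNoetherian f
  haveI : LocallyOfFinitePresentation f := locallyOfFinitePresentation_of_isLocallyNoetherian f
  have h := CohExch.isZero_rpush_of_fibres (f := f) (isFP_of_isCoh hF) hfl i fun y =>
    (subsingleton_fiberH_iff_fiberRank f F hF y i).2 (hv y i hi)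
  obtain ⟨e⟩ := Groth.Agent.S11319.result f F i
  exact ((toAbFunctor S).map_isZero h).of_iso e.symm

theorem epi_counit (hgg : ∀ y, Curv2.IsGloballyGenerated (CohIII.fiberMod f F y)) :
    Epi ((Scheme.Modules.pullbackPushforwardAdjunction f).counit.app F) := by
  haveI := hF.1
  haveI : HasInjectiveResolutions X.Modules := by infer_instance
  haveI : IsLocallyNoetherian X := LocallyOfFiniteType.isLocallyNoetherian f
  let c := (Scheme.Modules.pullbackPushforwardAdjunction f).counit.app F
  haveI := isQCoh_push f F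
  haveI : Coh.IsQCoh ((Scheme.Modules.pullback f).obj ((Scheme.Modules.pushforward f).obj F)) :=
    EGA43.InjFibre.isQCoh_pullback f _
  refine epi_of_surjective_stalks c fun x => ?_
  obtain ⟨y, z, hz⟩ : ∃ (y : S) (z : f.fiber y), (f.fiberι y).base z = x := by
    obtain ⟨z, hz⟩ : x ∈ Set.range (f.fiberι (f.base x)) := by rw [f.range_fiberι]; rfl
    exact ⟨_, z, hz⟩
  have hepi : Epi ((Scheme.Modules.pullback (f.fiberι y)).map c) := by
    refine Preadditive.epi_of_cancel_zero _ fun {C} d hd => ?_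
    refine eq_zero_of_globallyGenerated (hgg y) d fun σ => ?_
    obtain ⟨U, hyU, t, ht⟩ := exists_section_extending f F hF hfl y (hv _ 1 le_rfl) σ
    have h1 : pullSec (f.fiberι y) (show Γ(F, f ⁻¹ᵁ U) from t) =
        ((Scheme.Modules.pullback (f.fiberι y)).map c).app _
          (pullSec (f.fiberι y)
            (pullSec f (show Γ((Scheme.Modules.pushforward f).obj F, U) from t))) := by
      rw [pullback_map_app_pullSec]
      exact congrArg _ (counit_app_pullSec f F U t).symm
    have hle : (⊤ : (f.fiber y).Opens) ≤ f.fiberι y ⁻¹ᵁ (f ⁻¹ᵁ U) := fun w _ => by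
      show f.base ((f.fiberι y).base w) ∈ U
      rw [show f.base ((f.fiberι y).base w) = y from (f.range_fiberι _).le ⟨w, rfl⟩]
      exact hyU
    have h2 : d.app (f.fiberι y ⁻¹ᵁ (f ⁻¹ᵁ U))
        (resM (CohIII.fiberMod f F y) le_top σ) = 0 := by
      rw [← ht, h1]
      exact ConcreteCategory.congr_hom (congrArg (fun φ => Scheme.Modules.Hom.app φ _) hd) _
    have h3 := congrArg (resM C hle) h2
    erw [← app_resM, resM_resM, resM_self, map_zero] at h3
    exact h3
  haveI : Module.Finite (X.presheaf.stalk x) (F.presheaf.stalk x) :=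
    Props12.finite_stalk_of_isFT F hF.2 x
  subst hz
  haveI : Module.Finite (X.presheaf.stalk ((f.fiberι y).base z))
      (((𝟭 X.Modules).obj F).presheaf.stalk ((f.fiberι y).base z)) :=
    Props12.finite_stalk_of_isFT F hF.2 _
  obtain ⟨hs, hker⟩ := Props12.stalkMap_fiberι f _ z
  exact surjective_stalk_of_epi (f.fiberι _) z c hs (by
    rw [hker, IsLocalRing.jacobson_eq_maximalIdeal ⊥ bot_ne_top]
    exact Ideal.map_le_iff_le_comap.2 fun b hb => map_nonunit (f.stalkMap _).hom b hb)

end Groth.Agent.Quot8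

end
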