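import Groth.Agent.Quot8.QuotCalc
import Groth.Agent.Quot8.PnFamily
import Groth.Agent.DCat.RHomLeft

/-!
# Twisting quotients by an invertible module
-/

set_option autoImplicit false
set_option linter.style.haveILetI false
set_option linter.unusedSectionVars false
set_option backward.isDefEq.respectTransparency false
set_option maxHeartbeats 1000000

universe u

open CategoryTheory CategoryTheory.Limits AlgebraicGeometry TopologicalSpace Opposite
open Groth.Agent.Coherent Groth.Agent.PicLib Groth.Agent.AmpleLib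

noncomputable section

namespace Groth.Agent.Quot8

variable {X : Scheme.{u}}

/-- Tensoring on the right. -/
abbrev tensorR (L : X.Modules) : X.Modules ⥤ X.Modules := (DCoh.tensorBi (X := X)).flip.obj L

/-- Two tensor functors compose to the tensor functor of the product. -/
def tensorRComp {L L' : X.Modules} (i : CohB1.tensorMod L L' ≅ Coh.structureModule X) :
    tensorR L ⋙ tensorR L' ≅ 𝟭 X.Modules :=
  (NatIso.ofComponents (fun M => DCat.TensorAssoc.assocIso M L L') (fun f => DCat.TensorAssoc.assocIso_nat₁ f) :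
      tensorR L ⋙ tensorR L' ≅ tensorR (((DCoh.tensorBi (X := X)).obj L).obj L')) ≪≫
    (DCoh.tensorBi (X := X)).flip.mapIso i ≪≫ DCat.RHomLeft.rightUnitIso X

/-- Tensoring with an invertible module is an equivalence. -/
theorem isEquivalence_tensorR {L L' : X.Modules} (i : CohB1.tensorMod L L' ≅ Coh.structureModule X) :
    (tensorR L).IsEquivalence :=
  (CategoryTheory.Equivalence.mk (tensorR L) (tensorR L') (tensorRComp i).symm
    (tensorRComp (AmpleLib.tensorComm L' L ≪≫ i))).isEquivalence_functor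

theorem isEquivalence_tensorR_OT {n : ℕ} (h : X ⟶ CohB1.ProjSpace n (ULift.{u} ℤ)) (c : ℤ) :
    (tensorR (OT n h c)).IsEquivalence := by
  obtain ⟨i⟩ := nonempty_OT_add h (add_neg_cancel c)
  obtain ⟨j⟩ := nonempty_OT_zero (n := n) h
  exact isEquivalence_tensorR (i ≪≫ j)

variable {P P' : Scheme.{u}} {p : P ⟶ X} {p' : P' ⟶ X} {g : P' ⟶ P} {M : X.Modules} (L : X.Modules)

/-- A quotient of an inverse image twisted by an inverse image. -/
def twQ (p : P ⟶ X) {Q : P.Modules} (q : (Scheme.Modules.pullback p).obj M ⟶ Q) :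
    (Scheme.Modules.pullback p).obj (CohB1.tensorMod M L) ⟶ CohB1.tensorMod Q ((Scheme.Modules.pullback p).obj L) :=
  DCat.PullTensor.pullTensorHom p M L ≫ ((DCoh.tensorBi (X := P)).map q).app ((Scheme.Modules.pullback p).obj L)

theorem twQ_app {Q : P.Modules} (q : (Scheme.Modules.pullback p).obj M ⟶ Q) (U : X.Opens) (a : Γ(M, U)) (b : Γ(L, U)) :
    (twQ L p q).app (p ⁻¹ᵁ U) (pullSec p (tmul a b)) = tmul (q.app (p ⁻¹ᵁ U) (pullSec p a)) (pullSec p b) := by
  show (((DCoh.tensorBi (X := P)).map q).app _).app _ ((DCat.PullTensor.pullTensorHom p M L).app _ _) = _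
  rw [DCat.PullTensor.pullTensorHom_pullSec]
  exact DCat.PullTensor.tensorBi_map_tmul q _ _ _

theorem twQ_comp {Q Q' : P.Modules} (q : (Scheme.Modules.pullback p).obj M ⟶ Q) (a : Q ⟶ Q') :
    twQ L p (q ≫ a) = twQ L p q ≫ (tensorR ((Scheme.Modules.pullback p).obj L)).map a := by
  simp [twQ, Category.assoc]

theorem quotBC_rfl_app_pullSec {E : X.Modules} {Q : P.Modules} (q : (Scheme.Modules.pullback p).obj E ⟶ Q)
    {U : X.Opens} (x : Γ(E, U)) :
    (Grass.quotBC (rfl : g ≫ p = g ≫ p) q).app ((g ≫ p) ⁻¹ᵁ U) (pullSec (g ≫ p) x) =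
      pullSec g (q.app (p ⁻¹ᵁ U) (pullSec p x)) := by
  have h0 : Grass.quotBC (rfl : g ≫ p = g ≫ p) q =
      (Scheme.Modules.pullbackComp g p).inv.app E ≫ (Scheme.Modules.pullback g).map q := by
    simp [Grass.quotBC, GrassLib.pullbackCongr_inv_app]
  rw [h0]
  refine Eq.trans ?_ (RelVALib.map_app_pullSec g q (p ⁻¹ᵁ U) (pullSec p x))
  exact congrArg (((Scheme.Modules.pullback g).map q).app (g ⁻¹ᵁ (p ⁻¹ᵁ U)))
    (Coherent.pullbackComp_inv_app_pullSec g p E U x)

/-- Base change commutes with twisting. -/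
theorem exists_quotBC_twQ (w : g ≫ p = p') {Q : P.Modules} (q : (Scheme.Modules.pullback p).obj M ⟶ Q) :
    ∃ i : (Scheme.Modules.pullback g).obj (CohB1.tensorMod Q ((Scheme.Modules.pullback p).obj L)) ≅
        CohB1.tensorMod ((Scheme.Modules.pullback g).obj Q) ((Scheme.Modules.pullback p').obj L),
      Grass.quotBC w (twQ L p q) ≫ i.hom = twQ L p' (Grass.quotBC w q) := by
  subst w
  let i : (Scheme.Modules.pullback g).obj (CohB1.tensorMod Q ((Scheme.Modules.pullback p).obj L)) ≅
      CohB1.tensorMod ((Scheme.Modules.pullback g).obj Q) ((Scheme.Modules.pullback (g ≫ p)).obj L) :=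
    DCat.PullTensor.pullTensorIso g Q ((Scheme.Modules.pullback p).obj L) ≪≫
      AmpleLib.tensorIso (Iso.refl _) ((Scheme.Modules.pullbackComp g p).app L)
  refine ⟨i, DCat.PullTensor.hom_ext_pullback (g ≫ p) fun U a b => ?_⟩
  refine Eq.trans ?_ (twQ_app L (Grass.quotBC rfl q) U a b).symm
  refine (congrArg (i.hom.app ((g ≫ p) ⁻¹ᵁ U)) ((quotBC_rfl_app_pullSec (twQ L p q) (tmul a b)).trans
    (congrArg (pullSec g) (twQ_app L q U a b)))).trans ?_
  refine Eq.trans ?_ (congrArg (fun z => tmul z (pullSec (g ≫ p) b)) (quotBC_rfl_app_pullSec q a).symm)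
  show (AmpleLib.tensorMap (𝟙 _) ((Scheme.Modules.pullbackComp g p).hom.app L)).app (g ⁻¹ᵁ (p ⁻¹ᵁ U))
    ((DCat.PullTensor.pullTensorHom g Q _).app (g ⁻¹ᵁ (p ⁻¹ᵁ U)) (pullSec g (tmul _ _))) = _
  rw [DCat.PullTensor.pullTensorHom_pullSec, AmpleLib.tensorMap_tmul]
  refine congrArg₂ AmpleLib.tmul rfl ?_
  have h1 := pullbackComp_inv_app_pullSec g p L U b
  exact (congrArg (((Scheme.Modules.pullbackComp g p).hom.app L).app (g ⁻¹ᵁ (p ⁻¹ᵁ U))) h1.symm).trans
    (congrArg (fun φ : (Scheme.Modules.pullback (g ≫ p)).obj L ⟶ (Scheme.Modules.pullback (g ≫ p)).obj L =>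
      φ.app _ (pullSec (g ≫ p) b)) ((Scheme.Modules.pullbackComp g p).inv_hom_id_app L))

variable [hL : (tensorR ((Scheme.Modules.pullback p).obj L)).IsEquivalence]

include hL

theorem epi_twQ {Q : P.Modules} (q : (Scheme.Modules.pullback p).obj M ⟶ Q) [Epi q] : Epi (twQ L p q) := by
  haveI h1 : Epi ((tensorR ((Scheme.Modules.pullback p).obj L)).map q) := inferInstance
  haveI : Epi (((DCoh.tensorBi (X := P)).map q).app ((Scheme.Modules.pullback p).obj L)) := h1
  exact epi_comp _ _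

theorem twQ_kernel_eq_iff {Q Q' : P.Modules} (q : (Scheme.Modules.pullback p).obj M ⟶ Q)
    (q' : (Scheme.Modules.pullback p).obj M ⟶ Q') [Epi q] [Epi q'] :
    kernelSubobject (twQ L p q) = kernelSubobject (twQ L p q') ↔ kernelSubobject q = kernelSubobject q' := by
  let F := tensorR ((Scheme.Modules.pullback p).obj L)
  haveI := epi_twQ L q
  haveI := epi_twQ L q'
  rw [kernelSubobject_eq_iff, kernelSubobject_eq_iff]
  constructor
  · rintro ⟨i, hi⟩
    refine ⟨(F.preimageIso i), F.map_injective ?_⟩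
    rw [F.map_comp, Functor.preimageIso_hom, F.map_preimage,
      ← cancel_epi (DCat.PullTensor.pullTensorHom p M L)]
    exact (Category.assoc _ _ _).symm.trans hi
  · rintro ⟨i, hi⟩
    exact ⟨F.mapIso i, by rw [Functor.mapIso_hom, ← twQ_comp, hi]⟩

theorem exists_twQ_eq {Q' : P.Modules} (q' : (Scheme.Modules.pullback p).obj (CohB1.tensorMod M L) ⟶ Q') [Epi q'] :
    ∃ (Q : P.Modules) (q : (Scheme.Modules.pullback p).obj M ⟶ Q) (_ : Epi q)
      (i : CohB1.tensorMod Q ((Scheme.Modules.pullback p).obj L) ≅ Q'), twQ L p q ≫ i.hom = q' := by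
  let F := tensorR ((Scheme.Modules.pullback p).obj L)
  let i := F.objObjPreimageIso Q'
  let φ : F.obj ((Scheme.Modules.pullback p).obj M) ⟶ F.obj (F.objPreimage Q') :=
    inv (DCat.PullTensor.pullTensorHom p M L) ≫ q' ≫ i.inv
  haveI : Epi (q' ≫ i.inv) := epi_comp _ _
  haveI : Epi φ := epi_comp _ _
  haveI : Epi (F.map (F.preimage φ)) := by rw [F.map_preimage]; infer_instance
  refine ⟨_, F.preimage φ, F.epi_of_epi_map inferInstance, i, ?_⟩
  show (DCat.PullTensor.pullTensorHom p M L ≫ F.map (F.preimage φ)) ≫ i.hom = q'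
  rw [F.map_preimage]
  simp [φ]

end Groth.Agent.Quot8

end
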