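import Groth.Agent.Coherent.CohBC.ClosedFibreMono
import Groth.Agent.CAlg15.FourTermFlat
import Groth.Agent.ModStalk.Exact
import Groth.Agent.EGA43.InjFibre.StalkBridge

/-!
# Short exact sequences with flat quotient
-/

set_option autoImplicit false
set_option linter.style.haveILetI false
set_option backward.isDefEq.respectTransparency.types false

universe u

open CategoryTheory CategoryTheory.Limits AlgebraicGeometry TensorProduct Function
open Groth.Agent.Coherent.CohBC

noncomputable section

namespace Groth.Agent.Quot8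

variable {X Y : Scheme.{u}} (f : X ⟶ Y) {F' F : X.Modules} (u : F' ⟶ F)

theorem injective_stalkMapOf [Mono u] (x : X) : Injective (EGA43.InjCokerFlat.stalkMapOf u x) := by
  haveI : Mono ((DerSch.stalkFunctor X x).map u) := inferInstance
  exact (ModuleCat.mono_iff_injective _).1 (inferInstance : Mono ((DerSch.stalkFunctor X x).map u))

/-- A mono with flat cokernel into a flat module stays mono on the fibres. -/
theorem mono_pullback_fiberι [LocallyOfFinitePresentation f] [Coh.IsQCoh F] [Coh.IsQCoh F']
    (hF : CohB1.IsFP F) (hF' : CohB1.IsFP F') (hflat : FlatMod.IsFlatOver f F)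
    (hcok : FlatMod.IsFlatOver f (cokernel u)) [Mono u] (y : Y) :
    Mono ((Scheme.Modules.pullback (f.fiberι y)).map u) := by
  refine mono_of_injective_stalks _ fun z => ?_
  let σ := f.fiberι y
  obtain ⟨hσ, hker⟩ := Props12.stalkMap_fiberι f y z
  have hcond := (EGA43.InjFibre.inj_and_coker_flat_iff f hF hF' u (σ.base z) (hflat _)).1
    ⟨injective_stalkMapOf u _, hcok _⟩
  let _ : Algebra (X.presheaf.stalk (σ.base z)) ((f.fiber y).presheaf.stalk z) := (σ.stalkMap z).hom.toAlgebra
  have hinj : Injective ((ModuleCat.extendScalars (σ.stalkMap z).hom).map (stalkLin σ z u)).hom := by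
    rw [injective_iff_map_eq_zero]
    intro w hw
    obtain ⟨m, rfl⟩ : ∃ m : (DerSch.stalkFunctor X (σ.base z)).obj F',
        w = (1 : (f.fiber y).presheaf.stalk z) ⊗ₜ[X.presheaf.stalk (σ.base z)] m := by
      clear hw
      induction w using TensorProduct.induction_on with
      | zero => exact ⟨0, (tmul_zero _ _).symm⟩
      | tmul c m =>
        obtain ⟨r, rfl⟩ := hσ c
        refine ⟨r • m, ?_⟩
        rw [← smul_tmul, Algebra.smul_def, mul_one]
        rfl
      | add a b ha hb =>
        obtain ⟨m, rfl⟩ := ha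
        obtain ⟨m', rfl⟩ := hb
        exact ⟨m + m', (tmul_add _ _ _).symm⟩
    refine (tmul_one_eq_zero_iff (C := (f.fiber y).presheaf.stalk z) hσ m).2 ?_
    rw [show RingHom.ker (algebraMap (X.presheaf.stalk (σ.base z)) ((f.fiber y).presheaf.stalk z)) = _ from hker]
    refine hcond m ?_
    rw [← hker]
    refine (tmul_one_eq_zero_iff (C := (f.fiber y).presheaf.stalk z) hσ _).1 ?_
    exact (ModuleCat.ExtendScalars.map_tmul _ (stalkLin σ z u) 1 m).symm.trans hw
  haveI : Mono ((ModuleCat.extendScalars (σ.stalkMap z).hom).map (stalkLin σ z u)) :=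
    (ModuleCat.mono_iff_injective _).2 hinj
  have : Mono ((DerSch.stalkFunctor _ z).map ((Scheme.Modules.pullback σ).map u)) := by
    refine ((MorphismProperty.monomorphisms _).arrow_mk_iso_iff
      (Arrow.isoMk ((ModStalk.pullbackStalkIso σ z).app F') ((ModStalk.pullbackStalkIso σ z).app F)
        ((ModStalk.pullbackStalkIso σ z).hom.naturality u).symm)).2 ?_
    exact inferInstanceAs (Mono ((ModuleCat.extendScalars (σ.stalkMap z).hom).map (stalkLin σ z u)))
  exact (ModuleCat.mono_iff_injective _).1 this

/-- The first term of a short exact sequence is flat if the others are. -/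
theorem isFlatOver_of_shortExact {S : ShortComplex X.Modules} (hS : S.ShortExact)
    (h₂ : FlatMod.IsFlatOver f S.X₂) (h₃ : FlatMod.IsFlatOver f S.X₃) : FlatMod.IsFlatOver f S.X₁ := by
  intro x
  let R := Y.presheaf.stalk (f.base x)
  let O := X.presheaf.stalk x
  let _ : Algebra R O := (f.stalkMap x).hom.toAlgebra
  let St := DerSch.stalkFunctor X x
  let _ : Module R (St.obj S.X₁) := FlatMod.moduleStalkOver f S.X₁ x
  let _ : Module R (St.obj S.X₂) := FlatMod.moduleStalkOver f S.X₂ x
  let _ : Module R (St.obj S.X₃) := FlatMod.moduleStalkOver f S.X₃ x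
  have : IsScalarTower R O (St.obj S.X₁) := IsScalarTower.of_compHom _ _ _
  have : IsScalarTower R O (St.obj S.X₂) := IsScalarTower.of_compHom _ _ _
  have : IsScalarTower R O (St.obj S.X₃) := IsScalarTower.of_compHom _ _ _
  have hx := hS.map_of_exact St
  have : Module.Flat R (St.obj S.X₂) := h₂ x
  have : Module.Flat R (St.obj S.X₃) := h₃ x
  have h1 : Injective (St.map S.f).hom := (ModuleCat.mono_iff_injective _).1 hx.mono_f
  have h2 : Surjective (St.map S.g).hom := (ModuleCat.epi_iff_surjective _).1 hx.epi_g
  have h3 : Function.Exact (St.map S.f).hom (St.map S.g).hom :=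
    (ShortComplex.ShortExact.moduleCat_exact_iff_function_exact _).1 hx.exact
  let a : St.obj S.X₁ →ₗ[R] St.obj S.X₂ := (St.map S.f).hom.restrictScalars R
  let b : St.obj S.X₂ →ₗ[R] St.obj S.X₃ := (St.map S.g).hom.restrictScalars R
  have h4 : Module.Flat R (St.obj S.X₁) := CAlg15.FourTerm.flat_of_kernel a b h1 h2 h3
  exact h4

end Groth.Agent.Quot8

end
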