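import Groth.Agent.Quot8.Euler

/-!
# The Quot functor under change of the base
-/

set_option autoImplicit false
set_option linter.style.haveILetI false
set_option linter.unusedSectionVars false
set_option backward.isDefEq.respectTransparency false
set_option backward.isDefEq.respectTransparency.types false
set_option maxHeartbeats 1000000

universe u

open CategoryTheory CategoryTheory.Limits AlgebraicGeometry TopologicalSpace
open Groth.Agent.Coherent Groth.Agent.PicLib

noncomputable section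

namespace Groth.Agent.Quot8

section RePull

variable {Y P P' P'' : Scheme.{u}} {E : Y.Modules} {π : P ⟶ Y} {π' : P' ⟶ Y} {π'' : P'' ⟶ Y} {h : P' ⟶ P}

/-- Pullback of a submodule of an inverse image, as kernel of the pulled back quotient. -/
def rePull (w : h ≫ π = π') (K : Subobject ((Scheme.Modules.pullback π).obj E)) :
    Subobject ((Scheme.Modules.pullback π').obj E) :=
  kernelSubobject (Grass.quotBC w (cokernel.π K.arrow))

theorem rePull_kernelSubobject (w : h ≫ π = π') {Q : P.Modules} (q : (Scheme.Modules.pullback π).obj E ⟶ Q) [Epi q] :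
    rePull w (kernelSubobject q) = kernelSubobject (Grass.quotBC w q) := by
  obtain ⟨k, hk⟩ := exists_cokernel_kernelSubobject_iso q
  rw [rePull]
  refine Eq.trans (kernelSubobject_comp_iso _ ((Scheme.Modules.pullback h).mapIso k)).symm (kernelSubobject_congr ?_)
  rw [Functor.mapIso_hom, ← GrassLib.quotBC_comp_map, hk]

theorem exists_cokernel_rePull_iso (w : h ≫ π = π') (K : Subobject ((Scheme.Modules.pullback π).obj E)) :
    Nonempty (cokernel (rePull w K).arrow ≅ (Scheme.Modules.pullback h).obj (cokernel K.arrow)) := by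
  haveI := GrassLib.epi_quotBC (cokernel.π K.arrow) w
  exact ⟨(exists_cokernel_kernelSubobject_iso (Grass.quotBC w (cokernel.π K.arrow))).choose⟩

theorem rePull_comp {h' : P'' ⟶ P'} {c : P'' ⟶ P} (e : h' ≫ h = c) (w : h ≫ π = π') (w' : h' ≫ π' = π'')
    (wc : c ≫ π = π'') (K : Subobject ((Scheme.Modules.pullback π).obj E)) :
    rePull w' (rePull w K) = rePull wc K := by
  haveI := GrassLib.epi_quotBC (cokernel.π K.arrow) w
  conv_lhs => arg 2; rw [rePull]
  rw [rePull_kernelSubobject]
  exact kernelSubobject_quotBC_comp _ e w wc w'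

theorem rePull_id {c : P ⟶ P} (e : c = 𝟙 P) (w : c ≫ π = π) (K : Subobject ((Scheme.Modules.pullback π).obj E)) :
    rePull w K = K := by
  obtain ⟨i, hi⟩ := exists_quotBC_id π (cokernel.π K.arrow) e w
  rw [← quotBC_eq_gen] at hi
  rw [rePull, ← kernelSubobject_comp_iso _ i, kernelSubobject_congr hi, kernelSubobject_cokernel]

theorem rePull_congr {c d : P' ⟶ P} (e : c = d) (wc : c ≫ π = π') (wd : d ≫ π = π')
    (K : Subobject ((Scheme.Modules.pullback π).obj E)) : rePull wc K = rePull wd K :=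
  kernelSubobject_quotBC_congr _ e wc wd

theorem quotPull_eq_rePull {X S : Scheme.{u}} (f : X ⟶ S) (E : X.Modules) {T T' : Over S} (a : T' ⟶ T)
    (K : Subobject (FGA.ET f E T)) : FGA.quotPull f E a K = rePull (FGA.XTmap_fst f a) K := by
  conv_lhs => rw [← kernelSubobject_cokernel K, quotPull_kernelSubobject]
  rw [rePull, bcQ_eq, ETiso_eq, ← quotBC_eq_gen]

end RePull

section Nested

variable {X' X P P' : Scheme.{u}} {E : X.Modules} {p : X' ⟶ X} {a : P ⟶ X'}

/-- The comparison with an iterated inverse image. -/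
def nestMap (a : P ⟶ X') (p : X' ⟶ X) (E : X.Modules) :
    (Scheme.Modules.pullback (a ≫ p)).obj E ⟶ (Scheme.Modules.pullback a).obj ((Scheme.Modules.pullback p).obj E) :=
  Grass.quotBC (rfl : a ≫ p = a ≫ p) (𝟙 ((Scheme.Modules.pullback p).obj E))

instance isIso_nestMap : IsIso (nestMap a p E) := by
  dsimp only [nestMap, Grass.quotBC]
  infer_instance

/-- A submodule of an iterated inverse image as one of the inverse image. -/
def unnest (K : Subobject ((Scheme.Modules.pullback a).obj ((Scheme.Modules.pullback p).obj E))) :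
    Subobject ((Scheme.Modules.pullback (a ≫ p)).obj E) :=
  kernelSubobject (nestMap a p E ≫ cokernel.π K.arrow)

theorem unnest_kernelSubobject {Q : P.Modules}
    (q : (Scheme.Modules.pullback a).obj ((Scheme.Modules.pullback p).obj E) ⟶ Q) [Epi q] :
    unnest (kernelSubobject q) = kernelSubobject (nestMap a p E ≫ q) := by
  rw [unnest, kernelSubobject_comp_epi_inj, kernelSubobject_cokernel]

theorem unnest_injective : Function.Injective (unnest (a := a) (p := p) (E := E)) := fun K K' h => by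
  rw [← kernelSubobject_cokernel K, ← kernelSubobject_cokernel K']
  exact (kernelSubobject_comp_epi_inj _ _ _).1 h

theorem exists_cokernel_unnest_iso (K : Subobject ((Scheme.Modules.pullback a).obj ((Scheme.Modules.pullback p).obj E))) :
    Nonempty (cokernel (unnest K).arrow ≅ cokernel K.arrow) := by
  haveI : Epi (nestMap a p E ≫ cokernel.π K.arrow) := epi_comp _ _
  exact ⟨(exists_cokernel_kernelSubobject_iso (nestMap a p E ≫ cokernel.π K.arrow)).choose⟩

theorem exists_unnest_eq (K : Subobject ((Scheme.Modules.pullback (a ≫ p)).obj E)) :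
    ∃ K' : Subobject ((Scheme.Modules.pullback a).obj ((Scheme.Modules.pullback p).obj E)), unnest K' = K := by
  haveI : Epi (inv (nestMap a p E) ≫ cokernel.π K.arrow) := epi_comp _ _
  refine ⟨kernelSubobject (inv (nestMap a p E) ≫ cokernel.π K.arrow), ?_⟩
  rw [unnest_kernelSubobject, kernelSubobject_congr (IsIso.hom_inv_id_assoc _ _), kernelSubobject_cokernel]

theorem unnest_rePull {a' : P' ⟶ X'} {g : P' ⟶ P} (w : g ≫ a = a') (hh : g ≫ (a ≫ p) = a' ≫ p)
    (K : Subobject ((Scheme.Modules.pullback a).obj ((Scheme.Modules.pullback p).obj E))) :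
    unnest (rePull w K) = rePull hh (unnest K) := by
  haveI := GrassLib.epi_quotBC (cokernel.π K.arrow) w
  haveI : Epi (nestMap a p E ≫ cokernel.π K.arrow) := epi_comp _ _
  rw [rePull, unnest_kernelSubobject, unnest, rePull_kernelSubobject]
  exact kernelSubobject_congr (quotBC_quotBC_comp w rfl rfl hh (𝟙 _) (cokernel.π K.arrow)).symm

end Nested

section BaseChange

variable {S S' X X' : Scheme.{u}} {j : S' ⟶ S} {f : X ⟶ S} {f' : X' ⟶ S'} {p : X' ⟶ X}

theorem isPullback_bcFam (hsq : IsPullback p f' f j) (T : Over S') :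
    IsPullback (pullback.fst f' T.hom ≫ p) (pullback.snd f' T.hom) f ((Over.map j).obj T).hom :=
  (IsPullback.of_hasPullback f' T.hom).paste_horiz hsq

/-- The family over a scheme over the new base. -/
def bcFam (hsq : IsPullback p f' f j) (T : Over S') : PicF.XT f' T ≅ PicF.XT f ((Over.map j).obj T) :=
  (isPullback_bcFam hsq T).isoPullback

theorem bcFam_hom_fst (hsq : IsPullback p f' f j) (T : Over S') :
    (bcFam hsq T).hom ≫ pullback.fst f ((Over.map j).obj T).hom = pullback.fst f' T.hom ≫ p :=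
  (isPullback_bcFam hsq T).isoPullback_hom_fst

theorem bcFam_hom_proj (hsq : IsPullback p f' f j) (T : Over S') :
    (bcFam hsq T).hom ≫ PicF.XTproj f ((Over.map j).obj T) = PicF.XTproj f' T :=
  (isPullback_bcFam hsq T).isoPullback_hom_snd

theorem bcFam_inv_fst (hsq : IsPullback p f' f j) (T : Over S') :
    (bcFam hsq T).inv ≫ (pullback.fst f' T.hom ≫ p) = pullback.fst f ((Over.map j).obj T).hom :=
  (isPullback_bcFam hsq T).isoPullback_inv_fst

theorem bcFam_inv_proj (hsq : IsPullback p f' f j) (T : Over S') :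
    (bcFam hsq T).inv ≫ PicF.XTproj f' T = PicF.XTproj f ((Over.map j).obj T) :=
  (isPullback_bcFam hsq T).isoPullback_inv_snd

theorem XTmap_bcFam (hsq : IsPullback p f' f j) {T T₁ : Over S'} (a : T₁ ⟶ T) :
    PicF.XTmap f' a ≫ (bcFam hsq T).hom = (bcFam hsq T₁).hom ≫ PicF.XTmap f ((Over.map j).map a) := by
  apply pullback.hom_ext
  · rw [Category.assoc, bcFam_hom_fst, ← Category.assoc, FGA.XTmap_fst, Category.assoc, FGA.XTmap_fst, bcFam_hom_fst]
  · refine (Category.assoc _ _ _).trans ?_
    refine (congrArg (PicF.XTmap f' a ≫ ·) (bcFam_hom_proj hsq T)).trans ?_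
    refine (FlatMor12.FlatFun.isPullback_XTmap f' a).w.trans ?_
    refine Eq.trans ?_ (Category.assoc _ _ _).symm
    refine Eq.trans ?_ (congrArg ((bcFam hsq T₁).hom ≫ ·)
      (FlatMor12.FlatFun.isPullback_XTmap f ((Over.map j).map a)).w).symm
    rw [← Category.assoc, bcFam_hom_proj]
    rfl

variable (hsq : IsPullback p f' f j) (E : X.Modules)

/-- A point over the new base as a point over the old one. -/
def pushBC (T : Over S') (K : Subobject (FGA.ET f' ((Scheme.Modules.pullback p).obj E) T)) :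
    Subobject (FGA.ET f E ((Over.map j).obj T)) :=
  rePull (bcFam_inv_fst hsq T) (unnest K)

theorem pushBC_injective (T : Over S') : Function.Injective (pushBC hsq E T) := fun K K' h => by
  apply unnest_injective
  have h' := congrArg (rePull (bcFam_hom_fst hsq T)) h
  rw [pushBC, pushBC, rePull_comp (Iso.hom_inv_id _) _ _ (Category.id_comp _),
    rePull_comp (Iso.hom_inv_id _) _ _ (Category.id_comp _), rePull_id rfl, rePull_id rfl] at h'
  exact h'

theorem quotPull_pushBC {T T₁ : Over S'} (a : T₁ ⟶ T) (K : Subobject (FGA.ET f' ((Scheme.Modules.pullback p).obj E) T)) :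
    FGA.quotPull f E ((Over.map j).map a) (pushBC hsq E T K) =
      pushBC hsq E T₁ (FGA.quotPull f' ((Scheme.Modules.pullback p).obj E) a K) := by
  have hc : PicF.XTmap f ((Over.map j).map a) ≫ (bcFam hsq T).inv = (bcFam hsq T₁).inv ≫ PicF.XTmap f' a := by
    rw [← cancel_mono (bcFam hsq T).hom, Category.assoc, Category.assoc, Iso.inv_hom_id, Category.comp_id,
      XTmap_bcFam, Iso.inv_hom_id_assoc]
  have hh : PicF.XTmap f' a ≫ (pullback.fst f' T.hom ≫ p) = pullback.fst f' T₁.hom ≫ p := by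
    rw [← Category.assoc, FGA.XTmap_fst]
  have wc : (PicF.XTmap f ((Over.map j).map a) ≫ (bcFam hsq T).inv) ≫ (pullback.fst f' T.hom ≫ p) =
      pullback.fst f ((Over.map j).obj T₁).hom := by
    rw [Category.assoc, bcFam_inv_fst, FGA.XTmap_fst]
  rw [quotPull_eq_rePull, quotPull_eq_rePull, pushBC, pushBC, rePull_comp rfl _ _ wc,
    unnest_rePull (FGA.XTmap_fst f' a) hh, rePull_comp rfl hh _ (hc ▸ wc)]
  exact rePull_congr hc _ _ _

theorem exists_cokernel_pushBC_iso (T : Over S') (K : Subobject (FGA.ET f' ((Scheme.Modules.pullback p).obj E) T)) :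
    Nonempty (cokernel (pushBC hsq E T K).arrow ≅
      (Scheme.Modules.pullback (bcFam hsq T).inv).obj (cokernel K.arrow)) := by
  obtain ⟨e₁⟩ := exists_cokernel_rePull_iso (bcFam_inv_fst hsq T) (unnest K)
  obtain ⟨e₂⟩ := exists_cokernel_unnest_iso K
  exact ⟨e₁ ≪≫ (Scheme.Modules.pullback _).mapIso e₂⟩

theorem isPullback_bcFam_inv (T : Over S') :
    IsPullback (bcFam hsq T).inv (PicF.XTproj f ((Over.map j).obj T)) (PicF.XTproj f' T) (𝟙 T.left) :=
  haveI : IsIso (𝟙 T.left : ((Over.map j).obj T).left ⟶ T.left) := IsIso.id T.left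
  IsPullback.of_horiz_isIso ⟨by rw [bcFam_inv_proj]; exact (Category.comp_id _).symm⟩

variable [LocallyOfFiniteType f] [LocallyOfFiniteType f']

theorem exists_quotSet_pushBC (T : Over S') [IsLocallyNoetherian T.left]
    (K : FGA.QuotSet f' ((Scheme.Modules.pullback p).obj E) T) :
    ∃ K₁ : FGA.QuotSet f E ((Over.map j).obj T), K₁.1 = pushBC hsq E T K.1 := by
  haveI : IsLocallyNoetherian ((Over.map j).obj T).left := ‹IsLocallyNoetherian T.left›
  haveI := isLocallyNoetherian_XT f (T := (Over.map j).obj T)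
  haveI := isLocallyNoetherian_XT f' (T := T)
  obtain ⟨e⟩ := exists_cokernel_pushBC_iso hsq E T K.1
  refine ⟨⟨pushBC hsq E T K.1, Coherent.isCoh_of_iso e.symm (ZClosLib.isCoh_pullback _ _ K.2.1), fun x => ?_⟩, rfl⟩
  exact EGA43.DvrCrit.isFlatOverAt_of_iso _ e.symm x (Desc19b.isFlatOverAt_baseChange _ _ _ _
    (isPullback_bcFam_inv hsq T) _ x (K.2.2 _))

theorem exists_pushBC_eq (T : Over S') [IsLocallyNoetherian T.left] (K₁ : FGA.QuotSet f E ((Over.map j).obj T)) :
    ∃ K : FGA.QuotSet f' ((Scheme.Modules.pullback p).obj E) T, pushBC hsq E T K.1 = K₁.1 := by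
  haveI : IsLocallyNoetherian ((Over.map j).obj T).left := ‹IsLocallyNoetherian T.left›
  haveI := isLocallyNoetherian_XT f (T := (Over.map j).obj T)
  haveI := isLocallyNoetherian_XT f' (T := T)
  obtain ⟨K, hK⟩ := exists_unnest_eq (rePull (bcFam_hom_fst hsq T) K₁.1)
  obtain ⟨e₁⟩ := exists_cokernel_rePull_iso (bcFam_hom_fst hsq T) K₁.1
  obtain ⟨e₂⟩ := exists_cokernel_unnest_iso K
  have e₃ : cokernel K.arrow ≅ (Scheme.Modules.pullback (bcFam hsq T).hom).obj (cokernel K₁.1.arrow) :=
    e₂.symm ≪≫ cokernel.mapIso _ _ (Subobject.isoOfEq _ _ hK) (Iso.refl _) (by simp) ≪≫ e₁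
  have hsq' : IsPullback (bcFam hsq T).hom (PicF.XTproj f' T) (PicF.XTproj f ((Over.map j).obj T)) (𝟙 T.left) :=
    IsPullback.of_horiz_isIso ⟨by rw [bcFam_hom_proj]; exact (Category.comp_id _).symm⟩
  refine ⟨⟨K, Coherent.isCoh_of_iso e₃.symm (ZClosLib.isCoh_pullback _ _ K₁.2.1), fun x =>
    EGA43.DvrCrit.isFlatOverAt_of_iso _ e₃.symm x (Desc19b.isFlatOverAt_baseChange _ _ _ _ hsq' _ x (K₁.2.2 _))⟩, ?_⟩
  show rePull _ (unnest K) = _
  rw [hK, rePull_comp (Iso.inv_hom_id _) _ _ (Category.id_comp _), rePull_id rfl]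

end BaseChange

section Euler

variable {n : ℕ} {S : Scheme.{u}} {X : Scheme.{u}} (i : X ⟶ CohB1.ProjSpaceOver n S) [IsClosedImmersion i]
  {E : X.Modules}

/-- The map of a family to the absolute projective space. -/
abbrev hF (T : Over S) : PicF.XT (i ≫ CohB1.ProjSpaceOver.toBase n S) T ⟶ CohB1.ProjSpace n (ULift.{u} ℤ) :=
  pullback.fst (i ≫ CohB1.ProjSpaceOver.toBase n S) T.hom ≫ i ≫ hG n S

theorem chi_congr_map {P T : Scheme.{u}} {π π' : P ⟶ T} (e : π = π') {h h' : P ⟶ CohB1.ProjSpace n (ULift.{u} ℤ)}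
    (e' : h = h') (G : P.Modules) (y : T) (d : ℤ) : chi π h G y d = chi π' h' G y d := by
  subst e e'
  rfl

theorem chiX_eq_chi (T : Over S) (K : Subobject (FGA.ET (i ≫ CohB1.ProjSpaceOver.toBase n S) E T))
    [Coh.IsQCoh (cokernel K.arrow)] (y : T.left) (d : ℤ) :
    chiX i K y d = chi (PicF.XTproj (i ≫ CohB1.ProjSpaceOver.toBase n S) T) (hF i T) (cokernel K.arrow) y d := by
  let g := CohB1.ProjSpaceOver.toBase n S
  let j := xi i g T
  let π := PicF.XTproj g T
  haveI : IsProper π := (isPn_hX T).isProper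
  have w : j ≫ hX n T = hF i T := by
    show j ≫ pullback.fst g T.hom ≫ hG n S = _
    rw [← Category.assoc, xi_fst, Category.assoc]
  rw [← chi_congr_map (xi_proj i g T) w]
  unfold chiX chi
  refine Finset.sum_congr rfl fun p _ => congrArg (fun m : ℕ => (-1 : ℤ) ^ p * (m : ℤ)) ?_
  haveI : IsIso (DCat.ClosedPush.projMap j (cokernel K.arrow) (OT n (hX n T) d)) :=
    DCat.ClosedPush.isIso_projMap j _ _
  haveI : Coh.IsQCoh (CohB1.tensorMod (cokernel K.arrow) ((Scheme.Modules.pullback j).obj (OT n (hX n T) d))) :=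
    AmpleLib.isQCoh_tensor_invertible _ (PicLoc.isInvertible_pullback j (isInvertible_OT (hX n T) d))
  refine (CohBC.finrank_HH_congr _ ((Scheme.Modules.pullback (π.fiberι y)).mapIso
    (asIso (DCat.ClosedPush.projMap j (cokernel K.arrow) (OT n (hX n T) d)))) p).trans ?_
  refine (fiberRank_push j π (CohB1.tensorMod (cokernel K.arrow) ((Scheme.Modules.pullback j).obj (OT n (hX n T) d))) p y).trans ?_
  exact CohBC.finrank_HH_congr _ ((Scheme.Modules.pullback ((j ≫ π).fiberι y)).mapIso
    (AmpleLib.tensorIso (Iso.refl _) ((Scheme.Modules.pullbackComp j (hX n T)).app _))) p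

variable {S' X' : Scheme.{u}} {j : S' ⟶ S} (i' : X' ⟶ CohB1.ProjSpaceOver n S') [IsClosedImmersion i'] {p : X' ⟶ X}
  (hsq : IsPullback p (i' ≫ CohB1.ProjSpaceOver.toBase n S') (i ≫ CohB1.ProjSpaceOver.toBase n S) j)

/-- The Hilbert function does not change with the base. -/
theorem chiX_pushBC (hp : p ≫ i ≫ hG n S = i' ≫ hG n S') (T : Over S') [IsLocallyNoetherian T.left]
    (K : FGA.QuotSet (i' ≫ CohB1.ProjSpaceOver.toBase n S') ((Scheme.Modules.pullback p).obj E) T) (y : T.left) (d : ℤ) :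
    chiX i (pushBC hsq E T K.1) y d = chiX i' K.1 y d := by
  haveI : IsLocallyNoetherian ((Over.map j).obj T).left := ‹IsLocallyNoetherian T.left›
  obtain ⟨K₁, hK₁⟩ := exists_quotSet_pushBC hsq E T K
  haveI : Coh.IsQCoh (cokernel (pushBC hsq E T K.1).arrow) := hK₁ ▸ K₁.2.1.1
  haveI := K.2.1.1
  obtain ⟨e⟩ := exists_cokernel_pushBC_iso hsq E T K.1
  haveI : IsProper (CohB1.ProjSpaceOver.toBase n S') := (isPn_projSpaceOver n S').isProper
  haveI : IsProper (CohB1.ProjSpaceOver.toBase n S) := (isPn_projSpaceOver n S).isProper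
  haveI : IsProper i := inferInstance
  haveI : IsProper i' := inferInstance
  haveI : IsProper (i ≫ CohB1.ProjSpaceOver.toBase n S) := MorphismProperty.comp_mem @IsProper _ _ ‹_› ‹_›
  haveI : IsProper (i' ≫ CohB1.ProjSpaceOver.toBase n S') := MorphismProperty.comp_mem @IsProper _ _ ‹_› ‹_›
  haveI : IsProper (PicF.XTproj (i ≫ CohB1.ProjSpaceOver.toBase n S) ((Over.map j).obj T)) :=
    MorphismProperty.pullback_snd (P := @IsProper) _ _ inferInstance
  haveI : IsProper (PicF.XTproj (i' ≫ CohB1.ProjSpaceOver.toBase n S') T) :=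
    MorphismProperty.pullback_snd (P := @IsProper) _ _ inferInstance
  rw [chiX_eq_chi i, chiX_eq_chi i' T K.1, chi_congr e]
  refine chi_pullback (isPullback_bcFam_inv hsq T) ?_ y d
  show (bcFam hsq T).inv ≫ pullback.fst _ T.hom ≫ i' ≫ hG n S' = _
  rw [← hp, ← Category.assoc (pullback.fst _ T.hom) p, ← Category.assoc (bcFam hsq T).inv, bcFam_inv_fst]

end Euler

end Groth.Agent.Quot8

end
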