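import Groth.Agent.Quot8.Regular
import Groth.Agent.GrassLib.Modules
import Groth.Agent.PicDef15.StepCoh
import Groth.Agent.H8Coh.TwistBCGlobal
import Groth.Agent.Coherent.CohBC.AcyclicSections
import Groth.Agent.Coherent.ProjSpaceBC
import Groth.Agent.Coherent.FiniteType
import Groth.Agent.Coherent.Existence.SysKernel

/-!
# Generating sections of twisted free modules
-/

set_option autoImplicit false
set_option linter.style.haveILetI false
set_option backward.isDefEq.respectTransparency.types false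
set_option maxHeartbeats 800000

universe u

open CategoryTheory CategoryTheory.Limits AlgebraicGeometry TopologicalSpace Opposite TensorProduct Function
open Groth.Agent.Coherent Groth.Agent.PicLib Groth.Agent.AmpleLib Groth.Agent.Coherent.CohBC

noncomputable section

namespace Groth.Agent.Quot8

variable (n r : ℕ) (a : ℕ)

/-- `O^r ⊗ O(a)` on `P^n_ℤ`. -/
abbrev G₀ : (CohB1.ProjSpace n (ULift.{u} ℤ)).Modules :=
  CohB1.tensorMod (FlatMod.freeMod (CohB1.ProjSpace n (ULift.{u} ℤ)) r) (Twist.twistProjSpace n (ULift.{u} ℤ) (a : ℤ))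

theorem isCoh_G₀ : Coh.IsCoh (G₀.{u} n r a) := by
  haveI : IsNoetherianRing (ULift.{u} ℤ) := isNoetherianRing_of_ringEquiv ℤ ULift.ringEquiv.symm
  haveI : IsLocallyNoetherian (CohB1.ProjSpace n (ULift.{u} ℤ)) := by
    haveI := isProper_projSpace_toSpec n (ULift.{u} ℤ)
    exact LocallyOfFiniteType.isLocallyNoetherian (CohB1.ProjSpace.toSpec n (ULift.{u} ℤ))
  exact EulerLib.isCoh_twist (isInvertible_twistProjSpaceZ n _ _) (Mumford23.isCoh_freeMod r)

theorem isFlatOver_G₀ : FlatMod.IsFlatOver (CohB1.ProjSpace.toSpec n (ULift.{u} ℤ)) (G₀.{u} n r a) := by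
  haveI : Flat (CohB1.ProjSpace.toSpec n (ULift.{u} ℤ)) := Coherent.flat_toSpec n (ULift.{u} ℤ)
  refine CohExch.isFlatOver_twist _ (isInvertible_twistProjSpaceZ n _ _) _ ?_
  refine CohBC.isFlatOver_of_isFinLocFree _ fun x => ⟨⊤, r, trivial, ⟨?_⟩⟩
  exact (Scheme.Modules.restrictFunctorIsoPullback _).app _ ≪≫
    PreservesCoproduct.iso (Scheme.Modules.pullback _) (fun _ : Fin r => Coh.structureModule _) ≪≫
    Sigma.mapIso fun _ => PicLoc.pullbackStructureIso _

theorem subsingleton_HH_G₀ (p : ℕ) (hp : 0 < p) :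
    Subsingleton (Coh.HH (CohB1.ProjSpace n (ULift.{u} ℤ)) (G₀.{u} n r a) p) := by
  classical
  let L := Twist.twistProjSpace n (ULift.{u} ℤ) (a : ℤ)
  let F := (DCoh.tensorBi (X := CohB1.ProjSpace n (ULift.{u} ℤ))).flip.obj L
  haveI : HasFiniteBiproducts (CohB1.ProjSpace n (ULift.{u} ℤ)).Modules := Abelian.hasFiniteBiproducts
  haveI : F.Additive := ⟨fun {A B f g} =>
    congrArg (fun t => NatTrans.app t L) ((DCoh.tensorBi (X := CohB1.ProjSpace n (ULift.{u} ℤ))).map_add (f := f) (g := g))⟩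
  obtain ⟨e⟩ := TwistLib.nonempty_twist_zero_iso (𝒜 := CohB1.polyGrading n (ULift.{u} ℤ))
  let i₁ : CohB1.tensorMod (Coh.structureModule (CohB1.ProjSpace n (ULift.{u} ℤ))) L ≅ L :=
    AmpleLib.tensorIso e.symm (Iso.refl _) ≪≫
      (TwistLib.nonempty_tensor_twist_iso (𝒜 := CohB1.polyGrading n (ULift.{u} ℤ)) covers_int (zero_add (a : ℤ))).some
  let O : Fin r → (CohB1.ProjSpace n (ULift.{u} ℤ)).Modules := fun _ => Coh.structureModule _
  let i₂ : G₀.{u} n r a ≅ ⨁ fun _ : Fin r => L :=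
    F.mapIso (biproduct.isoCoproduct O).symm ≪≫ F.mapBiproduct O ≪≫ biproduct.mapIso fun _ => i₁
  have h := PicDef15.subsingleton_HH_biproduct (fun _ : Fin r => L) p fun _ =>
    subsingleton_HH_twist (R := (ULift.{u} ℤ)) p (fun h => by omega) (fun h => by omega)
  exact (Coherent.HHCongr (ULift.{u} ℤ) i₂ p).toEquiv.subsingleton

theorem exists_spanning_G₀ : ∃ (N : ℕ) (σ : Fin N → Γ(G₀.{u} n r a, ⊤)),
    ∀ m, ∃ k : Fin N → ℤ, ∑ j, k j • σ j = m := by
  let f₀ := CohB1.ProjSpace.toSpec n (ULift.{u} ℤ)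
  haveI := isProper_projSpace_toSpec n (ULift.{u} ℤ)
  haveI : IsNoetherianRing (ULift.{u} ℤ) := isNoetherianRing_of_ringEquiv ℤ ULift.ringEquiv.symm
  haveI : IsLocallyNoetherian (CohB1.ProjSpace n (ULift.{u} ℤ)) :=
    LocallyOfFiniteType.isLocallyNoetherian f₀
  have hp := Existence.isCoh_push_of_isProper f₀ (isCoh_G₀.{u} n r a)
  haveI := hp.1
  haveI hfin : Module.Finite Γ(Spec (CommRingCat.of (ULift.{u} ℤ)), (⊤ : (Spec (CommRingCat.of (ULift.{u} ℤ))).Opens))
      Γ((Coh.push f₀).obj (G₀.{u} n r a), (⊤ : (Spec (CommRingCat.of (ULift.{u} ℤ))).Opens)) :=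
    Coherent.finite_sections _ (Coherent.locallyFinGen_of_isFT _ hp.2) (isAffineOpen_top _)
  obtain ⟨N, σ, hσ⟩ := Module.Finite.exists_fin'
    Γ(Spec (CommRingCat.of (ULift.{u} ℤ)), (⊤ : (Spec (CommRingCat.of (ULift.{u} ℤ))).Opens))
    Γ((Coh.push f₀).obj (G₀.{u} n r a), (⊤ : (Spec (CommRingCat.of (ULift.{u} ℤ))).Opens))
  refine ⟨N, fun j => σ (Pi.single j 1), fun m => ?_⟩
  obtain ⟨c, hc⟩ := hσ (show Γ((Coh.push f₀).obj (G₀.{u} n r a), ⊤) from m)
  have hint : ∀ x : Γ(Spec (CommRingCat.of (ULift.{u} ℤ)), (⊤ : (Spec (CommRingCat.of (ULift.{u} ℤ))).Opens)), ∃ k : ℤ, x = k := by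
    intro x
    obtain ⟨⟨k⟩, rfl⟩ : ∃ z : (ULift.{u} ℤ), (Scheme.ΓSpecIso (CommRingCat.of (ULift.{u} ℤ))).inv z = x :=
      ⟨(Scheme.ΓSpecIso (CommRingCat.of (ULift.{u} ℤ))).hom x, by simp⟩
    refine ⟨k, ?_⟩
    rw [← map_intCast (Scheme.ΓSpecIso (CommRingCat.of (ULift.{u} ℤ))).inv.hom k]
    rfl
  choose k hk using fun j => hint (c j)
  refine ⟨k, ?_⟩
  rw [← hc, pi_eq_sum_univ c, map_sum]
  refine Finset.sum_congr rfl fun j _ => ?_
  rw [map_smul, hk j, Int.cast_smul_eq_zsmul]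
  congr 1
  refine congrArg σ (funext fun i => ?_)
  by_cases h : i = j
  · subst h; simp
  · simp [h, Ne.symm h]

/-- The number of generators. -/
def numGen : ℕ := (exists_spanning_G₀.{u} n r a).choose

/-- Generating sections. -/
def gen : Fin (numGen.{u} n r a) → Γ(G₀.{u} n r a, ⊤) := (exists_spanning_G₀.{u} n r a).choose_spec.choose

theorem gen_spec (m : Γ(G₀.{u} n r a, ⊤)) : ∃ k : Fin (numGen.{u} n r a) → ℤ, ∑ j, k j • gen n r a j = m :=
  (exists_spanning_G₀.{u} n r a).choose_spec.choose_spec m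

variable {n} {P T : Scheme.{u}}

/-- The generating sections of the direct image. -/
def genSec (π : P ⟶ T) (h : P ⟶ CohB1.ProjSpace n (ULift.{u} ℤ)) (j : Fin (numGen.{u} n r a)) :
    Γ((Coh.push π).obj ((Scheme.Modules.pullback h).obj (G₀.{u} n r a)), ⊤) :=
  (pullSec h (gen n r a j) : Γ((Scheme.Modules.pullback h).obj (G₀.{u} n r a), (⊤ : P.Opens)))

/-- The generating map of the direct image. -/
abbrev genMap (π : P ⟶ T) (h : P ⟶ CohB1.ProjSpace n (ULift.{u} ℤ)) :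
    freeMod T (ULift.{u} (Fin (numGen.{u} n r a))) ⟶ (Coh.push π).obj ((Scheme.Modules.pullback h).obj (G₀.{u} n r a)) :=
  freeDesc fun j => unitDesc _ (genSec r a π h j.down)

/-- The direct image of a twisted free module is generated by the standard sections. -/
theorem epi_genMap {π : P ⟶ T} {h : P ⟶ CohB1.ProjSpace n (ULift.{u} ℤ)} (H : IsPn n π h) :
    Epi (genMap r a π h) := by
  classical
  haveI := H.isProper
  let E' := (Scheme.Modules.pullback h).obj (G₀.{u} n r a)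
  haveI : Coh.IsQCoh (G₀.{u} n r a) := (isCoh_G₀.{u} n r a).1
  haveI : Coh.IsQCoh E' := EGA43.InjFibre.isQCoh_pullback h _
  refine Coherent.Existence.epi_of_affine_surjective _ fun W hW x => ?_
  let f₀ := CohB1.ProjSpace.toSpec n (ULift.{u} ℤ)
  let ι := (π ⁻¹ᵁ W).ι
  obtain ⟨ψ, hψ⟩ := Spec.map_surjective
    (hW.fromSpec ≫ specULiftZIsTerminal.from T : Spec Γ(T, W) ⟶ Spec (CommRingCat.of (ULift.{u} ℤ)))
  have hsq : IsPullback (ι ≫ h) (toSpecSections π hW) f₀ (Spec.map (CommRingCat.ofHom ψ.hom)) := by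
    rw [CommRingCat.ofHom_hom, hψ]
    exact (isPullback_toSpecSections π hW).paste_horiz H
  let _ : (π ⁻¹ᵁ W).toScheme.Over (Spec (CommRingCat.of Γ(T, W))) := ⟨toSpecSections π hW⟩
  haveI : IsProper (CohB1.ProjSpace n (ULift.{u} ℤ) ↘ Spec (CommRingCat.of (ULift.{u} ℤ))) := isProper_projSpace_toSpec n (ULift.{u} ℤ)
  have hb := bijective_secBC_top (G₀.{u} n r a) (isFlatOver_G₀.{u} n r a) (subsingleton_HH_G₀.{u} n r a)
    ψ.hom (ι ≫ h) hsq
  let c : (Scheme.Modules.pullback ι).obj E' ≅ (Scheme.Modules.pullback (ι ≫ h)).obj (G₀.{u} n r a) :=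
    (Scheme.Modules.pullbackComp ι h).app _
  obtain ⟨z, hz⟩ := hb.2 (show Γ((Scheme.Modules.pullback (ι ≫ h)).obj (G₀.{u} n r a), (⊤ : (π ⁻¹ᵁ W).toScheme.Opens))
    from c.hom.app ⊤ (H8Coh.pushSec π hW E' x))
  have key : ∀ z, ∃ b : Fin (numGen.{u} n r a) → Γ(T, W),
      secBC ψ.hom (ι ≫ h) hsq (G₀.{u} n r a) ⊤ z = ∑ j, b j • pullSec (ι ≫ h) (gen n r a j) := by
    intro z
    induction z using TensorProduct.induction_on with
    | zero => exact ⟨0, (map_zero _).trans (Finset.sum_eq_zero fun j _ => zero_smul Γ(T, W) _).symm⟩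
    | add u v hu hv =>
      obtain ⟨bu, hu⟩ := hu
      obtain ⟨bv, hv⟩ := hv
      refine ⟨bu + bv, ?_⟩
      refine (map_add _ u v).trans ?_
      rw [hu, hv, ← Finset.sum_add_distrib]
      exact Finset.sum_congr rfl fun j _ => (add_smul (bu j) (bv j) _).symm
    | tmul b m =>
      obtain ⟨k, rfl⟩ := gen_spec n r a m
      refine ⟨fun j => k j • b, ?_⟩
      refine (secBC_tmul ψ.hom (ι ≫ h) hsq (G₀.{u} n r a) ⊤ b _).trans ?_
      rw [GrassLib.Datum.pullSec_sum, Finset.smul_sum]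
      refine Finset.sum_congr rfl fun j _ => ?_
      rw [show pullSec (ι ≫ h) (k j • gen n r a j) = k j • pullSec (ι ≫ h) (gen n r a j) from
        map_zsmul (((Scheme.Modules.pullbackPushforwardAdjunction (ι ≫ h)).unit.app (G₀.{u} n r a)).app ⊤).hom _ _,
        smul_comm, smul_assoc]
  obtain ⟨b, hb'⟩ := key z
  rw [hz] at hb'
  refine ⟨(freeSectionsEquiv (X := T) (I := ULift.{u} (Fin (numGen.{u} n r a))) W).symm fun j => b j.down, ?_⟩
  rw [freeMod_app]
  refine (H8Coh.bijective_pushSec π hW E').1 ?_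
  refine (ConcreteCategory.bijective_of_isIso (C := AddCommGrpCat) (c.hom.app ⊤)).1 ?_
  refine Eq.trans ?_ hb'.symm
  rw [map_sum]
  show (topEquiv (A := Γ(T, W)) c) _ = _
  rw [map_sum]
  refine Fintype.sum_equiv Equiv.ulift _ _ fun j => ?_
  rw [map_smul, map_smul, show freeCoord W j ((freeSectionsEquiv (X := T)
      (I := ULift.{u} (Fin (numGen.{u} n r a))) W).symm fun j => b j.down) = b j.down from
    congrFun ((freeSectionsEquiv (X := T) (I := ULift.{u} (Fin (numGen.{u} n r a))) W).apply_symm_apply _) j]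
  refine congrArg (fun y : Γ((Scheme.Modules.pullback (ι ≫ h)).obj (G₀.{u} n r a), (⊤ : (π ⁻¹ᵁ W).toScheme.Opens)) =>
    b j.down • y) ?_
  rw [show unitVal (freeInj j ≫ genMap r a π h) W = resM _ (le_top : W ≤ ⊤) (genSec r a π h j.down) from by
    rw [freeInj_freeDesc, ← resM_unitVal _ (le_top : W ≤ ⊤), unitVal_unitDesc]; all_goals (try rw [resM_resM])]
  show c.hom.app ⊤ (H8Coh.pushSec π hW E' (resM E' (le_top : π ⁻¹ᵁ W ≤ ⊤) (pullSec h (gen n r a j.down)))) = _
  rw [H8Coh.pushSec_apply, ← resM_pullSec, resM_resM]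
  refine Eq.trans (congrArg (c.hom.app ⊤) ((resM_self _ _ _).trans
    (pullbackComp_inv_app_pullSec ι h (G₀.{u} n r a) ⊤ (gen n r a j.down)).symm)) ?_
  exact congrArg (fun φ : (Scheme.Modules.pullback (ι ≫ h)).obj (G₀.{u} n r a) ⟶ _ => φ.app ⊤ _) c.inv_hom_id

end Groth.Agent.Quot8

end
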