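import Groth.Agent.Quot8.ProjQuot
import Groth.Agent.SmoothLib.FibreMap
import Groth.Agent.SerreDual.PushEquiv
import Groth.Agent.DCat.PullTensor

/-!
# Euler characteristics on fibres of closed subfamilies
-/

set_option autoImplicit false
set_option linter.style.haveILetI false
set_option linter.unusedSectionVars false
set_option backward.isDefEq.respectTransparency false
set_option maxHeartbeats 1600000

universe u

open CategoryTheory CategoryTheory.Limits AlgebraicGeometry TopologicalSpace
open Groth.Agent.Coherent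

noncomputable section

namespace Groth.Agent.Quot8

/-- Fibre cohomology of a direct image along a closed immersion. -/
theorem fiberRank_push {X Y T : Scheme.{u}} (j : X ⟶ Y) [IsClosedImmersion j] (g : Y ⟶ T) [IsSeparated g]
    (M : X.Modules) [Coh.IsQCoh M] (p : ℕ) (y : T) :
    CohIII.fiberRank g ((Scheme.Modules.pushforward j).obj M) p y = CohIII.fiberRank (j ≫ g) M p y := by
  have hsq := SmoothLib.isPullback_fiberMapOver j g y
  let jy := CohIII.fiberMapOver j (j ≫ g) g rfl y
  haveI : IsClosedImmersion jy := MorphismProperty.of_isPullback (P := @IsClosedImmersion) hsq inferInstance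
  haveI := CohExch.isIso_bc0_of_affine hsq M
  haveI : Coh.IsQCoh (CohIII.fiberMod (j ≫ g) M y) := EGA43.InjFibre.isQCoh_pullback _ M
  letI : ((j ≫ g).fiber y).Over (Spec (CommRingCat.of (T.residueField y))) :=
    ⟨(j ≫ g).fiberToSpecResidueField y⟩
  letI : (g.fiber y).Over (Spec (CommRingCat.of (T.residueField y))) := ⟨g.fiberToSpecResidueField y⟩
  have hw : jy ≫ (g.fiber y ↘ Spec (CommRingCat.of (T.residueField y))) =
      (j ≫ g).fiber y ↘ Spec (CommRingCat.of (T.residueField y)) :=
    (pullback.lift_snd _ _ _).trans (Category.comp_id _)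
  refine (CohBC.finrank_HH_congr (T.residueField y)
    (asIso (CohBC.bc0 j (g.fiberι y) jy ((j ≫ g).fiberι y) hsq.w M)) p).trans ?_
  exact (SerreDual.hpush jy (T.residueField y) hw (CohIII.fiberMod (j ≫ g) M y) p).finrank_eq.symm

variable {n : ℕ} {S : Scheme.{u}} {X : Scheme.{u}} (i : X ⟶ CohB1.ProjSpaceOver n S) [IsClosedImmersion i]
  {E : X.Modules} [Coh.IsQCoh E]

/-- The twist on the closed subfamily. -/
theorem nonempty_xi_OT (T : Over S) (d : ℤ) :
    Nonempty ((Scheme.Modules.pullback (xi i (CohB1.ProjSpaceOver.toBase n S) T)).obj (OT n (hX n T) d) ≅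
      FGA.ET (i ≫ CohB1.ProjSpaceOver.toBase n S) ((Scheme.Modules.pullback i).obj (Twist.twistOver n S d)) T) := by
  let g := CohB1.ProjSpaceOver.toBase n S
  have w : xi i g T ≫ hX n T = (pullback.fst (i ≫ g) T.hom ≫ i) ≫ hG n S := by
    rw [hX, ← Category.assoc, xi_fst]
  exact ⟨(Scheme.Modules.pullbackComp (xi i g T) (hX n T)).app (Twist.twistProjSpace n (ULift.{u} ℤ) d) ≪≫
    (Scheme.Modules.pullbackCongr w).app _ ≪≫
    ((Scheme.Modules.pullbackComp (pullback.fst (i ≫ g) T.hom ≫ i) (hG n S)).app _).symm ≪≫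
    ((Scheme.Modules.pullbackComp (pullback.fst (i ≫ g) T.hom) i).app _).symm⟩

/-- The Hilbert function through restrictions to the fibres. -/
theorem eulerCharLE_eq_chiX [AlgebraicGeometry.IsNoetherian S] (T : Over S) [IsLocallyNoetherian T.left]
    (K : FGA.QuotSet (i ≫ CohB1.ProjSpaceOver.toBase n S) E T) (t : T.left) (d : ℤ) :
    FGA.eulerCharLE (T.left.residueField t) (FGA.fibreAt (i ≫ CohB1.ProjSpaceOver.toBase n S) T t).left
      (CohB1.tensorMod (FGA.restrFibre (i ≫ CohB1.ProjSpaceOver.toBase n S) T t (cokernel K.1.arrow))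
        (FGA.restrFibre (i ≫ CohB1.ProjSpaceOver.toBase n S) T t
          (FGA.ET (i ≫ CohB1.ProjSpaceOver.toBase n S) ((Scheme.Modules.pullback i).obj (Twist.twistOver n S d)) T))) n =
      chiX i K.1 t d := by
  let g := CohB1.ProjSpaceOver.toBase n S
  let j := xi i g T
  let π := PicF.XTproj g T
  haveI : IsProper π := (isPn_hX T).isProper
  let N := (Scheme.Modules.pullback j).obj (OT n (hX n T) d)
  obtain ⟨eN⟩ := nonempty_xi_OT i T d
  haveI := K.2.1.1
  haveI : Coh.IsQCoh (CohB1.tensorMod (cokernel K.1.arrow) N) := AmpleLib.isQCoh_tensor_invertible _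
    (PicLoc.isInvertible_pullback j (isInvertible_OT (hX n T) d))
  let ι := (PicF.XTproj (i ≫ g) T).fiberι t
  refine Finset.sum_congr rfl fun p _ => congrArg (fun m : ℕ => (-1 : ℤ) ^ p * (m : ℤ)) ?_
  have h1 : CohIII.fiberRank π (CohB1.tensorMod ((Scheme.Modules.pushforward j).obj (cokernel K.1.arrow))
      (OT n (hX n T) d)) p t = CohIII.fiberRank (PicF.XTproj (i ≫ g) T) (CohB1.tensorMod (cokernel K.1.arrow) N) p t := by
    haveI : IsIso (DCat.ClosedPush.projMap j (cokernel K.1.arrow) (OT n (hX n T) d)) :=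
      DCat.ClosedPush.isIso_projMap j _ _
    refine (CohBC.finrank_HH_congr _ ((Scheme.Modules.pullback (π.fiberι t)).mapIso
      (asIso (DCat.ClosedPush.projMap j (cokernel K.1.arrow) (OT n (hX n T) d)))) p).trans ?_
    have hcg : ∀ (q : PicF.XT (i ≫ g) T ⟶ T.left), j ≫ π = q →
        CohIII.fiberRank (j ≫ π) (CohB1.tensorMod (cokernel K.1.arrow) N) p t =
          CohIII.fiberRank q (CohB1.tensorMod (cokernel K.1.arrow) N) p t := by
      intro q hq
      subst hq
      rfl
    exact (fiberRank_push j π (CohB1.tensorMod (cokernel K.1.arrow) N) p t).trans (hcg _ (xi_proj i g T))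
  refine Eq.trans ?_ h1.symm
  exact (CohBC.finrank_HH_congr _
    (AmpleLib.tensorIso (Iso.refl ((Scheme.Modules.pullback ι).obj (cokernel K.1.arrow)))
        ((Scheme.Modules.pullback ι).mapIso eN.symm) ≪≫
      (DCat.PullTensor.pullTensorIso ι (cokernel K.1.arrow) N).symm) p)

end Groth.Agent.Quot8

end
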