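import Groth.Agent.Quot8.Euler
import Groth.Agent.Quot8.Present
import Groth.Agent.Quot8.PresentAffine
import Groth.Agent.Coherent.CohBC.EulerFamily
import Groth.Prelude.Def_Pic13

/-!
# Quotients with finitely many Hilbert functions form a bounded family
-/

set_option autoImplicit false
set_option linter.style.haveILetI false
set_option linter.unusedSectionVars false
set_option backward.isDefEq.respectTransparency false
set_option maxHeartbeats 1600000

universe u

open CategoryTheory CategoryTheory.Limits AlgebraicGeometry TopologicalSpace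
open Groth.Agent.Coherent

noncomputable section

namespace Groth.Agent.Quot8

variable {k : Type u} [Field k]

/-- The slice over the base point. -/
def slice₀ {X : Scheme.{u}} (f : X ⟶ Spec (CommRingCat.of k)) :
    X ⟶ PicF.XT f (Over.mk (𝟙 (Spec (CommRingCat.of k)))) :=
  pullback.lift (𝟙 X) f rfl

theorem slice₀_fst {X : Scheme.{u}} (f : X ⟶ Spec (CommRingCat.of k)) :
    slice₀ f ≫ pullback.fst f (Over.mk (𝟙 (Spec (CommRingCat.of k)))).hom = 𝟙 X :=
  pullback.lift_fst _ _ _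

/-- A family over a scheme of finite type gives boundedness. -/
theorem isBounded_of_family (X : Scheme.{u}) [X.Over (Spec (CommRingCat.of k))] (f : X ⟶ Spec (CommRingCat.of k))
    (hf : f = X ↘ Spec (CommRingCat.of k)) (P : X.Modules → Prop) (T : Over (Spec (CommRingCat.of k)))
    [LocallyOfFiniteType T.hom] [QuasiCompact T.hom] (G : (PicF.XT f T).Modules) (hG : Coh.IsCoh G)
    (h : ∀ L, P L → ∃ a : Over.mk (𝟙 (Spec (CommRingCat.of k))) ⟶ T,
      Nonempty ((Scheme.Modules.pullback (slice₀ f ≫ PicF.XTmap f a)).obj G ≅ L)) :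
    Pic13.IsBounded k X P := by
  subst hf
  refine ⟨T.left, T.hom, inferInstance, inferInstance, G, hG, fun L hL => ?_⟩
  obtain ⟨a, ⟨i⟩⟩ := h L hL
  refine ⟨a.left, Over.w a, ⟨?_ ≪≫ i⟩⟩
  refine (Scheme.Modules.pullbackCongr ?_).app G
  apply pullback.hom_ext
  · simp [Pic13.sliceAt, slice₀, PicF.XTmap, PicF.XT]
  · simp [Pic13.sliceAt, slice₀, PicF.XTmap, PicF.XT]

variable {n : ℕ} (g : CohB1.ProjSpace n k ⟶ CohB1.ProjSpaceOver n (Spec (CommRingCat.of k))) [IsClosedImmersion g]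

/-- The point of the Quot functor over the base given by a quotient, with its Hilbert function. -/
theorem exists_point {E F : (CohB1.ProjSpace n k).Modules} (hE : Coh.IsCoh E) (hF : Coh.IsCoh F) (p : E ⟶ F) [Epi p]
    (hg : g ≫ CohB1.ProjSpaceOver.toBase n _ = CohB1.ProjSpace.toSpec n k)
    (hO : ∀ d : ℤ, Nonempty ((Scheme.Modules.pullback g).obj (Twist.twistOver n _ d) ≅ Twist.twistProjSpace n k d)) :
    ∃ K : FGA.QuotSet (g ≫ CohB1.ProjSpaceOver.toBase n _) E (Over.mk (𝟙 (Spec (CommRingCat.of k)))),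
      (∀ y d, chiX g K.1 y d = FGA.eulerCharLE k (CohB1.ProjSpace n k)
        (CohB1.tensorMod F (Twist.twistProjSpace n k d)) n) ∧
      Nonempty ((Scheme.Modules.pullback (slice₀ (g ≫ CohB1.ProjSpaceOver.toBase n _))).obj (cokernel K.1.arrow) ≅ F) := by
  let S := Spec (CommRingCat.of k)
  let f := g ≫ CohB1.ProjSpaceOver.toBase n S
  let T₁ : Over S := Over.mk (𝟙 S)
  haveI : IsLocallyNoetherian T₁.left := inferInstanceAs (IsLocallyNoetherian S)
  haveI := isLocallyNoetherian_XT f (T := T₁)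
  let pr := pullback.fst f T₁.hom
  let q : FGA.ET f E T₁ ⟶ (Scheme.Modules.pullback pr).obj F := (Scheme.Modules.pullback pr).map p
  haveI : Epi q := Grass.epi_pullback_map _ p
  haveI : IsLocallyNoetherian (CohB1.ProjSpace n k) :=
    LocallyOfFiniteType.isLocallyNoetherian (CohB1.ProjSpace.toSpec n k)
  let K := mkQuot f E q (ZClosLib.isCoh_pullback pr F hF) (CohBC.isFlatOver_field k _ _)
  obtain ⟨i, -⟩ := exists_cokernel_kernelSubobject_iso q
  refine ⟨K, fun y d => ?_, ⟨(Scheme.Modules.pullback (slice₀ f)).mapIso i ≪≫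
    (Scheme.Modules.pullbackComp (slice₀ f) pr).app F ≪≫
    (Scheme.Modules.pullbackCongr (slice₀_fst f)).app F ≪≫ (Scheme.Modules.pullbackId _).app F⟩⟩
  haveI := hE.1
  rw [← eulerCharLE_eq_chiX g T₁ K y d]
  refine Finset.sum_congr rfl fun j _ => congrArg (fun m : ℕ => (-1 : ℤ) ^ j * (m : ℤ)) ?_
  obtain ⟨eO⟩ := hO d
  let G := CohB1.tensorMod F ((Scheme.Modules.pullback g).obj (Twist.twistOver n S d))
  have hGq : Coh.IsCoh G := EulerLib.isCoh_twist (PicLoc.isInvertible_pullback g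
    (isInvertible_OT (n := n) (Groth.Agent.Quot8.hG n S) d)) hF
  haveI := hGq.1
  let ι := (PicF.XTproj f T₁).fiberι y
  let N := FGA.ET f ((Scheme.Modules.pullback g).obj (Twist.twistOver n S d)) T₁
  have h1 : Module.finrank (T₁.left.residueField y) (Coh.HH (FGA.fibreAt f T₁ y).left
      (CohB1.tensorMod (FGA.restrFibre f T₁ y (cokernel K.1.arrow)) (FGA.restrFibre f T₁ y N)) j) =
      CohIII.fiberRank (PicF.XTproj f T₁) ((Scheme.Modules.pullback pr).obj G) j y := by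
    haveI : Coh.IsQCoh ((Scheme.Modules.pullback pr).obj G) := EGA43.InjFibre.isQCoh_pullback _ G
    exact CohBC.finrank_HH_congr _
      ((DCat.PullTensor.pullTensorIso ι (cokernel K.1.arrow) N).symm ≪≫ (Scheme.Modules.pullback ι).mapIso
        (AmpleLib.tensorIso i (Iso.refl N) ≪≫
          (DCat.PullTensor.pullTensorIso pr F ((Scheme.Modules.pullback g).obj (Twist.twistOver n S d))).symm)) j
  refine h1.trans ?_
  rw [CohBC.fiberRank_pullback (IsPullback.of_hasPullback f T₁.hom) G j y]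
  have hcg : ∀ (f' : CohB1.ProjSpace n k ⟶ S) (z : S), f = f' → CohIII.fiberRank f G j z = CohIII.fiberRank f' G j z := by
    intro f' z hz
    subst hz
    rfl
  rw [hcg _ _ hg]
  refine (CohBC.finrank_HH_bc k _ (CohBC.residueHom _) (CohB1.ProjSpace n k ↘ Spec (CommRingCat.of k))
    ((CohB1.ProjSpace n k ↘ Spec (CommRingCat.of k)).fiberToSpecResidueField (T₁.hom y))
    ((CohB1.ProjSpace n k ↘ Spec (CommRingCat.of k)).fiberι (T₁.hom y)) (CohBC.PerfData.isPullback_fibre _) G _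
    (Iso.refl _) j).trans ?_
  exact CohBC.finrank_HH_congr k (AmpleLib.tensorIso (Iso.refl F) eO) j

/-- Quotients of a coherent module with finitely many Hilbert functions form a bounded family. -/
theorem isBounded_quotients (E : (CohB1.ProjSpace n k).Modules) (hE : Coh.IsCoh E) (Φ : Set (ℤ → ℤ)) (hΦ : Φ.Finite)
    (hg : g ≫ CohB1.ProjSpaceOver.toBase n _ = CohB1.ProjSpace.toSpec n k)
    (hO : ∀ d : ℤ, Nonempty ((Scheme.Modules.pullback g).obj (Twist.twistOver n _ d) ≅ Twist.twistProjSpace n k d)) :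
    Pic13.IsBounded k (CohB1.ProjSpace n k) (fun F =>
      Coh.IsCoh F ∧ (∃ p : E ⟶ F, Epi p) ∧
        (fun r : ℤ => FGA.eulerCharLE k (CohB1.ProjSpace n k)
          (CohB1.tensorMod F (Twist.twistProjSpace n k r)) n) ∈ Φ) := by
  classical
  let S := Spec (CommRingCat.of k)
  let f := g ≫ CohB1.ProjSpaceOver.toBase n S
  haveI := hE.1
  obtain ⟨N, ν, q₀, hq₀⟩ := exists_epi_twists g hE
  haveI := hq₀
  obtain ⟨ψ, hψ⟩ := exists_presentation g N ν q₀
  haveI := hψ
  haveI : Finite ↥Φ := hΦ.to_subtype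
  choose Z hZ KZ hKZ hc hu using fun Ψ : Polynomial ℚ => exists_piece_closed g N (-ν) hE ψ Ψ
  haveI : ∀ Ψ, IsLocallyNoetherian (Z Ψ).left := hZ
  let Ψ : ULift.{u} ↥Φ → Polynomial ℚ := fun φ =>
    if h : ∃ Ψ : Polynomial ℚ, ∀ d : ℤ, (φ.down.1 d : ℚ) = Ψ.eval (d : ℚ) then h.choose else 0
  let W := fun φ : ULift.{u} ↥Φ => (Z (Ψ φ)).left
  let T : Over S := Over.mk (Sigma.desc fun φ : ULift.{u} ↥Φ => (Z (Ψ φ)).hom)
  let a : ∀ φ, Z (Ψ φ) ⟶ T := fun φ =>
    Over.homMk (Limits.Sigma.ι W φ) (Sigma.ι_desc (fun φ : ULift.{u} ↥Φ => (Z (Ψ φ)).hom) φ)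
  haveI hoi : ∀ φ, IsOpenImmersion (a φ).left := fun φ => inferInstanceAs (IsOpenImmersion (Limits.Sigma.ι W φ))
  haveI : IsLocallyNoetherian T.left :=
    (isLocallyNoetherian_iff_openCover (sigmaOpenCover W)).2 fun φ => inferInstanceAs (IsLocallyNoetherian (Z (Ψ φ)).left)
  have hcov : ∀ x : T.left, ∃ φ, x ∈ (a φ).left.opensRange := fun x => by
    obtain ⟨φ, z, hz⟩ : ∃ (φ : ULift.{u} ↥Φ) (z : W φ), Limits.Sigma.ι W φ z = x := (sigmaOpenCover W).exists_eq x
    exact ⟨φ, z, hz⟩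
  have hdis : ∀ b c, b ≠ c → Disjoint (Set.range (a b).left) (Set.range (a c).left) := fun b c h => by
    refine Set.disjoint_left.2 ?_
    rintro _ ⟨x, rfl⟩ ⟨y, hy⟩
    have h1 : sigmaMk W ⟨c, y⟩ = sigmaMk W ⟨b, x⟩ := by
      rw [sigmaMk_mk, sigmaMk_mk]
      exact hy
    exact h (congrArg Sigma.fst ((sigmaMk W).injective h1)).symm
  obtain ⟨K₀, hK₀⟩ := exists_glue_disjoint f E a hcov hdis fun φ => KZ (Ψ φ)
  haveI hprop : ∀ Ψ, IsProper (Z Ψ).hom := fun Ψ => by
    obtain ⟨M, c, hc, wc⟩ := hc Ψ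
    haveI : IsProper (CohB1.ProjSpaceOver.toBase M S) := (isPn_projSpaceOver M S).isProper
    rw [← wc]
    infer_instance
  haveI : LocallyOfFiniteType T.hom :=
    IsZariskiLocalAtSource.of_openCover (P := @LocallyOfFiniteType) (sigmaOpenCover W) fun φ => by
      show LocallyOfFiniteType (Limits.Sigma.ι W φ ≫ T.hom)
      rw [show Limits.Sigma.ι W φ ≫ T.hom = (Z (Ψ φ)).hom from Over.w (a φ)]
      infer_instance
  haveI : ∀ φ, CompactSpace ↥(W φ) := fun φ => QuasiCompact.compactSpace_of_compactSpace (Z (Ψ φ)).hom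
  haveI : Finite (ULift.{u} ↥Φ) := inferInstance
  haveI : CompactSpace T.left := (sigmaMk W).compactSpace
  haveI : QuasiCompact T.hom := (quasiCompact_iff_compactSpace T.hom).2 inferInstance
  refine isBounded_of_family _ f hg _ T (cokernel K₀.1.arrow) K₀.2.1 ?_
  rintro F ⟨hF, ⟨p, hp⟩, hΦF⟩
  obtain ⟨K', hK', ⟨e'⟩⟩ := exists_point g hE hF p hg hO
  haveI : IsLocallyNoetherian (Over.mk (𝟙 S)).left := inferInstanceAs (IsLocallyNoetherian S)
  obtain ⟨L', hL'⟩ := exists_pullK_eq g _ K'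
  let φ : ULift.{u} ↥Φ := ⟨⟨_, hΦF⟩⟩
  have hex : ∃ Ψ : Polynomial ℚ, ∀ d : ℤ, (φ.down.1 d : ℚ) = Ψ.eval (d : ℚ) := by
    obtain ⟨Ψ, -, hΨ⟩ := exists_chi_poly L'.2.1 (isPn_hX (Over.mk (𝟙 S))) (default : S)
    refine ⟨Ψ, fun d => ?_⟩
    rw [← hΨ d, ← chiX_pullK, hL', hK']
  obtain ⟨b, hb, -⟩ := hu (Ψ φ) (Over.mk (𝟙 S)) inferInstance K' fun y d => by
    rw [hK']
    refine (hex.choose_spec d).trans ?_
    simp only [Ψ, dif_pos hex]
  refine ⟨b ≫ a φ, ?_⟩
  haveI := epi_bcQ f E (b ≫ a φ) (cokernel.π K₀.1.arrow)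
  have hpull : kernelSubobject (bcQ f E (b ≫ a φ) (cokernel.π K₀.1.arrow)) = kernelSubobject (cokernel.π K'.1.arrow) := by
    rw [← quotPull_kernelSubobject, kernelSubobject_cokernel, kernelSubobject_cokernel, quotPull_comp, hK₀, hb]
  obtain ⟨j, -⟩ := exists_iso_of_kernelSubobject_eq _ _ hpull
  exact ⟨((Scheme.Modules.pullbackComp (slice₀ f) (PicF.XTmap f (b ≫ a φ))).app _).symm ≪≫
    (Scheme.Modules.pullback (slice₀ f)).mapIso j ≪≫ e'⟩

end Groth.Agent.Quot8

end
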