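import Groth.Agent.Quot8.ClosedQuot
import Groth.Agent.Quot8.PresentAffine
import Groth.Agent.Quot8.BoundedQuot
import Mathlib.AlgebraicGeometry.Limits

/-!
# A bounded family consists of quotients of one sum of twists
-/

set_option autoImplicit false
set_option linter.style.haveILetI false
set_option linter.unusedSectionVars false
set_option backward.isDefEq.respectTransparency false
set_option maxHeartbeats 1600000

universe u

open CategoryTheory CategoryTheory.Limits AlgebraicGeometry TopologicalSpace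
open Groth.Agent.Coherent Groth.Agent.AmpleLib

noncomputable section

namespace Groth.Agent.Quot8

variable {k : Type u} [Field k]

/-- A bounded family over `f`. -/
theorem exists_family_of_isBounded (X : Scheme.{u}) [X.Over (Spec (CommRingCat.of k))] (f : X ⟶ Spec (CommRingCat.of k))
    (hf : f = X ↘ Spec (CommRingCat.of k)) (P : X.Modules → Prop) (hb : Pic13.IsBounded k X P) :
    ∃ (T : Over (Spec (CommRingCat.of k))) (_ : LocallyOfFiniteType T.hom) (_ : QuasiCompact T.hom)
      (G : (PicF.XT f T).Modules), Coh.IsCoh G ∧ ∀ L, P L → ∃ a : Over.mk (𝟙 (Spec (CommRingCat.of k))) ⟶ T,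
        Nonempty ((Scheme.Modules.pullback (slice₀ f ≫ PicF.XTmap f a)).obj G ≅ L) := by
  subst hf
  obtain ⟨T, q, hq, hqc, G, hG, h⟩ := hb
  refine ⟨Over.mk q, hq, hqc, G, hG, fun L hL => ?_⟩
  obtain ⟨t, ht, ⟨i⟩⟩ := h L hL
  refine ⟨Over.homMk t ht, ⟨?_ ≪≫ i⟩⟩
  refine (Scheme.Modules.pullbackCongr ?_).app G
  apply pullback.hom_ext
  · simp [Pic13.sliceAt, slice₀, PicF.XTmap, PicF.XT]
  · simp [Pic13.sliceAt, slice₀, PicF.XTmap, PicF.XT]

variable {n : ℕ} {X : Scheme.{u}} (i : X ⟶ CohB1.ProjSpaceOver n (Spec (CommRingCat.of k))) [IsClosedImmersion i]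

/-- Every member of a family of finite type is a quotient of one sum of twists. -/
theorem exists_epi_of_family (T : Over (Spec (CommRingCat.of k))) [LocallyOfFiniteType T.hom] [QuasiCompact T.hom]
    (G : (PicF.XT (i ≫ CohB1.ProjSpaceOver.toBase n _) T).Modules) (hGc : Coh.IsCoh G) :
    ∃ (p : ℕ) (ν : ℤ), ∀ a : Over.mk (𝟙 (Spec (CommRingCat.of k))) ⟶ T,
      ∃ q : (∐ fun _ : Fin p => (Scheme.Modules.pullback i).obj (Twist.twistOver n _ ν)) ⟶
        (Scheme.Modules.pullback (slice₀ (i ≫ CohB1.ProjSpaceOver.toBase n _) ≫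
          PicF.XTmap (i ≫ CohB1.ProjSpaceOver.toBase n _) a)).obj G, Epi q := by
  classical
  let S := Spec (CommRingCat.of k)
  let f := i ≫ CohB1.ProjSpaceOver.toBase n S
  haveI : IsLocallyNoetherian T.left := LocallyOfFiniteType.isLocallyNoetherian T.hom
  haveI : CompactSpace T.left := QuasiCompact.compactSpace_of_compactSpace T.hom
  let 𝒱 := T.left.affineCover.finiteSubcover
  let W := fun j : 𝒱.I₀ => 𝒱.X j
  haveI : ∀ j, IsAffine (W j) := fun j => inferInstanceAs (IsAffine (T.left.affineCover.X _))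
  let T' : Over S := Over.mk ((Sigma.desc fun j => 𝒱.f j ≫ T.hom) : (∐ W) ⟶ S)
  let π : T' ⟶ T := Over.homMk ((Sigma.desc fun j => 𝒱.f j) : (∐ W) ⟶ T.left) (by
    refine Sigma.hom_ext (f := W) _ _ fun j => ?_
    rw [← Category.assoc, Sigma.ι_desc (f := W) (fun j => 𝒱.f j) j]
    exact (Sigma.ι_desc (f := W) (fun j => 𝒱.f j ≫ T.hom) j).symm)
  haveI : IsAffine T'.left := inferInstanceAs (IsAffine (∐ W))
  haveI : IsLocallyNoetherian T'.left :=
    (isLocallyNoetherian_iff_openCover (sigmaOpenCover W)).2 fun j =>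
      isLocallyNoetherian_of_isOpenImmersion (𝒱.f j)
  haveI : AlgebraicGeometry.IsNoetherian T'.left := {}
  haveI := isLocallyNoetherian_XT f (T := T)
  haveI := isLocallyNoetherian_XT f (T := T')
  let G' := (Scheme.Modules.pullback (PicF.XTmap f π)).obj G
  let iso : PicF.XT (CohB1.ProjSpaceOver.toBase n S) T' ≅ CohB1.ProjSpaceOver n T'.left := (isPn_hX T').isoPullback
  obtain ⟨p, ν, q, hq⟩ := exists_epi_twists (xi i (CohB1.ProjSpaceOver.toBase n S) T' ≫ iso.hom)
    (ZClosLib.isCoh_pullback (PicF.XTmap f π) G hGc : Coh.IsCoh G')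
  haveI := hq
  refine ⟨p, ν, fun a => ?_⟩
  let y₀ : (Over.mk (𝟙 S)).left := (default : ↥S)
  obtain ⟨j, hj⟩ : ∃ j, a.left y₀ ∈ Set.range (𝒱.f j) := 𝒱.exists_eq (a.left y₀) |>.imp fun j h => h
  have hsub : Set.range a.left ⊆ Set.range (𝒱.f j) := by
    rintro _ ⟨y, rfl⟩
    rw [show y = y₀ from Subsingleton.elim (α := ↥(Spec (CommRingCat.of k))) y y₀]
    exact hj
  let l := IsOpenImmersion.lift (𝒱.f j) a.left hsub
  let a' : Over.mk (𝟙 S) ⟶ T' := Over.homMk (l ≫ Limits.Sigma.ι W j) (by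
    show (l ≫ Limits.Sigma.ι W j) ≫ Sigma.desc _ = 𝟙 S
    rw [Category.assoc, Sigma.ι_desc, ← Category.assoc, IsOpenImmersion.lift_fac]
    exact Over.w a)
  have ha : a' ≫ π = a := by
    refine Over.OverMorphism.ext ?_
    show (l ≫ Limits.Sigma.ι W j) ≫ Sigma.desc _ = a.left
    rw [Category.assoc, Sigma.ι_desc, IsOpenImmersion.lift_fac]
  let s := slice₀ f ≫ PicF.XTmap f a'
  have hs : s ≫ PicF.XTmap f π = slice₀ f ≫ PicF.XTmap f a := by
    rw [Category.assoc, ← XTmap_comp, ha]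
  have hsi : s ≫ (xi i (CohB1.ProjSpaceOver.toBase n S) T' ≫ iso.hom) ≫ hG n T'.left = i ≫ hG n S := by
    have h1 : iso.hom ≫ hG n T'.left = hX n T' := (isPn_hX T').isoPullback_hom_fst
    rw [Category.assoc (xi i _ T'), h1, hX, ← Category.assoc (xi i _ T'), xi_fst, Category.assoc]
    have h2 : s ≫ pullback.fst (i ≫ CohB1.ProjSpaceOver.toBase n S) T'.hom = 𝟙 X := by
      rw [Category.assoc, FGA.XTmap_fst]
      exact slice₀_fst f
    calc s ≫ pullback.fst (i ≫ CohB1.ProjSpaceOver.toBase n S) T'.hom ≫ i ≫ Groth.Agent.Quot8.hG n S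
        = (s ≫ pullback.fst (i ≫ CohB1.ProjSpaceOver.toBase n S) T'.hom) ≫ i ≫ Groth.Agent.Quot8.hG n S :=
          (Category.assoc _ _ _).symm
      _ = i ≫ Groth.Agent.Quot8.hG n S := by rw [h2, Category.id_comp]
  haveI : (Scheme.Modules.pullback s).IsLeftAdjoint :=
    (Scheme.Modules.pullbackPushforwardAdjunction s).isLeftAdjoint
  haveI : Epi ((Scheme.Modules.pullback s).map q) := Grass.epi_pullback_map _ q
  let j' := xi i (CohB1.ProjSpaceOver.toBase n S) T' ≫ iso.hom
  let t : (Scheme.Modules.pullback i).obj (Twist.twistOver n S ν) ≅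
      (Scheme.Modules.pullback s).obj ((Scheme.Modules.pullback j').obj (Twist.twistOver n T'.left ν)) :=
    (Scheme.Modules.pullbackComp i (hG n S)).app (Twist.twistProjSpace n (ULift.{u} ℤ) ν) ≪≫
      (Scheme.Modules.pullbackCongr hsi).symm.app _ ≪≫
      ((Scheme.Modules.pullbackComp s (j' ≫ hG n T'.left)).app _).symm ≪≫
      (Scheme.Modules.pullback s).mapIso ((Scheme.Modules.pullbackComp j' (hG n T'.left)).app _).symm
  let c : (∐ fun _ : Fin p => (Scheme.Modules.pullback i).obj (Twist.twistOver n S ν)) ≅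
      (Scheme.Modules.pullback s).obj (∐ fun _ : Fin p => (Scheme.Modules.pullback j').obj (Twist.twistOver n T'.left ν)) :=
    Sigma.mapIso (fun _ => t) ≪≫ (PreservesCoproduct.iso (Scheme.Modules.pullback s) _).symm
  exact ⟨c.hom ≫ (Scheme.Modules.pullback s).map q ≫
    (((Scheme.Modules.pullbackComp s (PicF.XTmap f π)).app G) ≪≫ (Scheme.Modules.pullbackCongr hs).app G).hom,
    inferInstance⟩

end Groth.Agent.Quot8

end
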