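import Groth.Agent.Quot8.Regular
import Groth.Agent.Coherent.CohBC.EulerConst
import Groth.Agent.EulerLib.SupportVanishing

/-!
# Hilbert polynomials of families on projective spaces
-/

set_option autoImplicit false
set_option linter.style.haveILetI false
set_option linter.unusedSectionVars false
set_option backward.isDefEq.respectTransparency.types false

universe u

open CategoryTheory CategoryTheory.Limits AlgebraicGeometry TopologicalSpace
open Groth.Agent.Coherent Groth.Agent.PicLib Groth.Agent.AmpleLib Groth.Agent.Coherent.CohBC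

noncomputable section

namespace Groth.Agent.Quot8

variable {n : ℕ} {P T : Scheme.{u}} (π : P ⟶ T) (h : P ⟶ CohB1.ProjSpace n (ULift.{u} ℤ))

/-- The Euler characteristic of a twist on the fibre at a point. -/
def chi (G : P.Modules) (y : T) (d : ℤ) : ℤ :=
  (Finset.range (n + 1)).sum fun p =>
    (-1 : ℤ) ^ p * (CohIII.fiberRank π (CohB1.tensorMod G (OT n h d)) p y : ℤ)

/-- All fibres have the given Hilbert polynomial. -/
def HasHP (G : P.Modules) (Φ : Polynomial ℚ) : Prop :=
  ∀ (y : T) (d : ℤ), (chi π h G y d : ℚ) = Φ.eval (d : ℚ)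

variable {π h} [IsProper π] [IsLocallyNoetherian T] {G : P.Modules} (hG : Coh.IsCoh G)

theorem subsingleton_HH_gt {k : Type u} [Field k] {M : (CohB1.ProjSpace n k).Modules} (hM : Coh.IsQCoh M)
    (q : ℕ) (hq : n < q) : Subsingleton (Coh.HH (CohB1.ProjSpace n k) M q) :=
  haveI := hM
  haveI : IsLocallyNoetherian (CohB1.ProjSpace n k) :=
    LocallyOfFiniteType.isLocallyNoetherian (CohB1.ProjSpace n k ↘ Spec (CommRingCat.of k))
  haveI : CompactSpace (CohB1.ProjSpace n k) :=
    QuasiCompact.compactSpace_of_compactSpace (CohB1.ProjSpace n k ↘ Spec (CommRingCat.of k))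
  haveI : AlgebraicGeometry.IsNoetherian (CohB1.ProjSpace n k) := {}
  haveI : (CohB1.ProjSpace n k).IsSeparated := EulerLib.isSeparated_of_proper k
  EulerLib.subsingleton_HH_of_dim M (DimLib.PN.topologicalKrullDim_projSpace n k).le hq

include hG

theorem IsFibre.chi_eq {y : T} {g : CohB1.ProjSpace n (T.residueField y) ⟶ P} (hg : IsFibre π h y g) (d : ℤ) :
    chi π h G y d = Mumford23.eu ((Scheme.Modules.pullback g).obj G) d := by
  show _ = Curv2.euler _ _ _
  rw [EulerLib.euler_eq_sum _ _ _ n fun q hq =>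
    subsingleton_HH_gt (Groth.Agent.CAlgH3.PSheafGen.isCoh_twistProj (hg.isCoh_pullback hG) d).1 q hq]
  exact Finset.sum_congr rfl fun p _ => by rw [hg.finrank_twist hG]

theorem fiberRank_eq_zero_of_gt (H : IsPn n π h) (y : T) (d : ℤ) (p : ℕ) (hp : n < p) :
    CohIII.fiberRank π (CohB1.tensorMod G (OT n h d)) p y = 0 := by
  obtain ⟨g, hg⟩ := H.exists_fibre y
  rw [hg.finrank_twist hG]
  haveI := subsingleton_HH_gt (Groth.Agent.CAlgH3.PSheafGen.isCoh_twistProj (hg.isCoh_pullback hG) d).1 p hp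
  exact Module.finrank_zero_of_subsingleton

theorem exists_chi_poly (H : IsPn n π h) (y : T) :
    ∃ Φ : Polynomial ℚ, Φ.natDegree ≤ n ∧ ∀ d : ℤ, (chi π h G y d : ℚ) = Φ.eval (d : ℚ) := by
  obtain ⟨g, hg⟩ := H.exists_fibre y
  obtain ⟨p, hp, h'⟩ := Mumford23.exists_eu_poly (hg.isCoh_pullback hG)
  exact ⟨p, hp, fun d => by rw [hg.chi_eq hG]; exact h' d⟩

theorem isLocallyConstant_chi (H : IsPn n π h) (hfl : FlatMod.IsFlatOver π G) (d : ℤ) :
    IsLocallyConstant fun y => chi π h G y d := by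
  haveI : IsLocallyNoetherian P := LocallyOfFiniteType.isLocallyNoetherian π
  have e : (fun y : T => chi π h G y d) = fun y => PerfAux.eulerChar π (CohB1.tensorMod G (OT n h d)) y := by
    funext y
    symm
    unfold PerfAux.eulerChar
    rw [finsum_eq_sum_of_support_subset _ (s := Finset.range (n + 1)) fun j hj => ?_]
    · rfl
    · by_contra hc
      simp only [Finset.coe_range, Set.mem_Iio, not_lt] at hc
      refine hj ?_
      show (-1 : ℤ) ^ j * (CohIII.fiberRank π (CohB1.tensorMod G (OT n h d)) j y : ℤ) = 0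
      rw [fiberRank_eq_zero_of_gt hG H y d j (by omega), Nat.cast_zero, mul_zero]
  rw [e]
  exact isLocallyConstant_eulerChar π (isCoh_twist hG d) (isFlatOver_twist hfl d)

/-- The points with a given Hilbert polynomial form an open set. -/
theorem exists_open_hasHP (H : IsPn n π h) (hfl : FlatMod.IsFlatOver π G) (y : T) :
    ∃ U : T.Opens, y ∈ U ∧ ∀ z ∈ U, ∀ d : ℤ, chi π h G z d = chi π h G y d := by
  have hc : ∀ d : ℤ, IsOpen {z | chi π h G z d = chi π h G y d} := fun d =>
    (isLocallyConstant_chi hG H hfl d).isOpen_fiber _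
  refine ⟨⟨⋂ j ∈ Finset.range (n + 1), {z | chi π h G z (j : ℤ) = chi π h G y (j : ℤ)},
    isOpen_biInter_finset fun j _ => hc j⟩, Set.mem_iInter₂.2 fun j _ => rfl, fun z hz d => ?_⟩
  obtain ⟨p, hp, hp'⟩ := exists_chi_poly hG H z
  obtain ⟨q, hq, hq'⟩ := exists_chi_poly hG H y
  have hpq : p = q := by
    refine Polynomial.eq_of_natDegree_lt_card_of_eval_eq (f := fun j : Fin (n + 1) => ((j : ℕ) : ℚ)) p q
      (fun i j hij => Fin.ext (Nat.cast_injective (R := ℚ) hij)) (fun j => ?_) (by simp; omega)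
    have h1 : chi π h G z ((j : ℕ) : ℤ) = chi π h G y ((j : ℕ) : ℤ) :=
      Set.mem_iInter₂.1 hz (j : ℕ) (Finset.mem_range.2 j.2)
    have h2 := hp' ((j : ℕ) : ℤ)
    have h3 := hq' ((j : ℕ) : ℤ)
    rw [h1, h3] at h2
    exact_mod_cast h2.symm
  have := (hp' d).trans ((congrArg (Polynomial.eval (d : ℚ)) hpq).trans (hq' d).symm)
  exact_mod_cast this

omit hG

theorem chi_pullback {P' T' : Scheme.{u}} {π' : P' ⟶ T'} {g : P' ⟶ P} {v : T' ⟶ T}
    {h' : P' ⟶ CohB1.ProjSpace n (ULift.{u} ℤ)} (hsq : IsPullback g π' π v) (hg : g ≫ h = h')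
    [Coh.IsQCoh G] (y : T') (d : ℤ) :
    chi π' h' ((Scheme.Modules.pullback g).obj G) y d = chi π h G (v y) d := by
  subst hg
  haveI : Coh.IsQCoh (CohB1.tensorMod G (OT n h d)) := AmpleLib.isQCoh_tensor_invertible G (isInvertible_OT h d)
  refine Finset.sum_congr rfl fun p _ => ?_
  obtain ⟨e⟩ := nonempty_pullback_twist h g G d
  rw [← fiberRank_pullback hsq _ p y]
  refine congrArg (fun m : ℕ => (-1 : ℤ) ^ p * (m : ℤ)) ?_
  exact CohBC.finrank_HH_congr _ ((Scheme.Modules.pullback (π'.fiberι y)).mapIso e.symm) p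

theorem HasHP.pullback {P' T' : Scheme.{u}} {π' : P' ⟶ T'} {g : P' ⟶ P} {v : T' ⟶ T}
    {h' : P' ⟶ CohB1.ProjSpace n (ULift.{u} ℤ)} (hsq : IsPullback g π' π v) (hg : g ≫ h = h')
    [Coh.IsQCoh G] {Φ : Polynomial ℚ} (hΦ : HasHP π h G Φ) : HasHP π' h' ((Scheme.Modules.pullback g).obj G) Φ :=
  fun y d => by rw [chi_pullback hsq hg]; exact hΦ (v y) d

theorem chi_congr {G' : P.Modules} (e : G ≅ G') (y : T) (d : ℤ) : chi π h G y d = chi π h G' y d :=
  Finset.sum_congr rfl fun p _ => congrArg (fun m : ℕ => (-1 : ℤ) ^ p * (m : ℤ))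
    (CohBC.finrank_HH_congr _ ((Scheme.Modules.pullback (π.fiberι y)).mapIso
      (AmpleLib.tensorIso e (Iso.refl _))) p)

theorem HasHP.congr {G' : P.Modules} (e : G ≅ G') {Φ : Polynomial ℚ} (hΦ : HasHP π h G Φ) : HasHP π h G' Φ :=
  fun y d => by rw [← chi_congr e]; exact hΦ y d

end Groth.Agent.Quot8

end
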