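import Groth.Agent.Quot8.Corr
import Groth.Agent.Quot8.Hilb
import Groth.Agent.Quot8.FlatSES
import Groth.Agent.Coherent.RpushComp
import Groth.Agent.SpecSeq.RightDerivedPlus
import Groth.Agent.Coherent.CohOps
import Groth.Agent.DCat.PerfTensor

/-!
# The Grassmannian point of a quotient with regular fibres
-/

set_option autoImplicit false
set_option linter.style.haveILetI false
set_option linter.unusedSectionVars false
set_option backward.isDefEq.respectTransparency false
set_option maxHeartbeats 1000000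

universe u

open CategoryTheory CategoryTheory.Limits AlgebraicGeometry TopologicalSpace Opposite
open Groth.Agent.Coherent Groth.Agent.PicLib Groth.Agent.AmpleLib Groth.Agent.GrassLib

noncomputable section

namespace Groth.Agent.Quot8

variable (n r a : ℕ)

/-- Quotients of `O^r(a)` with Hilbert polynomial `Φ` have `0`-regular fibres, and so have their kernels. -/
def GoodHP (Φ : Polynomial ℚ) : Prop :=
  ∀ (P T : Scheme.{u}) (π : P ⟶ T) (h : P ⟶ CohB1.ProjSpace n (ULift.{u} ℤ)), IsPn n π h →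
    IsLocallyNoetherian T → ∀ (Q : P.Modules) (q : EP n r a h ⟶ Q), Epi q → Coh.IsCoh Q →
      FlatMod.IsFlatOver π Q → HasHP π h Q Φ → RegFib π h (kernel q) 0 ∧ RegFib π h Q 0

variable {n r a} {P T : Scheme.{u}} {π : P ⟶ T} {h : P ⟶ CohB1.ProjSpace n (ULift.{u} ℤ)}

theorem nonempty_twist_zero (G : P.Modules) : Nonempty (CohB1.tensorMod G (OT n h 0) ≅ G) := by
  obtain ⟨e⟩ := nonempty_OT_zero (n := n) h
  exact ⟨AmpleLib.tensorIso (Iso.refl G) e ≪≫ Groth.Agent.DCat.PerfTensor.unitorR G⟩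

theorem isCoh_EP [IsLocallyNoetherian P] : Coh.IsCoh (EP n r a h) := by
  haveI : IsNoetherianRing (ULift.{u} ℤ) := isNoetherianRing_of_ringEquiv ℤ ULift.ringEquiv.symm
  haveI := isProper_projSpace_toSpec n (ULift.{u} ℤ)
  haveI : IsLocallyNoetherian (CohB1.ProjSpace n (ULift.{u} ℤ)) :=
    LocallyOfFiniteType.isLocallyNoetherian (CohB1.ProjSpace.toSpec n (ULift.{u} ℤ))
  exact ZClosLib.isCoh_pullback h _ (isCoh_G₀.{u} n r a)

theorem isFlatOver_EP (H : IsPn n π h) : FlatMod.IsFlatOver π (EP n r a h) := fun x =>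
  Desc19b.isFlatOverAt_baseChange _ _ _ _ H _ x (isFlatOver_G₀.{u} n r a _)

theorem compat_congr {e : ℕ} {D D' : Datum (numGen.{u} n r a) e T} (hD : D.ker = D'.ker) {Q : P.Modules}
    {q : EP n r a h ⟶ Q} (hc : Compat r a π h D q) : Compat r a π h D' q := by
  obtain ⟨ψ, hψ⟩ := hc
  obtain ⟨i, hi⟩ := D'.exists_iso D hD.symm
  refine ⟨i.hom ≫ ψ, fun j => ?_⟩
  show ψ.app ⊤ (i.hom.app ⊤ (D'.t j)) = _
  rw [hi, hψ]

theorem IsUniv.congr {e : ℕ} {D D' : Datum (numGen.{u} n r a) e T} (hD : D.ker = D'.ker) {Q : P.Modules}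
    {q : EP n r a h ⟶ Q} (hq : IsUniv r a π h D q) : IsUniv r a π h D' q :=
  ⟨hq.1, compat_congr hD hq.2.1, fun Q' q' hc => hq.2.2 Q' q' (compat_congr hD.symm hc)⟩

theorem finLocFreeOfRank_of_iso {e : ℕ} {M N : T.Modules} (i : M ≅ N) (hM : FlatMod.IsFinLocFreeOfRank e M) :
    FlatMod.IsFinLocFreeOfRank e N := fun x => by
  obtain ⟨U, hx, ⟨f⟩⟩ := hM x
  exact ⟨U, hx, ⟨(Scheme.Modules.restrictFunctor U.ι).mapIso i.symm ≪≫ f⟩⟩

theorem isZero_of_toAb {M : T.Modules} (hM : IsZero (Coh.toAb M)) : IsZero M :=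
  (IsZero.iff_id_eq_zero M).2 ((toAbFunctor T).map_injective (hM.eq_of_src _ _))

variable (H : IsPn n π h) [IsLocallyNoetherian T] {Φ : Polynomial ℚ} (hgood : GoodHP.{u} n r a Φ) {e : ℕ}
  (he : (e : ℚ) = Φ.eval 0) {Q : P.Modules} (q : EP n r a h ⟶ Q) [Epi q] (hQ : Coh.IsCoh Q)
  (hfl : FlatMod.IsFlatOver π Q) (hHP : HasHP π h Q Φ)

include H hgood he hQ hfl hHP

/-- The point of a quotient with Hilbert polynomial `Φ`, determined by compatibility. -/
theorem exists_datum : ∃ D : Datum (numGen.{u} n r a) e T, IsUniv r a π h D q ∧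
    ∀ D' : Datum (numGen.{u} n r a) e T, Compat r a π h D' q → D'.ker = D.ker := by
  haveI := H.isProper
  haveI : IsLocallyNoetherian P := LocallyOfFiniteType.isLocallyNoetherian π
  haveI : HasInjectiveResolutions P.Modules := by infer_instance
  haveI : Flat π := H.flat
  obtain ⟨hK, hR⟩ := hgood P T π h H inferInstance Q q inferInstance hQ hfl hHP
  have hKc : Coh.IsCoh (kernel q) := Coherent.isCoh_kernel q isCoh_EP hQ.1
  let S : ShortComplex P.Modules := ShortComplex.mk (kernel.ι q) q (kernel.condition q)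
  have hS : S.ShortExact := { exact := ShortComplex.exact_kernel q }
  have hKfl : FlatMod.IsFlatOver π (kernel q) := isFlatOver_of_shortExact π hS (isFlatOver_EP H) hfl
  let pf := Scheme.Modules.pushforward π
  haveI : Epi (pf.map q) := by
    refine SpecSeq.epi_map_of_isZero_rightDerived_one hS ?_
    have h1 := isZero_rpushAb_twist H hKc hKfl hK le_rfl 1 le_rfl
    obtain ⟨i⟩ := nonempty_twist_zero (h := h) (kernel q)
    have h2 := h1.of_iso ((Coh.RpushAb π 1).mapIso ((toAbFunctor P).mapIso i.symm))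
    obtain ⟨j⟩ := Groth.Agent.S11319.result π (kernel q) 1
    exact isZero_of_toAb (h2.of_iso j)
  have hrank : FlatMod.IsFinLocFreeOfRank e (pf.obj Q) := by
    obtain ⟨i⟩ := nonempty_twist_zero (h := h) Q
    refine finLocFreeOfRank_of_iso (pf.mapIso i) (isFinLocFreeOfRank_push_twist H hQ hfl hR le_rfl fun y g hg => ?_)
    have h1 := hHP y 0
    rw [hg.chi_eq hQ, Int.cast_zero, ← he] at h1
    exact_mod_cast h1
  let t : Fin (numGen.{u} n r a) → Γ(pf.obj Q, ⊤) := fun j => q.app ⊤ (genVec r a h j)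
  have hgen : genMap r a π h ≫ pf.map q = freeDesc fun j : ULift.{u} (Fin (numGen.{u} n r a)) => unitDesc (pf.obj Q) (t j.down) := by
    refine freeMod_hom_ext fun j => Existence.unit_hom_ext ?_
    rw [← Category.assoc, freeInj_freeDesc, freeInj_freeDesc]
    show (pf.map q).app ⊤ (unitVal (unitDesc _ _) ⊤) = unitVal (unitDesc _ _) ⊤
    rw [unitVal_unitDesc, unitVal_unitDesc, resM_self, resM_self]
    rfl
  haveI := epi_genMap r a H
  haveI : Epi (freeDesc fun j : ULift.{u} (Fin (numGen.{u} n r a)) => unitDesc (pf.obj Q) (t j.down)) := hgen ▸ inferInstance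
  let D : Datum (numGen.{u} n r a) e T := Datum.ofEpi hrank t
  refine ⟨D, ⟨inferInstance, ⟨𝟙 _, fun j => rfl⟩, fun Q' q' hq' => ?_⟩, fun D' hD' => ?_⟩
  · obtain ⟨ψ, hψ⟩ := hq'
    have h1 : pf.map q ≫ ψ = pf.map q' := by
      rw [← cancel_epi (genMap r a π h), ← Category.assoc, hgen]
      refine freeMod_hom_ext fun j => Existence.unit_hom_ext ?_
      rw [← Category.assoc, freeInj_freeDesc, ← Category.assoc, freeInj_freeDesc]
      show ψ.app ⊤ (unitVal (unitDesc _ _) ⊤) = (pf.map q').app ⊤ (unitVal (unitDesc _ _) ⊤)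
      rw [unitVal_unitDesc, unitVal_unitDesc, resM_self, resM_self]
      exact hψ j.down
    haveI : Epi ((Scheme.Modules.pullbackPushforwardAdjunction π).counit.app (kernel q)) := by
      obtain ⟨i⟩ := nonempty_twist_zero (h := h) (kernel q)
      let c := (Scheme.Modules.pullbackPushforwardAdjunction π).counit
      have h0 := epi_counit_twist H hKc hKfl hK le_rfl
      haveI : Epi (c.app (CohB1.tensorMod (kernel q) (OT n h 0)) ≫ i.hom) := epi_comp _ _
      have hn := c.naturality i.hom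
      dsimp only [Functor.id_obj, Functor.id_map] at hn
      haveI : Epi ((pf ⋙ Scheme.Modules.pullback π).map i.hom ≫ c.app (kernel q)) := hn ▸ inferInstance
      exact epi_of_epi ((pf ⋙ Scheme.Modules.pullback π).map i.hom) _
    have h2 : kernel.ι q ≫ q' = 0 := by
      rw [← cancel_epi ((Scheme.Modules.pullbackPushforwardAdjunction π).counit.app (kernel q)), comp_zero]
      refine ((Scheme.Modules.pullbackPushforwardAdjunction π).counit.naturality (kernel.ι q ≫ q')).symm.trans ?_
      rw [show (pf ⋙ Scheme.Modules.pullback π).map (kernel.ι q ≫ q') =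
        (Scheme.Modules.pullback π).map (pf.map (kernel.ι q ≫ q')) from rfl, pf.map_comp, ← h1,
        ← Category.assoc, ← pf.map_comp, kernel.condition, pf.map_zero, zero_comp,
        (Scheme.Modules.pullback π).map_zero, zero_comp]
    exact ⟨Abelian.epiDesc q q' h2, Abelian.comp_epiDesc _ _ _⟩
  · obtain ⟨ψ, hψ⟩ := hD'
    exact D'.ker_eq_of_hom D ψ hψ

end Groth.Agent.Quot8

end
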