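import Groth.Agent.Quot8.Sections
import Groth.Agent.GrassLib.GrassExists
import Groth.Agent.Quot8.QuotCalc

/-!
# Quotients of twisted free modules against quotients of their generating sections

A datum `D` of rank `e` quotients of `O^N` on the base and a quotient `q` of `E' = h^*(O^r(a))` are compatible when
some map `D.L ⟶ π_* Q` sends the sections of `D` to the images of the generating sections.
-/

set_option autoImplicit false
set_option linter.style.haveILetI false
set_option linter.unusedSectionVars false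
set_option backward.isDefEq.respectTransparency false
set_option maxHeartbeats 1000000

universe u

open CategoryTheory CategoryTheory.Limits AlgebraicGeometry TopologicalSpace Opposite
open Groth.Agent.Coherent Groth.Agent.PicLib Groth.Agent.AmpleLib Groth.Agent.GrassLib

noncomputable section

namespace Groth.Agent.Quot8

variable (n r a : ℕ) {e : ℕ}

/-- `O^r(a)` on a family of projective spaces. -/
abbrev EP {P : Scheme.{u}} (h : P ⟶ CohB1.ProjSpace n (ULift.{u} ℤ)) : P.Modules :=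
  (Scheme.Modules.pullback h).obj (G₀.{u} n r a)

variable {n} {P T P' T' : Scheme.{u}}

/-- The generating sections of `O^r(a)`. -/
def genVec (h : P ⟶ CohB1.ProjSpace n (ULift.{u} ℤ)) (j : Fin (numGen.{u} n r a)) :
    Γ(EP n r a h, (⊤ : P.Opens)) :=
  pullSec h (gen n r a j)

/-- A datum on the base compatible with a quotient. -/
def Compat (π : P ⟶ T) (h : P ⟶ CohB1.ProjSpace n (ULift.{u} ℤ)) (D : Datum (numGen.{u} n r a) e T)
    {Q : P.Modules} (q : EP n r a h ⟶ Q) : Prop :=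
  ∃ ψ : D.L ⟶ (Scheme.Modules.pushforward π).obj Q, ∀ j, ψ.app ⊤ (D.t j) = q.app ⊤ (genVec r a h j)

/-- The universal compatible quotient. -/
def IsUniv (π : P ⟶ T) (h : P ⟶ CohB1.ProjSpace n (ULift.{u} ℤ)) (D : Datum (numGen.{u} n r a) e T)
    {Q : P.Modules} (q : EP n r a h ⟶ Q) : Prop :=
  Epi q ∧ Compat r a π h D q ∧ ∀ (Q' : P.Modules) (q' : EP n r a h ⟶ Q'), Compat r a π h D q' → ∃ b, q ≫ b = q'

variable {r a} {π : P ⟶ T} {h : P ⟶ CohB1.ProjSpace n (ULift.{u} ℤ)} {D : Datum (numGen.{u} n r a) e T}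

theorem genSec_eq (j : Fin (numGen.{u} n r a)) :
    genSec r a π h j = (genVec r a h j : Γ(EP n r a h, (⊤ : P.Opens))) := rfl

theorem Compat.comp {Q Q' : P.Modules} {q : EP n r a h ⟶ Q} (hq : Compat r a π h D q) (b : Q ⟶ Q') :
    Compat r a π h D (q ≫ b) := by
  obtain ⟨ψ, hψ⟩ := hq
  refine ⟨ψ ≫ (Scheme.Modules.pushforward π).map b, fun j => ?_⟩
  show b.app ⊤ (ψ.app ⊤ (D.t j)) = b.app ⊤ (q.app ⊤ (genVec r a h j))
  rw [hψ j]

theorem IsUniv.kernelSubobject_eq {Q Q' : P.Modules} {q : EP n r a h ⟶ Q} {q' : EP n r a h ⟶ Q'}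
    (hq : IsUniv r a π h D q) (hq' : IsUniv r a π h D q') : kernelSubobject q = kernelSubobject q' := by
  haveI := hq.1
  haveI := hq'.1
  obtain ⟨b, hb⟩ := hq.2.2 _ q' hq'.2.1
  obtain ⟨c, hc⟩ := hq'.2.2 _ q hq.2.1
  refine le_antisymm (le_kernelSubobject _ _ ?_) (le_kernelSubobject _ _ ?_)
  · rw [← hb, kernelSubobject_arrow_comp_assoc, zero_comp]
  · rw [← hc, kernelSubobject_arrow_comp_assoc, zero_comp]

theorem IsUniv.comp_iso {Q Q' : P.Modules} {q : EP n r a h ⟶ Q} (hq : IsUniv r a π h D q) (i : Q ≅ Q') :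
    IsUniv r a π h D (q ≫ i.hom) := by
  haveI := hq.1
  refine ⟨epi_comp _ _, hq.2.1.comp _, fun Q'' q'' h'' => ?_⟩
  obtain ⟨b, hb⟩ := hq.2.2 _ q'' h''
  exact ⟨i.inv ≫ b, by simp [hb]⟩

/-- Universal compatible quotients exist. -/
theorem exists_isUniv (π : P ⟶ T) (h : P ⟶ CohB1.ProjSpace n (ULift.{u} ℤ)) (D : Datum (numGen.{u} n r a) e T) :
    ∃ (Q : P.Modules) (q : EP n r a h ⟶ Q), IsUniv r a π h D q ∧ Coh.IsQCoh Q := by
  let adj := Scheme.Modules.pullbackPushforwardAdjunction π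
  let α := (Scheme.Modules.pullback π).map D.desc
  let β := (adj.homEquiv _ _).symm (genMap r a π h)
  haveI : Epi α := Grass.epi_pullback_map π D.desc
  have key : ∀ {Q : P.Modules} (q : EP n r a h ⟶ Q) (χ : (Scheme.Modules.pullback π).obj D.L ⟶ Q),
      α ≫ χ = β ≫ q ↔ ∀ j, (adj.homEquiv _ _ χ).app ⊤ (D.t j) = q.app ⊤ (genVec r a h j) := by
    intro Q q χ
    rw [← (adj.homEquiv _ _).apply_eq_iff_eq, adj.homEquiv_naturality_left, adj.homEquiv_naturality_right,
      Equiv.apply_symm_apply]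
    constructor
    · intro he j
      have h1 := congrArg (fun φ : freeMod T _ ⟶ _ => φ.app ⊤ (freeBasisVec (X := T) (ULift.up.{u} j) ⊤)) he
      simp only [Scheme.Modules.Hom.comp_app, ConcreteCategory.comp_apply] at h1
      erw [D.desc_basisVec j] at h1
      refine h1.trans ?_
      refine congrArg (((Scheme.Modules.pushforward π).map q).app ⊤) ?_
      show unitVal (freeInj (ULift.up.{u} j) ≫ genMap r a π h) ⊤ = genSec r a π h j
      rw [freeInj_freeDesc, unitVal_unitDesc, resM_self]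
    · intro he
      refine freeMod_hom_ext fun i => Existence.unit_hom_ext ?_
      show unitVal (freeInj i ≫ D.desc ≫ adj.homEquiv _ _ χ) ⊤ = unitVal (freeInj i ≫ genMap r a π h ≫ _) ⊤
      rw [Datum.desc, ← Category.assoc, freeInj_freeDesc, ← Category.assoc, freeInj_freeDesc]
      show (adj.homEquiv _ _ χ).app ⊤ (unitVal (unitDesc _ _) ⊤) =
        ((Scheme.Modules.pushforward π).map q).app ⊤ (unitVal (unitDesc _ _) ⊤)
      rw [unitVal_unitDesc, unitVal_unitDesc, resM_self, resM_self]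
      exact he i.down
  let γ := kernel.ι α ≫ β
  haveI : Coh.IsQCoh (G₀.{u} n r a) := (isCoh_G₀.{u} n r a).1
  haveI : Coh.IsQCoh (EP n r a h) := EGA43.InjFibre.isQCoh_pullback h _
  haveI := D.isQCoh
  haveI : Coh.IsQCoh (freeMod T (ULift.{u} (Fin (numGen.{u} n r a)))) := isQCoh_freeMod
  haveI : Coh.IsQCoh ((Scheme.Modules.pullback π).obj (freeMod T (ULift.{u} (Fin (numGen.{u} n r a))))) :=
    EGA43.InjFibre.isQCoh_pullback π _
  haveI : Coh.IsQCoh ((Scheme.Modules.pullback π).obj D.L) := EGA43.InjFibre.isQCoh_pullback π _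
  haveI : Coh.IsQCoh (kernel α) := Coherent.isQCoh_kernel α
  have hχ : kernel.ι α ≫ β ≫ cokernel.π γ = 0 := by rw [← Category.assoc]; exact cokernel.condition γ
  refine ⟨cokernel γ, cokernel.π γ, ⟨inferInstance,
    ⟨adj.homEquiv _ _ (Abelian.epiDesc α (β ≫ cokernel.π γ) hχ), (key _ _).1 (Abelian.comp_epiDesc _ _ _)⟩,
    fun Q' q' hq' => ?_⟩, Coherent.isQCoh_cokernel γ⟩
  obtain ⟨ψ, hψ⟩ := hq'
  have h2 : α ≫ (adj.homEquiv _ _).symm ψ = β ≫ q' := (key _ _).2 fun j => by
    rw [Equiv.apply_symm_apply]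
    exact hψ j
  exact ⟨cokernel.desc γ q' (by rw [Category.assoc, ← h2, kernel.condition_assoc, zero_comp]),
    cokernel.π_desc _ _ _⟩

variable {π' : P' ⟶ T'} {g : P' ⟶ P} {v : T' ⟶ T} {h' : P' ⟶ CohB1.ProjSpace n (ULift.{u} ℤ)}

theorem quotBC_app_genVec (hg : g ≫ h = h') {Q : P.Modules} (q : EP n r a h ⟶ Q) (j : Fin (numGen.{u} n r a)) :
    (Grass.quotBC hg q).app ⊤ (genVec r a h' j) = pullSec g (q.app ⊤ (genVec r a h j)) :=
  GrassLib.quotBC_app_pullSec q hg (gen n r a j)

/-- Compatibility is preserved by base change. -/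
theorem Compat.pull (w : g ≫ π = π' ≫ v) (hg : g ≫ h = h') {Q : P.Modules} {q : EP n r a h ⟶ Q}
    (hq : Compat r a π h D q) : Compat r a π' h' (D.pull v) (Grass.quotBC hg q) := by
  obtain ⟨ψ, hψ⟩ := hq
  let adjg := Scheme.Modules.pullbackPushforwardAdjunction g
  let θ : (Scheme.Modules.pushforward π).obj Q ⟶
      (Scheme.Modules.pushforward v).obj ((Scheme.Modules.pushforward π').obj ((Scheme.Modules.pullback g).obj Q)) :=
    (Scheme.Modules.pushforward π).map (adjg.unit.app Q) ≫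
      (Scheme.Modules.pushforwardComp g π).hom.app _ ≫ (Scheme.Modules.pushforwardCongr w).hom.app _ ≫
        (Scheme.Modules.pushforwardComp π' v).inv.app _
  refine ⟨((Scheme.Modules.pullbackPushforwardAdjunction v).homEquiv _ _).symm (ψ ≫ θ), fun j => ?_⟩
  refine (homEquiv_symm_app_pullSec v (ψ ≫ θ) (D.t j)).trans ?_
  show θ.app ⊤ (ψ.app ⊤ (D.t j)) = _
  rw [hψ j, quotBC_app_genVec hg q j]
  exact resM_self ((Scheme.Modules.pullback g).obj Q) le_rfl (pullSec g (q.app ⊤ (genVec r a h j)))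

/-- Universality is preserved by base change. -/
theorem IsUniv.pull (w : g ≫ π = π' ≫ v) (hg : g ≫ h = h') {Q : P.Modules} {q : EP n r a h ⟶ Q}
    (hq : IsUniv r a π h D q) : IsUniv r a π' h' (D.pull v) (Grass.quotBC hg q) := by
  haveI := hq.1
  refine ⟨GrassLib.epi_quotBC q hg, hq.2.1.pull w hg, fun Q' q' hq' => ?_⟩
  obtain ⟨ψ', hψ'⟩ := hq'
  let adjg := Scheme.Modules.pullbackPushforwardAdjunction g
  let c : (Scheme.Modules.pullback g).obj (EP n r a h) ≅ EP n r a h' :=
    bcGenIso g h hg (G₀.{u} n r a)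
  let q'' : EP n r a h ⟶ (Scheme.Modules.pushforward g).obj Q' := adjg.homEquiv _ _ (c.hom ≫ q')
  have hc : ∀ j, c.hom.app ⊤ (pullSec g (genVec r a h j)) = genVec r a h' j := fun j => by
    subst hg
    show ((Scheme.Modules.pullbackComp g h).hom.app _).app ⊤ _ = _
    have h1 := pullbackComp_inv_app_pullSec g h (G₀.{u} n r a) ⊤ (gen n r a j)
    exact (congrArg (((Scheme.Modules.pullbackComp g h).hom.app (G₀.{u} n r a)).app ⊤) h1.symm).trans
      (congrArg (fun φ : EP n r a (g ≫ h) ⟶ EP n r a (g ≫ h) => φ.app ⊤ (genVec r a (g ≫ h) j))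
        ((Scheme.Modules.pullbackComp g h).inv_hom_id_app (G₀.{u} n r a)))
  have hcompat : Compat r a π h D q'' := by
    let θ : (Scheme.Modules.pushforward v).obj ((Scheme.Modules.pushforward π').obj Q') ⟶
        (Scheme.Modules.pushforward π).obj ((Scheme.Modules.pushforward g).obj Q') :=
      (Scheme.Modules.pushforwardComp π' v).hom.app _ ≫ (Scheme.Modules.pushforwardCongr w).inv.app _ ≫
        (Scheme.Modules.pushforwardComp g π).inv.app _
    refine ⟨(Scheme.Modules.pullbackPushforwardAdjunction v).homEquiv _ _ ψ' ≫ θ, fun j => ?_⟩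
    show θ.app ⊤ (((Scheme.Modules.pullbackPushforwardAdjunction v).homEquiv _ _ ψ').app ⊤ (D.t j)) = _
    rw [Adjunction.homEquiv_unit]
    refine (resM_self Q' le_rfl _).trans ((hψ' j).trans ?_)
    simp only [q'', Adjunction.homEquiv_unit]
    exact congrArg (q'.app ⊤) (hc j).symm
  obtain ⟨b, hb⟩ := hq.2.2 _ q'' hcompat
  refine ⟨(adjg.homEquiv _ _).symm b, ?_⟩
  have h1 : (Scheme.Modules.pullback g).map q ≫ (adjg.homEquiv _ _).symm b = c.hom ≫ q' := by
    rw [← adjg.homEquiv_naturality_left_symm, hb]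
    exact Equiv.symm_apply_apply _ _
  rw [quotBC_eq_gen, Category.assoc, h1, ← Category.assoc]
  exact (congrArg (· ≫ q') c.inv_hom_id).trans (Category.id_comp _)

end Groth.Agent.Quot8

end
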