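import Groth.Agent.Quot8.Piece
import Groth.Agent.Quot8.Twist
import Mathlib.AlgebraicGeometry.Limits

/-!
# Quot schemes of twisted free modules with a given Hilbert polynomial
-/

set_option autoImplicit false
set_option linter.style.haveILetI false
set_option linter.unusedSectionVars false
set_option backward.isDefEq.respectTransparency false
set_option maxHeartbeats 1600000

universe u

open CategoryTheory CategoryTheory.Limits AlgebraicGeometry TopologicalSpace
open scoped ZeroObject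
open Groth.Agent.Coherent Groth.Agent.PicLib Groth.Agent.AmpleLib

noncomputable section

namespace Groth.Agent.Quot8

section General

variable {X P P' : Scheme.{u}} {p : P ⟶ X} {p' : P' ⟶ X} {g : P' ⟶ P} {Y : Scheme.{u}} {h₀ : X ⟶ Y}
  {h : P ⟶ Y} {h' : P' ⟶ Y} {M : Y.Modules} {N : X.Modules}

/-- Base change of a quotient that factors through an intermediate inverse image. -/
theorem quotBC_quotBC_comp (w : g ≫ p = p') (hp : p ≫ h₀ = h) (hp' : p' ≫ h₀ = h') (hh : g ≫ h = h')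
    (θ : (Scheme.Modules.pullback h₀).obj M ⟶ N) {R : P.Modules} (t : (Scheme.Modules.pullback p).obj N ⟶ R) :
    Grass.quotBC hh (Grass.quotBC hp θ ≫ t) = Grass.quotBC hp' θ ≫ Grass.quotBC w t := by
  subst w
  rw [GrassLib.quotBC_comp_map, ← GrassLib.quotBC_comp θ hp hh hp', Category.assoc]
  congr 1


theorem kernelSubobject_congr {A B : X.Modules} {u v : A ⟶ B} (e : u = v) : kernelSubobject u = kernelSubobject v := by
  subst e
  rfl

variable {Q : X.Modules}

theorem kernelSubobject_quotBC_congr (q : (Scheme.Modules.pullback h₀).obj M ⟶ Q) {c d : P ⟶ X} (e : c = d)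
    (hc : c ≫ h₀ = h) (hd : d ≫ h₀ = h) :
    kernelSubobject (Grass.quotBC hc q) = kernelSubobject (Grass.quotBC hd q) := by
  subst e
  rfl

theorem kernelSubobject_quotBC_comp (q : (Scheme.Modules.pullback h₀).obj M ⟶ Q) {c : P ⟶ X} {d : P' ⟶ X}
    (e : g ≫ c = d) (hc : c ≫ h₀ = h) (hd : d ≫ h₀ = h') (hh : g ≫ h = h') :
    kernelSubobject (Grass.quotBC hh (Grass.quotBC hc q)) = kernelSubobject (Grass.quotBC hd q) := by
  subst e
  exact (kernelSubobject_congr (GrassLib.quotBC_comp q hc hh hd).symm).trans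
    (kernelSubobject_comp_iso _ ((Scheme.Modules.pullbackComp g c).symm.app Q))

end General

variable {n r : ℕ} (l : ℤ) (S : Scheme.{u})

/-- `O^r(-l)` on `P^n_S`. -/
abbrev EF (n r : ℕ) : (CohB1.ProjSpaceOver n S).Modules :=
  CohB1.tensorMod (FlatMod.freeMod (CohB1.ProjSpaceOver n S) r) (Twist.twistOver n S (-l))

variable {S l}

/-- The projection of `P^n_T` to `P^n_ℤ`. -/
abbrev hX (n : ℕ) {S : Scheme.{u}} (T : Over S) :
    PicF.XT (CohB1.ProjSpaceOver.toBase n S) T ⟶ CohB1.ProjSpace n (ULift.{u} ℤ) :=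
  pullback.fst (CohB1.ProjSpaceOver.toBase n S) T.hom ≫ hG n S

theorem XTmap_hX {T T' : Over S} (g : T' ⟶ T) :
    PicF.XTmap (CohB1.ProjSpaceOver.toBase n S) g ≫ hX n T = hX n T' := by
  rw [hX, ← Category.assoc, FGA.XTmap_fst]

/-- The Hilbert polynomial of a point. -/
def QuotHP {E : (CohB1.ProjSpaceOver n S).Modules} {T : Over S}
    (K : Subobject (FGA.ET (CohB1.ProjSpaceOver.toBase n S) E T)) (Ψ : Polynomial ℚ) : Prop :=
  HasHP (PicF.XTproj (CohB1.ProjSpaceOver.toBase n S) T) (hX n T) (cokernel K.arrow) Ψ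

theorem isPn_hX (T : Over S) : IsPn n (PicF.XTproj (CohB1.ProjSpaceOver.toBase n S) T) (hX n T) := isPn_XT T

instance isProper_XTproj (T : Over S) : IsProper (PicF.XTproj (CohB1.ProjSpaceOver.toBase n S) T) :=
  (isPn_hX T).isProper

instance isLocallyFiniteType_toBase : LocallyOfFiniteType (CohB1.ProjSpaceOver.toBase n S) :=
  haveI := (isPn_projSpaceOver n S).isProper
  inferInstance

theorem chi_cokernel_quotPull {E : (CohB1.ProjSpaceOver n S).Modules} {T T' : Over S} [IsLocallyNoetherian T.left]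
    [IsLocallyNoetherian T'.left]
    (g : T' ⟶ T) (K : FGA.QuotSet (CohB1.ProjSpaceOver.toBase n S) E T) (y : T'.left) (d : ℤ) :
    chi (PicF.XTproj (CohB1.ProjSpaceOver.toBase n S) T') (hX n T')
        (cokernel (FGA.quotPull (CohB1.ProjSpaceOver.toBase n S) E g K.1).arrow) y d =
      chi (PicF.XTproj (CohB1.ProjSpaceOver.toBase n S) T) (hX n T) (cokernel K.1.arrow) (g.left y) d := by
  haveI := K.2.1.1
  have h1 : FGA.quotPull (CohB1.ProjSpaceOver.toBase n S) E g K.1 =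
      kernelSubobject (bcQ (CohB1.ProjSpaceOver.toBase n S) E g (cokernel.π K.1.arrow)) := by
    conv_lhs => rw [← kernelSubobject_cokernel K.1]
    rw [quotPull_kernelSubobject]
  rw [← chi_pullback (FlatMor12.FlatFun.isPullback_XTmap _ g) (XTmap_hX g) y d, h1]
  haveI := epi_bcQ (CohB1.ProjSpaceOver.toBase n S) E g (cokernel.π K.1.arrow)
  obtain ⟨i, -⟩ := exists_cokernel_kernelSubobject_iso
    (bcQ (CohB1.ProjSpaceOver.toBase n S) E g (cokernel.π K.1.arrow))
  exact chi_congr i y d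

theorem QuotHP.quotPull {E : (CohB1.ProjSpaceOver n S).Modules} {T T' : Over S} [IsLocallyNoetherian T.left]
    [IsLocallyNoetherian T'.left]
    (g : T' ⟶ T) {K : FGA.QuotSet (CohB1.ProjSpaceOver.toBase n S) E T} {Ψ : Polynomial ℚ} (h : QuotHP K.1 Ψ) :
    QuotHP (FGA.quotPull (CohB1.ProjSpaceOver.toBase n S) E g K.1) Ψ := fun y d => by
  rw [chi_cokernel_quotPull g K y d]
  exact h _ d

theorem chi_twist {P T : Scheme.{u}} {π : P ⟶ T} {h : P ⟶ CohB1.ProjSpace n (ULift.{u} ℤ)} [IsProper π]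
    (Q : P.Modules) {L : P.Modules} {c : ℤ} (i : L ≅ OT n h c) (y : T) (d : ℤ) :
    chi π h (CohB1.tensorMod Q L) y d = chi π h Q y (c + d) := by
  obtain ⟨e⟩ := nonempty_twist_twist h Q (show c + d = c + d from rfl)
  refine Finset.sum_congr rfl fun p _ => congrArg (fun m : ℕ => (-1 : ℤ) ^ p * (m : ℤ)) ?_
  exact CohBC.finrank_HH_congr _ ((Scheme.Modules.pullback (π.fiberι y)).mapIso
    (AmpleLib.tensorIso (AmpleLib.tensorIso (Iso.refl Q) i) (Iso.refl _) ≪≫ e)) p

variable [AlgebraicGeometry.IsNoetherian S]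

set_option maxHeartbeats 4000000 in
/-- The Quot scheme of `O^r(-l)` with Hilbert polynomial `Ψ`. -/
theorem exists_quot_piece (n r : ℕ) (l : ℤ) (Ψ : Polynomial ℚ) :
    ∃ (Z : Over S) (_ : IsLocallyNoetherian Z.left)
      (K : FGA.QuotSet (CohB1.ProjSpaceOver.toBase n S) (EF l S n r) Z),
      QuotHP K.1 Ψ ∧ (∃ (M : ℕ) (c : Z.left ⟶ CohB1.ProjSpaceOver M S), IsClosedImmersion c ∧
        c ≫ CohB1.ProjSpaceOver.toBase M S = Z.hom) ∧
      ∀ (T : Over S), IsLocallyNoetherian T.left →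
        ∀ (K' : FGA.QuotSet (CohB1.ProjSpaceOver.toBase n S) (EF l S n r) T), QuotHP K'.1 Ψ →
          ∃! g : T ⟶ Z, FGA.quotPull (CohB1.ProjSpaceOver.toBase n S) (EF l S n r) g K.1 = K'.1 := by
  classical
  let f := CohB1.ProjSpaceOver.toBase n S
  let E := EF l S n r
  let h₀ := hG n S
  obtain ⟨a, hgood⟩ : ∃ a : ℕ, GoodHP.{u} n r a (shiftPoly (shiftPoly Ψ l) a) := by
    obtain ⟨m₀, h⟩ := exists_goodHP.{u} n r (shiftPoly Ψ l)
    exact ⟨m₀, h m₀ le_rfl⟩
  let Φ := shiftPoly (shiftPoly Ψ l) a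
  let c : ℤ := a + l
  let L := OT n h₀ c
  have hΦ : ∀ d : ℤ, Φ.eval (d : ℚ) = Ψ.eval ((c + d : ℤ) : ℚ) := fun d => by
    simp [Φ, c, shiftPoly]
    ring_nf
  obtain ⟨θ₁⟩ := nonempty_EP_iso (r := r) a h₀
  obtain ⟨θ₂⟩ := nonempty_twist_twist h₀ (FlatMod.freeMod (CohB1.ProjSpaceOver n S) r)
    (show -l + c = (a : ℤ) by omega)
  let θ : EP n r a h₀ ≅ CohB1.tensorMod E L := θ₁ ≪≫ θ₂.symm
  let pr := fun T : Over S => pullback.fst f T.hom
  let LT := fun T : Over S => (Scheme.Modules.pullback (pr T)).obj L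
  have hLT : ∀ T : Over S, Nonempty (LT T ≅ OT n (hX n T) c) := fun T =>
    ⟨(Scheme.Modules.pullbackComp (pr T) h₀).app _⟩
  haveI hEq : ∀ T : Over S, (tensorR ((Scheme.Modules.pullback (pr T)).obj L)).IsEquivalence := fun T => by
    obtain ⟨i⟩ := hLT T
    haveI := isEquivalence_tensorR_OT (hX n T) c
    exact Functor.isEquivalence_of_iso ((DCoh.tensorBi (X := PicF.XT f T)).flip.mapIso i).symm
  -- the twisted form of a quotient
  let u₀ := fun T : Over S => Grass.quotBC (rfl : pr T ≫ h₀ = hX n T) θ.hom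
  haveI hu₀ : ∀ T : Over S, IsIso (u₀ T) := fun T => by
    dsimp only [u₀, Grass.quotBC]
    infer_instance
  let hat : ∀ (T : Over S) {Q : (PicF.XT f T).Modules}, (FGA.ET f E T ⟶ Q) →
      (EP n r a (hX n T) ⟶ CohB1.tensorMod Q (LT T)) :=
    fun T Q q => u₀ T ≫ twQ L (pr T) q
  have hat_epi : ∀ (T : Over S) {Q : (PicF.XT f T).Modules} (q : FGA.ET f E T ⟶ Q) [Epi q], Epi (hat T q) :=
    fun T Q q _ => by
      haveI := epi_twQ L (p := pr T) q
      exact epi_comp _ _
  have hat_iff : ∀ (T : Over S) {Q Q' : (PicF.XT f T).Modules} (q : FGA.ET f E T ⟶ Q) (q' : FGA.ET f E T ⟶ Q')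
      [Epi q] [Epi q'], kernelSubobject (hat T q) = kernelSubobject (hat T q') ↔
        kernelSubobject q = kernelSubobject q' := by
    intro T Q Q' q q' _ _
    haveI := epi_twQ L (p := pr T) q
    haveI := epi_twQ L (p := pr T) q'
    haveI := hat_epi T q
    haveI := hat_epi T q'
    rw [← twQ_kernel_eq_iff L q q', kernelSubobject_eq_iff, kernelSubobject_eq_iff]
    exact exists_congr fun i => by
      show (u₀ T ≫ _) ≫ i.hom = u₀ T ≫ _ ↔ _
      rw [Category.assoc, cancel_epi]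
  have hat_bc : ∀ {T T' : Over S} (g : T' ⟶ T) {Q : (PicF.XT f T).Modules} (q : FGA.ET f E T ⟶ Q),
      ∃ i : (Scheme.Modules.pullback (PicF.XTmap f g)).obj (CohB1.tensorMod Q (LT T)) ≅
          CohB1.tensorMod ((Scheme.Modules.pullback (PicF.XTmap f g)).obj Q) (LT T'),
        Grass.quotBC (XTmap_hX g) (hat T q) ≫ i.hom = hat T' (bcQ f E g q) := by
    intro T T' g Q q
    obtain ⟨i, hi⟩ := exists_quotBC_twQ L (FGA.XTmap_fst f g) q
    refine ⟨i, ?_⟩
    show Grass.quotBC (XTmap_hX g) (u₀ T ≫ twQ L (pr T) q) ≫ i.hom = _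
    rw [quotBC_quotBC_comp (FGA.XTmap_fst f g) rfl rfl (XTmap_hX g), Category.assoc, hi]
    show u₀ T' ≫ twQ L (pr T') (Grass.quotBC (FGA.XTmap_fst f g) q) = u₀ T' ≫ twQ L (pr T') (bcQ f E g q)
    rw [quotBC_eq_gen, bcQ_eq, ETiso_eq]
  have hat_hp : ∀ (T : Over S) [IsLocallyNoetherian T.left] (Q : (PicF.XT f T).Modules),
      HasHP (PicF.XTproj f T) (hX n T) (CohB1.tensorMod Q (LT T)) Φ ↔
        HasHP (PicF.XTproj f T) (hX n T) Q Ψ := by
    intro T _ Q
    obtain ⟨i⟩ := hLT T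
    constructor
    · intro h y d
      have h1 := h y (d - c)
      rw [chi_twist Q i, hΦ] at h1
      simpa using h1
    · intro h y d
      rw [chi_twist Q i, hΦ]
      exact h y _
  have hat_coh : ∀ (T : Over S) [IsLocallyNoetherian T.left] (Q : (PicF.XT f T).Modules),
      (Coh.IsCoh Q → Coh.IsCoh (CohB1.tensorMod Q (LT T))) ∧
      (FlatMod.IsFlatOver (PicF.XTproj f T) Q → FlatMod.IsFlatOver (PicF.XTproj f T) (CohB1.tensorMod Q (LT T))) := by
    intro T _ Q
    haveI := isLocallyNoetherian_XT f (T := T)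
    exact ⟨fun h => EulerLib.isCoh_twist (PicLoc.isInvertible_pullback _ (isInvertible_OT h₀ c)) h,
      fun h => CohExch.isFlatOver_twist _ (PicLoc.isInvertible_pullback _ (isInvertible_OT h₀ c)) Q h⟩
  by_cases he : ∃ e : ℕ, (e : ℚ) = Φ.eval 0
  · obtain ⟨e, he⟩ := he
    obtain ⟨G, Z₀, j, σ, Q₀, q₀, hj, ⟨M, cG, hcG, wG⟩, hZ, hq₀, hQ₀, hflat, huniv⟩ :=
      exists_piece (S := S) hgood he
    let Z : Over S := Over.mk (j ≫ σ)
    haveI : IsLocallyNoetherian Z.left := hZ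
    let qZ := Grass.quotBC (famMap_fst (PicF.XTproj f Z) (hX n Z) j) q₀
    haveI : Epi qZ := GrassLib.epi_quotBC q₀ _
    haveI : Epi (inv (u₀ Z) ≫ qZ) := epi_comp _ _
    obtain ⟨QZ, q, hq, i, hi⟩ := exists_twQ_eq L (p := pr Z) (inv (u₀ Z) ≫ qZ)
    haveI := hq
    have hi' : hat Z q ≫ i.hom = qZ := by
      show (u₀ Z ≫ _) ≫ _ = _
      rw [Category.assoc, hi, IsIso.hom_inv_id_assoc]
    have h1 := hflat Z.left _ (PicF.XTproj f Z) (hX n Z) (isPn_hX Z) inferInstance (𝟙 _)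
    rw [Category.id_comp] at h1
    haveI := isLocallyNoetherian_XT f (T := Z)
    have hQ₁ : Coh.IsCoh ((Scheme.Modules.pullback (famMap (PicF.XTproj f Z) (hX n Z) j)).obj Q₀) :=
      ZClosLib.isCoh_pullback _ _ hQ₀
    obtain ⟨back⟩ : Nonempty (CohB1.tensorMod (CohB1.tensorMod QZ (LT Z)) (OT n (hX n Z) (-c)) ≅ QZ) := by
      obtain ⟨e₁⟩ := hLT Z
      obtain ⟨e₂⟩ := nonempty_twist_twist (hX n Z) QZ (add_neg_cancel c)
      obtain ⟨e₃⟩ := nonempty_twist_zero (h := hX n Z) QZ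
      exact ⟨AmpleLib.tensorIso (AmpleLib.tensorIso (Iso.refl _) e₁) (Iso.refl _) ≪≫ e₂ ≪≫ e₃⟩
    have hQZ : Coh.IsCoh QZ :=
      Coherent.isCoh_of_iso back (isCoh_twist (Coherent.isCoh_of_iso i.symm hQ₁) (-c))
    have hflZ : FlatMod.IsFlatOver (PicF.XTproj f Z) QZ := fun x =>
      EGA43.DvrCrit.isFlatOverAt_of_iso _ back x (isFlatOver_twist
        (fun x => EGA43.DvrCrit.isFlatOverAt_of_iso _ i.symm x (h1.1 x)) (-c) x)
    let K := mkQuot f E q hQZ hflZ
    obtain ⟨iq, -⟩ := exists_cokernel_kernelSubobject_iso q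
    have hKΨ : QuotHP K.1 Ψ := ((hat_hp Z QZ).1 (h1.2.congr i.symm)).congr iq.symm
    refine ⟨Z, hZ, K, hKΨ, ⟨M, j ≫ cG, inferInstance, by rw [Category.assoc, wG]; rfl⟩, ?_⟩
    intro T hT K' hK'
    haveI := hT
    haveI := isLocallyNoetherian_XT f (T := T)
    let q' := hat T (cokernel.π K'.1.arrow)
    haveI : Epi q' := hat_epi T _
    obtain ⟨k, ⟨hk, hker⟩, hu⟩ := huniv T.left _ (PicF.XTproj f T) (hX n T) (isPn_hX T) hT T.hom _ q' inferInstance
      ((hat_coh T _).1 K'.2.1) ((hat_coh T _).2 K'.2.2) ((hat_hp T _).2 hK')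
    have key : ∀ g : T ⟶ Z, kernelSubobject (hat T (bcQ f E g q)) =
        kernelSubobject (Grass.quotBC (famMap_fst (PicF.XTproj f T) (hX n T) (g.left ≫ j)) q₀) := by
      intro g
      obtain ⟨i', hi'g⟩ := hat_bc g q
      have e : PicF.XTmap f g ≫ famMap (PicF.XTproj f Z) (hX n Z) j =
          famMap (PicF.XTproj f T) (hX n T) (g.left ≫ j) := by
        refine pullback.hom_ext ?_ ?_
        · rw [Category.assoc]
          erw [pullback.lift_fst, pullback.lift_fst]
          exact XTmap_hX g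
        · rw [Category.assoc]
          erw [pullback.lift_snd, pullback.lift_snd]
          rw [← Category.assoc, (FlatMor12.FlatFun.isPullback_XTmap f g).w, Category.assoc]
      refine (kernelSubobject_congr hi'g.symm).trans ((kernelSubobject_comp_iso _ i').trans ?_)
      rw [← kernelSubobject_quotBC_comp q₀ e
        (famMap_fst (PicF.XTproj f Z) (hX n Z) j) (famMap_fst (PicF.XTproj f T) (hX n T) (g.left ≫ j)) (XTmap_hX g)]
      show _ = kernelSubobject (Grass.quotBC (XTmap_hX g) qZ)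
      refine Eq.trans ?_ (kernelSubobject_congr ((GrassLib.quotBC_comp_map (hat Z q) i.hom (XTmap_hX g)).symm.trans
        (congrArg (Grass.quotBC (XTmap_hX g)) hi')))
      exact (kernelSubobject_comp_iso _ ((Scheme.Modules.pullback (PicF.XTmap f g)).mapIso i)).symm
    have key' : ∀ g : T ⟶ Z, FGA.quotPull f E g K.1 = K'.1 ↔
        kernelSubobject (Grass.quotBC (famMap_fst (PicF.XTproj f T) (hX n T) (g.left ≫ j)) q₀) =
          kernelSubobject q' := by
      intro g
      haveI := epi_bcQ f E g q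
      rw [← key g, hat_iff T, mkQuot_val, quotPull_kernelSubobject, kernelSubobject_cokernel]
    refine ⟨Over.homMk k hk, (key' _).2 hker, fun g hg => Over.OverMorphism.ext ?_⟩
    exact hu g.left ⟨Over.w g, (key' g).1 hg⟩
  · let Z : Over S := Over.mk ((⊥ : S.Opens).ι)
    haveI : IsEmpty Z.left := ⟨fun x => x.2.elim⟩
    haveI : IsEmpty (PicF.XT f Z) := Function.isEmpty (PicF.XTproj f Z)
    haveI := isLocallyNoetherian_XT f (T := Z)
    haveI : CompactSpace (PicF.XT f Z) := Finite.compactSpace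
    haveI : AlgebraicGeometry.IsNoetherian (PicF.XT f Z) := {}
    haveI : Epi (0 : FGA.ET f E Z ⟶ 0) := ⟨fun _ _ _ => (isZero_zero _).eq_of_src _ _⟩
    let K := mkQuot f E (0 : FGA.ET f E Z ⟶ 0) (Coherent.isCoh_of_isZero (isZero_zero _))
      (fun x => isEmptyElim x)
    obtain ⟨M, cM, hcM, wM⟩ : ∃ (M : ℕ) (c : Z.left ⟶ CohB1.ProjSpaceOver M S), IsClosedImmersion c ∧
        c ≫ CohB1.ProjSpaceOver.toBase M S = Z.hom :=
      ⟨0, isInitialOfIsEmpty.to _, inferInstance, isInitialOfIsEmpty.hom_ext _ _⟩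
    refine ⟨Z, inferInstance, K, fun y => isEmptyElim y, ⟨M, cM, hcM, wM⟩, fun T hT K' hK' => ?_⟩
    haveI := hT
    haveI hTe : IsEmpty T.left := ⟨fun y => he ?_⟩
    · haveI : IsEmpty (PicF.XT f T) := Function.isEmpty (PicF.XTproj f T)
      refine ⟨Over.homMk (isInitialOfIsEmpty.to _) (isInitialOfIsEmpty.hom_ext _ _), ?_,
        fun g _ => Over.OverMorphism.ext (isInitialOfIsEmpty.hom_ext _ _)⟩
      exact ext_cover f E (ι := PEmpty.{u + 1}) (V := fun i => i.elim) (fun i => i.elim) (fun x => isEmptyElim x)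
        (fun i => i.elim)
    · haveI := isLocallyNoetherian_XT f (T := T)
      let q' := hat T (cokernel.π K'.1.arrow)
      haveI : Epi q' := hat_epi T _
      have hc := (hat_coh T _).1 K'.2.1
      have hHP := (hat_hp T _).2 hK'
      obtain ⟨-, hR⟩ := hgood _ _ _ _ (isPn_hX T) hT _ q' inferInstance hc ((hat_coh T _).2 K'.2.2) hHP
      obtain ⟨g, hg⟩ := (isPn_hX T).exists_fibre y
      refine ⟨CohIII.fiberRank (PicF.XTproj f T)
        (CohB1.tensorMod (CohB1.tensorMod (cokernel K'.1.arrow) (LT T)) (OT n (hX n T) 0)) 0 y, ?_⟩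
      have h1 := fiberRank_zero_eq_eu hc hR le_rfl hg
      rw [← hg.chi_eq hc] at h1
      have h2 := hHP y 0
      rw [← h1] at h2
      simpa using h2

end Groth.Agent.Quot8

end
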