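import Groth.Agent.Quot8.HilbIdeal
import Groth.Agent.Quot8.FreeTwist
import Groth.Agent.PnEmb.SegreOver
import Groth.Agent.H8Coh.VanishLocus
import Groth.Agent.H8Coh.ProjFamily
import Groth.Agent.H8Coh.ImageLe
import Groth.Agent.S3218
import Mathlib.AlgebraicGeometry.Limits

/-!
# Flag Hilbert schemes of length two
-/

set_option autoImplicit false
set_option linter.style.haveILetI false
set_option linter.unusedSectionVars false
set_option backward.isDefEq.respectTransparency false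
set_option maxHeartbeats 1600000

universe u

open CategoryTheory CategoryTheory.Limits AlgebraicGeometry TopologicalSpace
open Groth.Agent.Coherent

noncomputable section

namespace Groth.Agent.Quot8

/-- The product of two projective spaces over a base embeds in a projective space. -/
theorem exists_closedImmersion_prod (S : Scheme.{u}) (a b : ℕ) :
    ∃ (M : ℕ) (c : pullback (CohB1.ProjSpaceOver.toBase a S) (CohB1.ProjSpaceOver.toBase b S) ⟶
        CohB1.ProjSpaceOver M S), IsClosedImmersion c ∧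
      c ≫ CohB1.ProjSpaceOver.toBase M S = pullback.fst _ _ ≫ CohB1.ProjSpaceOver.toBase a S := by
  obtain ⟨r, Φ, hΦ, -, h2, -⟩ := PnEmb.exists_segre_over.{u} S a b
  obtain ⟨e, he⟩ := PnEmb.exists_pullback_prod_iso (CohB1.ProjSpace.toSpec a (ULift.{u} ℤ))
    (CohB1.ProjSpace.toSpec b (ULift.{u} ℤ)) (specULiftZIsTerminal.from S)
  haveI := hΦ
  refine ⟨_, e.hom ≫ Φ, inferInstance, ?_⟩
  exact (Category.assoc _ _ _).trans ((congrArg (e.hom ≫ ·) h2).trans he)

variable {S : Scheme.{u}} [AlgebraicGeometry.IsNoetherian S] {n : ℕ}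

theorem exists_hilb_of_eq (f : CohB1.ProjSpaceOver n S ⟶ S) (hf : f = 𝟙 _ ≫ CohB1.ProjSpaceOver.toBase n S) :
    ∃ (H : Over S) (Z : FGA.HilbSet f H),
      FGA.HilbRepresentedBy f H Z ∧
      ∃ (ι : Type u) (P : ι → Scheme.{u}) (e : (∐ P) ≅ H.left) (r : ι → ℕ)
        (c : ∀ a, P a ⟶ CohB1.ProjSpaceOver (r a) S),
        ∀ a, IsClosedImmersion (c a) ∧
          c a ≫ CohB1.ProjSpaceOver.toBase (r a) S = Limits.Sigma.ι P a ≫ e.hom ≫ H.hom := by
  subst hf
  exact Groth.Agent.S3218.result S n _ (𝟙 _)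

theorem exists_quotSet_quotPull {X : Scheme.{u}} (f : X ⟶ S) [LocallyOfFiniteType f] (E : X.Modules) {T T' : Over S}
    [IsLocallyNoetherian T.left] [IsLocallyNoetherian T'.left] (a : T' ⟶ T) (K : FGA.QuotSet f E T) :
    ∃ K' : FGA.QuotSet f E T', K'.1 = FGA.quotPull f E a K.1 := by
  haveI := isLocallyNoetherian_XT f (T := T)
  haveI := isLocallyNoetherian_XT f (T := T')
  haveI := epi_bcQ f E a (cokernel.π K.1.arrow)
  refine ⟨mkQuot f E (bcQ f E a (cokernel.π K.1.arrow)) (ZClosLib.isCoh_pullback _ _ K.2.1)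
    (fun x => Desc19b.isFlatOverAt_baseChange _ _ _ _ (FlatMor12.FlatFun.isPullback_XTmap f a) _ x (K.2.2 _)), ?_⟩
  conv_rhs => rw [← kernelSubobject_cokernel K.1, quotPull_kernelSubobject]
  rfl

theorem exists_hilbSet_pull {X : Scheme.{u}} (f : X ⟶ S) [IsProper f] {T T' : Over S}
    [IsLocallyNoetherian T.left] [IsLocallyNoetherian T'.left] (a : T' ⟶ T) (Z : FGA.HilbSet f T) :
    ∃ Z' : FGA.HilbSet f T', Z'.1 = FGA.hilbPull f a Z.1 := by
  obtain ⟨K, hK⟩ := exists_quotSet_of_hilbSet f Z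
  obtain ⟨K', hK'⟩ := exists_quotSet_quotPull f (Coh.structureModule X) a K
  obtain ⟨Z', hZ'⟩ := exists_hilbSet_of_quotSet f K'
  refine ⟨Z', KI_injective (thetaT f T') ?_⟩
  rw [← hZ', hK', hK, quotPull_KI]

theorem hilbPull_comp {X : Scheme.{u}} (f : X ⟶ S) {T T' T'' : Over S} (a : T' ⟶ T) (b : T'' ⟶ T')
    (I : (PicF.XT f T).IdealSheafData) : FGA.hilbPull f (b ≫ a) I = FGA.hilbPull f b (FGA.hilbPull f a I) := by
  rw [FlatMor12.HilbBC.hilbPull_eq_comap, FlatMor12.HilbBC.hilbPull_eq_comap, FlatMor12.HilbBC.hilbPull_eq_comap,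
    XTmap_comp, Scheme.IdealSheafData.comap_comp]

/-- Containment of two flat families of subschemes of projective space is a closed condition. -/
theorem exists_le_locus (T : Over S) [IsLocallyNoetherian T.left]
    (Y₁ Y₂ : FGA.HilbSet (CohB1.ProjSpaceOver.toBase n S) T) :
    ∃ (W : Scheme.{u}) (j : W ⟶ T.left), IsClosedImmersion j ∧
      ∀ (U : Over S) [IsLocallyNoetherian U.left] (g : U ⟶ T),
        FGA.hilbPull (CohB1.ProjSpaceOver.toBase n S) g Y₂.1 ≤ FGA.hilbPull (CohB1.ProjSpaceOver.toBase n S) g Y₁.1 ↔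
          ∃ k : U.left ⟶ W, k ≫ j = g.left := by
  let f := CohB1.ProjSpaceOver.toBase n S
  haveI : IsProper f := (isPn_projSpaceOver n S).isProper
  let O := Coh.structureModule (CohB1.ProjSpaceOver n S)
  let πT := PicF.XTproj f T
  haveI : IsProper πT := (isPn_hX T).isProper
  haveI := isLocallyNoetherian_XT f (T := T)
  haveI : IsLocallyNoetherian (CohB1.ProjSpaceOver n S) := LocallyOfFiniteType.isLocallyNoetherian f
  obtain ⟨K₁, hK₁⟩ := exists_quotSet_of_hilbSet f Y₁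
  obtain ⟨K₂, hK₂⟩ := exists_quotSet_of_hilbSet f Y₂
  have hsrc : Coh.IsCoh (K₂.1 : (PicF.XT f T).Modules) := by
    have h : Coh.IsCoh (kernel (qI (thetaT f T) Y₂.1)) :=
      Coherent.isCoh_kernel _ (ZClosLib.isCoh_pullback _ _ (Coherent.isCoh_structureModule _))
        (CurveRR24.isCoh_quotMod Y₂.1).1
    rw [hK₂]
    exact Coherent.isCoh_of_iso (kernelSubobjectIso _).symm h
  let iso : PicF.XT f T ≅ CohB1.ProjSpaceOver n T.left := (isPn_hX T).isoPullback
  have hiso : iso.hom ≫ CohB1.ProjSpaceOver.toBase n T.left = πT := (isPn_hX T).isoPullback_hom_snd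
  let m := K₂.1.arrow ≫ cokernel.π K₁.1.arrow
  obtain ⟨W, j, hj, hW⟩ := H8Coh.exists_vanishing_locus πT (πT := πT) (g := 𝟙 _) (φ := 𝟙 T.left)
    (L := (Scheme.Modules.pullback iso.hom).obj (Twist.twistOver n T.left 1))
    (IsPullback.of_horiz_isIso ⟨by rw [Category.comp_id, Category.id_comp]⟩)
    (fun V hV => hiso ▸ H8Coh.isAmple_restrict_twist iso.hom hV)
    hsrc K₁.2.1 K₁.2.2 ((Scheme.Modules.pullback (𝟙 _)).map m)
  refine ⟨W, j, hj, fun U _ g => ?_⟩
  rw [← KI_le_iff (thetaT f U), ← quotPull_KI, ← quotPull_KI, ← hK₁, ← hK₂]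
  refine Iff.trans (H8Coh.map_imageSubobject_le_iff (Scheme.Modules.pullback (PicF.XTmap f g)) K₁.1.arrow
    K₂.1.arrow (FGA.ETiso f O g) (Iso.refl _) _ (Category.id_comp _).symm) ?_
  rw [← hW U.left _ g.left (PicF.XTmap f g) _ (FlatMor12.FlatFun.isPullback_XTmap f g),
    H8Coh.pullback_map_map_eq_zero_iff]
  exact ⟨H8Coh.pullback_congr_eq_zero m (Category.comp_id _).symm,
    H8Coh.pullback_congr_eq_zero m (Category.comp_id _)⟩

/-- The flag Hilbert scheme of length two of projective space. -/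
theorem exists_flag :
    ∃ (H : Over S) (W₁ W₂ : FGA.HilbSet (CohB1.ProjSpaceOver.toBase n S) H),
      W₂.1 ≤ W₁.1 ∧ IsLocallyNoetherian H.left ∧
      (∀ (T : Over S) [IsLocallyNoetherian T.left] (Y₁ Y₂ : FGA.HilbSet (CohB1.ProjSpaceOver.toBase n S) T),
          Y₂.1 ≤ Y₁.1 →
          ∃! g : T ⟶ H, FGA.hilbPull (CohB1.ProjSpaceOver.toBase n S) g W₁.1 = Y₁.1 ∧
            FGA.hilbPull (CohB1.ProjSpaceOver.toBase n S) g W₂.1 = Y₂.1) ∧
      ∃ (ι : Type u) (P : ι → Scheme.{u}) (e : (∐ P) ≅ H.left) (m : ι → ℕ)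
        (c : ∀ a, P a ⟶ CohB1.ProjSpaceOver (m a) S),
        ∀ a, IsClosedImmersion (c a) ∧
          c a ≫ CohB1.ProjSpaceOver.toBase (m a) S = Limits.Sigma.ι P a ≫ e.hom ≫ H.hom := by
  classical
  let f := CohB1.ProjSpaceOver.toBase n S
  haveI : IsProper f := (isPn_projSpaceOver n S).isProper
  obtain ⟨H₀, Z, ⟨hH, hrep⟩, ι, P, e, r, c, hc⟩ := exists_hilb_of_eq f (Category.id_comp _).symm
  haveI := hH
  -- the pieces of one Hilbert scheme
  let u : ∀ a, P a ⟶ H₀.left := fun a => Limits.Sigma.ι P a ≫ e.hom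
  haveI : ∀ a, IsOpenImmersion (u a) := fun a => inferInstanceAs (IsOpenImmersion (Limits.Sigma.ι P a ≫ e.hom))
  have hucov : ∀ x : H₀.left, ∃ a, x ∈ (u a).opensRange := fun x => by
    obtain ⟨a, z, hz⟩ : ∃ (a : ι) (z : P a), Limits.Sigma.ι P a z = e.inv x := (sigmaOpenCover P).exists_eq _
    exact ⟨a, z, by rw [Scheme.Hom.comp_apply, hz, ← Scheme.Hom.comp_apply, e.inv_hom_id]; rfl⟩
  have hudis : ∀ a b, a ≠ b → ∀ x y, u a x ≠ u b y := fun a b hab x y hxy => by
    have h1 : sigmaMk P ⟨a, x⟩ = sigmaMk P ⟨b, y⟩ := by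
      rw [sigmaMk_mk, sigmaMk_mk]
      have h2 := congrArg e.inv hxy
      rw [← Scheme.Hom.comp_apply, ← Scheme.Hom.comp_apply, Category.assoc, Category.assoc, e.hom_inv_id,
        Category.comp_id, Category.comp_id] at h2
      exact h2
    exact hab (congrArg Sigma.fst ((sigmaMk P).injective h1))
  haveI : LocallyOfFiniteType H₀.hom := by
    suffices h : LocallyOfFiniteType (e.hom ≫ H₀.hom) from
      (MorphismProperty.cancel_left_of_respectsIso @LocallyOfFiniteType e.hom H₀.hom).1 h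
    refine IsZariskiLocalAtSource.of_openCover (P := @LocallyOfFiniteType) (sigmaOpenCover P) fun a => ?_
    haveI := (hc a).1
    haveI : IsProper (CohB1.ProjSpaceOver.toBase (r a) S) := (isPn_projSpaceOver _ S).isProper
    show LocallyOfFiniteType (Limits.Sigma.ι P a ≫ e.hom ≫ H₀.hom)
    rw [← (hc a).2]
    infer_instance
  -- the product and the locus of containment
  let T₀ : Over S := Over.mk (pullback.fst H₀.hom H₀.hom ≫ H₀.hom)
  haveI : IsLocallyNoetherian T₀.left := LocallyOfFiniteType.isLocallyNoetherian (pullback.fst H₀.hom H₀.hom)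
  let p₁ : T₀ ⟶ H₀ := Over.homMk (pullback.fst H₀.hom H₀.hom) rfl
  let p₂ : T₀ ⟶ H₀ := Over.homMk (pullback.snd H₀.hom H₀.hom) pullback.condition.symm
  obtain ⟨A₁, hA₁⟩ := exists_hilbSet_pull f p₁ Z
  obtain ⟨A₂, hA₂⟩ := exists_hilbSet_pull f p₂ Z
  obtain ⟨W₀, j, hj, hW⟩ := exists_le_locus T₀ A₁ A₂
  haveI := hj
  let W : Over S := Over.mk (j ≫ T₀.hom)
  haveI : IsLocallyNoetherian W.left := LocallyOfFiniteType.isLocallyNoetherian j
  let cW : W ⟶ T₀ := Over.homMk j rfl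
  obtain ⟨W₁, hW₁⟩ := exists_hilbSet_pull f cW A₁
  obtain ⟨W₂, hW₂⟩ := exists_hilbSet_pull f cW A₂
  refine ⟨W, W₁, W₂, ?_, inferInstance, ?_, ?_⟩
  · rw [hW₁, hW₂]
    exact (hW W cW).2 ⟨𝟙 _, Category.id_comp _⟩
  · intro T _ Y₁ Y₂ hle
    obtain ⟨g₁, hg₁, hu₁⟩ := hrep T Y₁
    obtain ⟨g₂, hg₂, hu₂⟩ := hrep T Y₂
    let g : T ⟶ T₀ := Over.homMk (pullback.lift g₁.left g₂.left ((Over.w g₁).trans (Over.w g₂).symm))
      (show pullback.lift g₁.left g₂.left _ ≫ pullback.fst H₀.hom H₀.hom ≫ H₀.hom = T.hom by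
        rw [pullback.lift_fst_assoc, Over.w g₁])
    have e₁ : g ≫ p₁ = g₁ := Over.OverMorphism.ext (pullback.lift_fst _ _ _)
    have e₂ : g ≫ p₂ = g₂ := Over.OverMorphism.ext (pullback.lift_snd _ _ _)
    obtain ⟨k, hk⟩ := (hW T g).1 (by
      rw [hA₁, hA₂, ← hilbPull_comp, ← hilbPull_comp, e₁, e₂, hg₁, hg₂]
      exact hle)
    let k' : T ⟶ W := Over.homMk k (by
      show k ≫ j ≫ T₀.hom = T.hom
      rw [reassoc_of% hk]
      exact Over.w g)
    have hk' : k' ≫ cW = g := Over.OverMorphism.ext hk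
    refine ⟨k', ⟨?_, ?_⟩, fun k'' hk'' => ?_⟩
    · rw [hW₁, ← hilbPull_comp, hk', hA₁, ← hilbPull_comp, e₁, hg₁]
    · rw [hW₂, ← hilbPull_comp, hk', hA₂, ← hilbPull_comp, e₂, hg₂]
    · have h₁ := hu₁ (k'' ≫ cW ≫ p₁) (by
        show FGA.hilbPull f (k'' ≫ cW ≫ p₁) Z.1 = Y₁.1
        rw [← Category.assoc, hilbPull_comp, ← hA₁, hilbPull_comp, ← hW₁, hk''.1])
      have h₂ := hu₂ (k'' ≫ cW ≫ p₂) (by
        show FGA.hilbPull f (k'' ≫ cW ≫ p₂) Z.1 = Y₂.1
        rw [← Category.assoc, hilbPull_comp, ← hA₂, hilbPull_comp, ← hW₂, hk''.2])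
      refine Over.OverMorphism.ext ((cancel_mono j).1 (pullback.hom_ext ?_ ?_))
      · rw [show k'.left ≫ j = g.left from hk, Category.assoc]
        exact (congrArg CommaMorphism.left h₁).trans (pullback.lift_fst _ _ _).symm
      · rw [show k'.left ≫ j = g.left from hk, Category.assoc]
        exact (congrArg CommaMorphism.left h₂).trans (pullback.lift_snd _ _ _).symm
  · -- the pieces
    let uu : ∀ p : ι × ι, pullback (u p.1 ≫ H₀.hom) (u p.2 ≫ H₀.hom) ⟶ T₀.left := fun p =>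
      pullback.map (u p.1 ≫ H₀.hom) (u p.2 ≫ H₀.hom) H₀.hom H₀.hom (u p.1) (u p.2) (𝟙 S)
        (Category.comp_id _) (Category.comp_id _)
    haveI : ∀ p, IsOpenImmersion (uu p) := fun p => inferInstanceAs (IsOpenImmersion (pullback.map _ _ _ _ _ _ _ _ _))
    let Pw : ι × ι → Scheme.{u} := fun p => pullback j (uu p)
    let d : ∀ p, Pw p ⟶ W₀ := fun p => pullback.fst j (uu p)
    have hd : ∀ p (z : Pw p), ∀ (w : T₀.left), j (d p z) = w →
        pullback.fst H₀.hom H₀.hom w ∈ (u p.1).opensRange ∧ pullback.snd H₀.hom H₀.hom w ∈ (u p.2).opensRange := by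
      rintro p z _ rfl
      have h1 : j (d p z) = uu p (pullback.snd j (uu p) z) := by
        show (pullback.fst j (uu p) ≫ j) z = (pullback.snd j (uu p) ≫ uu p) z
        rw [pullback.condition]
      rw [h1]
      refine ⟨⟨pullback.fst (u p.1 ≫ H₀.hom) (u p.2 ≫ H₀.hom) (pullback.snd j (uu p) z), ?_⟩, ⟨pullback.snd (u p.1 ≫ H₀.hom) (u p.2 ≫ H₀.hom) (pullback.snd j (uu p) z), ?_⟩⟩
      · show (pullback.fst _ _ ≫ u p.1) _ = (uu p ≫ pullback.fst H₀.hom H₀.hom) _
        rw [pullback.lift_fst]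
      · show (pullback.snd _ _ ≫ u p.2) _ = (uu p ≫ pullback.snd H₀.hom H₀.hom) _
        rw [pullback.lift_snd]
    have hdis : Pairwise (Function.onFun Disjoint fun p => Set.range (d p)) := by
      intro p q hpq
      refine Set.disjoint_left.2 ?_
      rintro _ ⟨z, rfl⟩ ⟨z', hz'⟩
      obtain ⟨⟨a, ha⟩, ⟨b, hb⟩⟩ := hd p z _ rfl
      obtain ⟨⟨a', ha'⟩, ⟨b', hb'⟩⟩ := hd q z' _ rfl
      rw [hz'] at ha' hb'
      apply hpq
      refine Prod.ext ?_ ?_
      · by_contra h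
        exact hudis _ _ h a a' (ha.trans ha'.symm)
      · by_contra h
        exact hudis _ _ h b b' (hb.trans hb'.symm)
    haveI := isOpenImmersion_sigmaDesc Pw d hdis
    have hsurj : (Sigma.desc d).opensRange = ⊤ := by
      rw [eq_top_iff]
      intro w _
      obtain ⟨a, ha⟩ := hucov (pullback.fst H₀.hom H₀.hom (j w))
      obtain ⟨b, hb⟩ := hucov (pullback.snd H₀.hom H₀.hom (j w))
      have hmem : j w ∈ Set.range (uu (a, b)) := by
        refine (Set.ext_iff.1 (Scheme.Pullback.range_map (u a ≫ H₀.hom) (u b ≫ H₀.hom) H₀.hom H₀.hom (u a) (u b)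
          (𝟙 S) (Category.comp_id _) (Category.comp_id _)) (j w)).2 ⟨ha, hb⟩
      obtain ⟨x, hx⟩ := hmem
      obtain ⟨z, hz, -⟩ := Scheme.Pullback.exists_preimage_pullback (f := j) (g := uu (a, b)) w x hx.symm
      refine ⟨Limits.Sigma.ι Pw (a, b) z, ?_⟩
      rw [← Scheme.Hom.comp_apply, Sigma.ι_desc]
      exact hz
    haveI : IsIso (Sigma.desc d) := isIso_of_isOpenImmersion_of_opensRange_eq_top _ hsurj
    choose M cc hcc₁ hcc₂ using fun p : ι × ι => exists_closedImmersion_prod S (r p.1) (r p.2)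
    have hw : ∀ a, u a ≫ H₀.hom = c a ≫ CohB1.ProjSpaceOver.toBase (r a) S := fun a => by
      rw [(hc a).2, Category.assoc]
    let mm : ∀ p : ι × ι, pullback (u p.1 ≫ H₀.hom) (u p.2 ≫ H₀.hom) ⟶
        pullback (CohB1.ProjSpaceOver.toBase (r p.1) S) (CohB1.ProjSpaceOver.toBase (r p.2) S) := fun p =>
      pullback.map _ _ _ _ (c p.1) (c p.2) (𝟙 S) (by rw [Category.comp_id, hw]) (by rw [Category.comp_id, hw])
    haveI : ∀ p, IsClosedImmersion (mm p) := fun p =>
      MorphismProperty.pullbackMap (P := @IsClosedImmersion) (hc p.1).1 (hc p.2).1 (hw p.1) (hw p.2)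
    refine ⟨ι × ι, Pw, (asIso (Sigma.desc d) : (∐ Pw) ≅ W₀), M, fun p => pullback.snd j (uu p) ≫ mm p ≫ cc p, fun p => ⟨?_, ?_⟩⟩
    · haveI := hcc₁ p
      haveI : IsClosedImmersion (pullback.snd j (uu p)) :=
        MorphismProperty.pullback_snd (P := @IsClosedImmersion) _ _ inferInstance
      infer_instance
    · have hL : mm p ≫ pullback.fst _ _ ≫ CohB1.ProjSpaceOver.toBase (r p.1) S =
          uu p ≫ pullback.fst H₀.hom H₀.hom ≫ H₀.hom := by
        simp only [mm, uu, pullback.lift_fst_assoc, Category.assoc]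
        exact congrArg (pullback.fst _ _ ≫ ·) (hw p.1).symm
      have hR : Limits.Sigma.ι Pw p ≫ (asIso (Sigma.desc d) : (∐ Pw) ≅ W₀).hom = d p := Sigma.ι_desc _ _
      show (pullback.snd j (uu p) ≫ mm p ≫ cc p) ≫ CohB1.ProjSpaceOver.toBase (M p) S =
        Limits.Sigma.ι Pw p ≫ (asIso (Sigma.desc d) : (∐ Pw) ≅ W₀).hom ≫ j ≫ pullback.fst H₀.hom H₀.hom ≫ H₀.hom
      refine (Category.assoc _ _ _).trans ((congrArg (pullback.snd j (uu p) ≫ ·) ((Category.assoc _ _ _).trans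
        ((congrArg (mm p ≫ ·) (hcc₂ p)).trans hL))).trans ?_)
      exact ((reassoc_of% hR) _).trans (pullback.condition_assoc (f := j) (g := uu p) _) |>.symm

end Groth.Agent.Quot8

end
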