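import Groth.Agent.FlatMor12.HilbOpen
import Groth.Agent.Misc15.ClosedDescent
import Mathlib.AlgebraicGeometry.Sites.Fpqc

/-!
# The quotient by a flat proper equivalence relation inside a Hilbert scheme
-/

set_option autoImplicit false
set_option linter.style.haveILetI false
set_option linter.unusedSectionVars false
set_option backward.isDefEq.respectTransparency false
set_option backward.isDefEq.respectTransparency.types false
set_option maxHeartbeats 1000000

universe u

open CategoryTheory CategoryTheory.Limits AlgebraicGeometry TopologicalSpace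

noncomputable section

namespace Groth.Agent.Quot8

theorem isPullback_of_ker_eq_comap {A B C : Scheme.{u}} (h : A ⟶ B) (I : B.IdealSheafData) (k : C ⟶ A)
    [IsClosedImmersion k] (e : I.comap h = k.ker) : ∃ u : C ⟶ I.subscheme, IsPullback u k I.subschemeι h := by
  suffices key : ∀ J : A.IdealSheafData, I.comap h = J → ∃ u : J.subscheme ⟶ I.subscheme,
      IsPullback u J.subschemeι I.subschemeι h by
    obtain ⟨u, hu⟩ := key k.ker e
    have hk : k.toImage ≫ k.ker.subschemeι = k := Scheme.Hom.toImage_imageι k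
    exact ⟨k.toImage ≫ u, hu.of_iso (asIso k.toImage).symm (Iso.refl _) (Iso.refl _) (Iso.refl _)
      (by simp) (by rw [Iso.symm_hom, asIso_inv, Iso.refl_hom, Category.comp_id, IsIso.eq_inv_comp]; exact hk)
      (by simp) (by simp)⟩
  rintro J rfl
  refine ⟨(I.comapIso h).hom ≫ pullback.snd h I.subschemeι, ?_⟩
  exact (IsPullback.of_hasPullback h I.subschemeι).flip.of_iso (I.comapIso h).symm (Iso.refl _) (Iso.refl _)
    (Iso.refl _) (by rw [Iso.symm_hom, Iso.refl_hom, Category.comp_id, Iso.inv_hom_id_assoc]) (by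
      rw [Iso.symm_hom, Iso.refl_hom, Category.comp_id]
      exact (Iso.eq_inv_comp _).2 (I.comapIso_hom_fst h)) (by simp) (by simp)

theorem ker_le_of_comp {C C' A : Scheme.{u}} (k : C ⟶ A) (k' : C' ⟶ A) (m : C' ⟶ C) (h : m ≫ k = k') :
    k.ker ≤ k'.ker := by
  subst h
  exact Scheme.Hom.le_ker_comp _ _

variable {S O : Scheme.{u}} (fO : O ⟶ S) [IsSeparated fO] [LocallyOfFiniteType fO]
  (H : Over S) (Z : FGA.HilbSet fO H) (hH : FGA.HilbRepresentedBy fO H Z) [IsSeparated H.hom]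
  [IsLocallyNoetherian S]
  (X R : Over S) [LocallyOfFiniteType X.hom] (e₁ : X.left ⟶ O) [IsClosedImmersion e₁] (he : e₁ ≫ fO = X.hom)
  (f₁ f₂ : R ⟶ X) [IsProper f₁.left] [Flat f₁.left]

include hH he in
/-- The quotient is a locally closed subscheme of the Hilbert scheme. -/
theorem exists_flat_quotient
    (hinj : ∀ (T : Over S) (r r' : T ⟶ R), r ≫ f₁ = r' ≫ f₁ → r ≫ f₂ = r' ≫ f₂ → r = r')
    (hequiv : ∀ T : Over S, Equivalence (fun a b : T ⟶ X => ∃ r : T ⟶ R, r ≫ f₁ = a ∧ r ≫ f₂ = b)) :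
    ∃ (Q : Over S) (q : X ⟶ Q) (w : f₁ ≫ q = f₂ ≫ q) (ι : Q ⟶ H),
      IsImmersion ι.left ∧ Nonempty (IsColimit (Cofork.ofπ q w)) ∧
      Function.Surjective q.left ∧ Flat q.left ∧ IsProper q.left ∧
      ∀ (T : Over S) (a b : T ⟶ X), a ≫ q = b ≫ q → ∃ r : T ⟶ R, r ≫ f₁ = a ∧ r ≫ f₂ = b := by
  haveI := hH.1
  haveI : IsLocallyNoetherian X.left := LocallyOfFiniteType.isLocallyNoetherian X.hom
  haveI : IsLocallyNoetherian R.left := LocallyOfFiniteType.isLocallyNoetherian f₁.left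
  -- the family over `X`
  let Γ : R.left ⟶ PicF.XT fO X := pullback.lift (f₂.left ≫ e₁) f₁.left (by
    rw [Category.assoc, he, Over.w, Over.w])
  have hΓ₁ : Γ ≫ pullback.fst fO X.hom = f₂.left ≫ e₁ := pullback.lift_fst _ _ _
  have hΓ₂ : Γ ≫ PicF.XTproj fO X = f₁.left := pullback.lift_snd _ _ _
  haveI : Mono Γ := by
    refine ⟨fun {W} s t hst => ?_⟩
    have h1 : s ≫ f₁.left = t ≫ f₁.left := by rw [← hΓ₂, ← Category.assoc, hst, Category.assoc]
    have h2 : s ≫ f₂.left = t ≫ f₂.left := by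
      rw [← cancel_mono e₁, Category.assoc, Category.assoc, ← hΓ₁, ← Category.assoc, hst, Category.assoc]
    have hs : t ≫ R.hom = s ≫ R.hom := by rw [← Over.w f₁, ← Category.assoc, ← h1, Category.assoc]
    exact congrArg CommaMorphism.left (hinj (Over.mk (s ≫ R.hom)) (Over.homMk s) (Over.homMk t hs)
      (Over.OverMorphism.ext h1) (Over.OverMorphism.ext h2))
  haveI : IsSeparated (PicF.XTproj fO X) := inferInstanceAs (IsSeparated (pullback.snd fO X.hom))
  haveI : IsProper (Γ ≫ PicF.XTproj fO X) := by rw [hΓ₂]; infer_instance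
  haveI hΓ : IsClosedImmersion Γ :=
    (IsClosedImmersion.iff_isProper_and_mono _).2 ⟨IsProper.of_comp Γ (PicF.XTproj fO X), inferInstance⟩
  let Y : FGA.HilbSet fO X := ⟨Γ.ker,
    (MorphismProperty.cancel_left_of_respectsIso @IsProper Γ.toImage _).1 (by
      show IsProper (Γ.toImage ≫ Γ.imageι ≫ PicF.XTproj fO X)
      rw [Scheme.Hom.toImage_imageι_assoc, hΓ₂]; infer_instance),
    (MorphismProperty.cancel_left_of_respectsIso @Flat Γ.toImage _).1 (by
      show Flat (Γ.toImage ≫ Γ.imageι ≫ PicF.XTproj fO X)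
      rw [Scheme.Hom.toImage_imageι_assoc, hΓ₂]; infer_instance)⟩
  obtain ⟨φ, hφ, -⟩ := hH.2 X Y
  let π : Z.1.subscheme ⟶ H.left := Z.1.subschemeι ≫ PicF.XTproj fO H
  have hφ' : Z.1.comap (PicF.XTmap fO φ) = Γ.ker :=
    (FlatMor12.HilbBC.hilbPull_eq_comap fO φ Z.1).symm.trans hφ
  obtain ⟨u, hu⟩ := isPullback_of_ker_eq_comap (PicF.XTmap fO φ) Z.1 Γ hφ'
  have hR : IsPullback u f₁.left π φ.left := hΓ₂ ▸ hu.paste_vert (FlatMor12.HilbOpen.isPullback_XTmap fO φ)
  have hu₁ : u ≫ Z.1.subschemeι ≫ pullback.fst fO H.hom = f₂.left ≫ e₁ := by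
    rw [← Category.assoc, hu.w, Category.assoc]
    refine Eq.trans ?_ hΓ₁
    simp [PicF.XTmap]
  -- related points have the same image
  have hf₁₂ : f₁ ≫ φ = f₂ ≫ φ := by
    obtain ⟨Y₁, hY₁⟩ : ∃ Y₁ : FGA.HilbSet fO R, Y₁.1 = FGA.hilbPull fO (f₁ ≫ φ) Z.1 :=
      ⟨⟨_, FlatMor12.HilbOpen.prop_hilbPull fO @IsProper _ _ Z.2.1,
        FlatMor12.HilbOpen.prop_hilbPull fO @Flat _ _ Z.2.2⟩, rfl⟩
    have hk : ∀ g : R ⟶ X, FGA.hilbPull fO (g ≫ φ) Z.1 = (pullback.fst (PicF.XTmap fO g) Γ).ker := fun g => by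
      rw [Scheme.IdealSheafData.ker_fst_of_isClosedImmersion, FlatMor12.HilbBC.hilbPull_eq_comap, ← hφ',
        ← Scheme.IdealSheafData.comap_comp]
      congr 1
      apply pullback.hom_ext <;> simp [PicF.XTmap, PicF.XT]
    have key : ∀ g g' : R ⟶ X, (∃ r : R ⟶ R, r ≫ f₁ = g' ∧ r ≫ f₂ = g) →
        (pullback.fst (PicF.XTmap fO g') Γ).ker ≤ (pullback.fst (PicF.XTmap fO g) Γ).ker := by
      intro g g' hgg
      let c := pullback.fst (PicF.XTmap fO g) Γ
      let r' := pullback.snd (PicF.XTmap fO g) Γ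
      let p := c ≫ PicF.XTproj fO R
      let W : Over S := Over.mk (p ≫ R.hom)
      have hr' : r' ≫ f₁.left = p ≫ g.left := by
        rw [← hΓ₂, ← Category.assoc, ← pullback.condition, Category.assoc,
          (FlatMor12.HilbOpen.isPullback_XTmap fO g).w, ← Category.assoc]
      have hr'S : r' ≫ R.hom = p ≫ R.hom := by
        rw [← Over.w f₁, ← Category.assoc, hr', Category.assoc, Over.w, Over.w]
      let P : W ⟶ R := Over.homMk p
      let R' : W ⟶ R := Over.homMk r' hr'S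
      obtain ⟨r, hr₁, hr₂⟩ := hgg
      have h1 : R' ≫ f₁ = P ≫ g := Over.OverMorphism.ext hr'
      obtain ⟨s, hs₁, hs₂⟩ := (hequiv W).trans (x := P ≫ g') (y := P ≫ g) (z := R' ≫ f₂)
        ⟨P ≫ r, by rw [Category.assoc, hr₁], by rw [Category.assoc, hr₂]⟩ ⟨R', h1, rfl⟩
      have e : c ≫ PicF.XTmap fO g' = s.left ≫ Γ := by
        refine pullback.hom_ext ?_ ?_
        · rw [Category.assoc, Category.assoc]
          show c ≫ PicF.XTmap fO g' ≫ pullback.fst fO X.hom = s.left ≫ Γ ≫ pullback.fst fO X.hom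
          rw [hΓ₁, ← Category.assoc s.left, show s.left ≫ f₂.left = r' ≫ f₂.left from congrArg CommaMorphism.left hs₂,
            Category.assoc, ← hΓ₁, ← Category.assoc r', ← pullback.condition, Category.assoc]
          simp [PicF.XTmap, c]
        · rw [Category.assoc, Category.assoc]
          show c ≫ PicF.XTmap fO g' ≫ PicF.XTproj fO X = s.left ≫ Γ ≫ PicF.XTproj fO X
          rw [hΓ₂, (FlatMor12.HilbOpen.isPullback_XTmap fO g').w,
            show s.left ≫ f₁.left = p ≫ g'.left from congrArg CommaMorphism.left hs₁, ← Category.assoc]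
      exact ker_le_of_comp _ c (pullback.lift c s.left e) (pullback.lift_fst _ _ _)
    have hrel : ∃ r : R ⟶ R, r ≫ f₁ = f₁ ∧ r ≫ f₂ = f₂ := ⟨𝟙 R, Category.id_comp _, Category.id_comp _⟩
    obtain ⟨g, -, hg⟩ := hH.2 R Y₁
    refine (hg _ hY₁.symm).trans (hg _ ?_).symm
    show FGA.hilbPull fO (f₂ ≫ φ) Z.1 = Y₁.1
    rw [hY₁, hk, hk]
    exact le_antisymm (key f₁ f₂ ((hequiv R).symm hrel)) (key f₂ f₁ hrel)
  -- points with the same image are related
  have hrel : ∀ (W : Over S) (a b : W ⟶ X), a ≫ φ = b ≫ φ → ∃ r : W ⟶ R, r ≫ f₁ = a ∧ r ≫ f₂ = b := by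
    intro W a b hab
    obtain ⟨s, hs₁, hs₂⟩ := (hequiv W).refl b
    have hw : (s.left ≫ u) ≫ π = a.left ≫ φ.left := by
      rw [Category.assoc, hR.w, ← Category.assoc]
      show (s ≫ f₁).left ≫ φ.left = a.left ≫ φ.left
      rw [hs₁]
      exact (congrArg CommaMorphism.left hab).symm
    let t := hR.lift (s.left ≫ u) a.left hw
    have ht₁ : t ≫ f₁.left = a.left := hR.lift_snd _ _ hw
    have htS : t ≫ R.hom = W.hom := by rw [← Over.w f₁, ← Category.assoc, ht₁, Over.w]
    refine ⟨Over.homMk t htS, Over.OverMorphism.ext ht₁, Over.OverMorphism.ext ?_⟩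
    show t ≫ f₂.left = b.left
    rw [← cancel_mono e₁, Category.assoc, ← hu₁, ← Category.assoc,
      show t ≫ u = s.left ≫ u from hR.lift_fst _ _ hw, Category.assoc, hu₁, ← Category.assoc]
    exact congrArg (fun m : W ⟶ X => m.left ≫ e₁) hs₂
  -- the graph in the universal family
  obtain ⟨r₀, hr₁, hr₂⟩ := (hequiv X).refl (𝟙 X)
  have hr₁' : r₀.left ≫ f₁.left = 𝟙 _ := congrArg CommaMorphism.left hr₁
  have hr₂' : r₀.left ≫ f₂.left = 𝟙 _ := congrArg CommaMorphism.left hr₂
  let G : X.left ⟶ Z.1.subscheme := r₀.left ≫ u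
  have hGπ : G ≫ π = φ.left := by rw [Category.assoc, hR.w, ← Category.assoc, hr₁', Category.id_comp]
  have hG₁ : G ≫ Z.1.subschemeι ≫ pullback.fst fO H.hom = e₁ := by
    rw [Category.assoc, hu₁, ← Category.assoc, hr₂', Category.id_comp]
  haveI : IsClosedImmersion G := by
    haveI : IsClosedImmersion (G ≫ Z.1.subschemeι ≫ pullback.fst fO H.hom) := by rw [hG₁]; infer_instance
    exact IsClosedImmersion.of_comp G (Z.1.subschemeι ≫ pullback.fst fO H.hom)
  -- the open image of the universal family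
  haveI : IsProper π := Z.2.1
  haveI : Flat π := Z.2.2
  haveI : LocallyOfFinitePresentation π := inferInstance
  let H₂ : H.left.Opens := ⟨Set.range π, π.isOpenMap.isOpen_range⟩
  have hπr : Set.range π ⊆ Set.range H₂.ι := by rw [H₂.range_ι]; exact subset_rfl
  let π₂ : Z.1.subscheme ⟶ (H₂ : Scheme.{u}) := IsOpenImmersion.lift H₂.ι π hπr
  have hπ₂ : π₂ ≫ H₂.ι = π := IsOpenImmersion.lift_fac _ _ _
  have hπ₂pb : IsPullback (𝟙 _) π₂ π H₂.ι :=
    ⟨⟨by rw [Category.id_comp, hπ₂]⟩, ⟨PullbackCone.IsLimit.mk _ (fun s => s.fst) (fun s => Category.comp_id _)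
      (fun s => by rw [← cancel_mono H₂.ι, Category.assoc, hπ₂, s.condition]) fun s m h1 _ => by simpa using h1⟩⟩
  haveI : Flat π₂ := MorphismProperty.of_isPullback (P := @Flat) hπ₂pb inferInstance
  haveI : IsProper π₂ := MorphismProperty.of_isPullback (P := @IsProper) hπ₂pb inferInstance
  haveI : LocallyOfFinitePresentation π₂ :=
    MorphismProperty.of_isPullback (P := @LocallyOfFinitePresentation) hπ₂pb inferInstance
  haveI : Surjective π₂ := ⟨fun h => by
    obtain ⟨z, hz⟩ : H₂.ι h ∈ Set.range π := h.2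
    exact ⟨z, H₂.ι.isOpenEmbedding.injective (by rw [← Scheme.Hom.comp_apply, hπ₂, hz])⟩⟩
  let P : ∀ T : Scheme.{u}, (T ⟶ (H₂ : Scheme.{u})) → Prop := fun T x =>
    ∀ (W : Scheme.{u}) (y : W ⟶ Z.1.subscheme) (t : W ⟶ T), y ≫ π₂ = t ≫ x → ∃ z, z ≫ G = y
  obtain ⟨Q₀, j, hj, hQ⟩ := Misc15.ClosedDescent.exists_closedImmersion π₂ P
    (fun T T' s x h W y t e => h W y (t ≫ s) (by rw [Category.assoc, e]))
    (fun T x 𝒱 h W y t e => by
      let 𝒲 := 𝒱.pullback₁ t
      have hW : ∀ i, ∃ z, z ≫ G = pullback.fst t (𝒱.f i) ≫ y := fun i =>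
        h i _ _ (pullback.snd t (𝒱.f i)) (by rw [Category.assoc, e, ← Category.assoc, pullback.condition, Category.assoc])
      choose z hz using hW
      refine ⟨Scheme.Cover.glueMorphisms 𝒲 z fun i l => ?_, Scheme.Cover.hom_ext 𝒲 _ _ fun i => ?_⟩
      · rw [← cancel_mono G, Category.assoc, Category.assoc, hz, hz]
        exact (Category.assoc _ _ _).symm.trans ((congrArg (· ≫ y) pullback.condition).trans (Category.assoc _ _ _))
      · rw [← Category.assoc, Scheme.Cover.ι_glueMorphisms]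
        exact hz i)
    (fun T T' s hs₁ hs₂ hs₃ x h W y t e => by
      let c := pullback.fst t s
      haveI : Flat c := MorphismProperty.pullback_fst (P := @Flat) t s hs₁
      haveI : Surjective c := MorphismProperty.pullback_fst (P := @Surjective) t s hs₂
      haveI : QuasiCompact c := MorphismProperty.pullback_fst (P := @QuasiCompact) t s hs₃
      obtain ⟨z, hz⟩ := h _ (c ≫ y) (pullback.snd t s) (by
        rw [Category.assoc, e, ← Category.assoc, pullback.condition, Category.assoc])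
      refine ⟨EffectiveEpi.desc c z fun g₁ g₂ hg => ?_, ?_⟩
      · rw [← cancel_mono G, Category.assoc, Category.assoc, hz, ← Category.assoc, hg, Category.assoc]
      · rw [← cancel_epi c, ← Category.assoc, EffectiveEpi.fac, hz])
    G (fun T y => ⟨fun h => h T y (𝟙 T) (Category.id_comp _).symm, by
      rintro ⟨z, rfl⟩ W y' t hy'
      have hy : y' ≫ π = (t ≫ z) ≫ φ.left := by
        rw [← hπ₂, ← Category.assoc, hy', ← hGπ, ← hπ₂]
        simp [Category.assoc]
      let r := hR.lift y' (t ≫ z) hy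
      refine ⟨r ≫ f₂.left, ?_⟩
      rw [← cancel_mono Z.1.subschemeι]
      refine pullback.hom_ext ?_ ?_
      · simp only [Category.assoc]
        rw [hG₁, ← hu₁, ← Category.assoc, hR.lift_fst]
      · simp only [Category.assoc]
        show r ≫ f₂.left ≫ G ≫ π = y' ≫ π
        rw [hGπ, show f₂.left ≫ φ.left = f₁.left ≫ φ.left from (congrArg CommaMorphism.left hf₁₂).symm,
          ← Category.assoc, hR.lift_snd, hy]⟩)
  haveI := hj
  obtain ⟨q₀, hq₀⟩ := (hQ _ (G ≫ π₂)).1 (fun W y t e => by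
    have hy : y ≫ π = (t ≫ 𝟙 X.left) ≫ φ.left := by
      rw [← hπ₂, ← Category.assoc, e, Category.comp_id, ← hGπ, ← hπ₂]
      simp [Category.assoc]
    let r := hR.lift y (t ≫ 𝟙 X.left) hy
    refine ⟨r ≫ f₂.left, ?_⟩
    rw [← cancel_mono Z.1.subschemeι]
    refine pullback.hom_ext ?_ ?_
    · simp only [Category.assoc]
      rw [hG₁, ← hu₁, ← Category.assoc, hR.lift_fst]
    · simp only [Category.assoc]
      show r ≫ f₂.left ≫ G ≫ π = y ≫ π
      rw [hGπ, show f₂.left ≫ φ.left = f₁.left ≫ φ.left from (congrArg CommaMorphism.left hf₁₂).symm,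
        ← Category.assoc, hR.lift_snd, hy])
  have hsq : IsPullback G q₀ π₂ j := by
    have hP : P _ j := (hQ _ j).2 ⟨𝟙 _, Category.id_comp _⟩
    choose z hz using fun s : PullbackCone π₂ j => hP _ s.fst s.snd s.condition
    exact ⟨⟨hq₀.symm⟩, ⟨PullbackCone.IsLimit.mk _ z hz
      (fun s => by rw [← cancel_mono j, Category.assoc, hq₀, ← Category.assoc, hz, s.condition])
      fun s m h1 _ => by rw [← cancel_mono G, h1, hz]⟩⟩
  haveI : Flat q₀ := MorphismProperty.of_isPullback (P := @Flat) hsq inferInstance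
  haveI : IsProper q₀ := MorphismProperty.of_isPullback (P := @IsProper) hsq inferInstance
  haveI : Surjective q₀ := MorphismProperty.of_isPullback (P := @Surjective) hsq inferInstance
  haveI : LocallyOfFinitePresentation q₀ :=
    MorphismProperty.of_isPullback (P := @LocallyOfFinitePresentation) hsq inferInstance
  let Q : Over S := Over.mk (j ≫ H₂.ι ≫ H.hom)
  have hq₀φ : q₀ ≫ j ≫ H₂.ι = φ.left := by
    rw [← Category.assoc, hq₀, Category.assoc, hπ₂, hGπ]
  let q : X ⟶ Q := Over.homMk q₀ (by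
    show q₀ ≫ j ≫ H₂.ι ≫ H.hom = X.hom
    rw [← Category.assoc j, ← Category.assoc, hq₀φ, Over.w])
  let ι : Q ⟶ H := Over.homMk (j ≫ H₂.ι) (by show (j ≫ H₂.ι) ≫ H.hom = _; rw [Category.assoc]; rfl)
  have hqι : q ≫ ι = φ := Over.OverMorphism.ext hq₀φ
  haveI : Mono ι.left := inferInstanceAs (Mono (j ≫ H₂.ι))
  have w : f₁ ≫ q = f₂ ≫ q := by
    refine Over.OverMorphism.ext ((cancel_mono ι.left).1 ?_)
    show ((f₁ ≫ q) ≫ ι).left = ((f₂ ≫ q) ≫ ι).left
    rw [Category.assoc, Category.assoc, hqι, hf₁₂]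
  have heff : ∀ (T : Over S) (a b : T ⟶ X), a ≫ q = b ≫ q → ∃ r : T ⟶ R, r ≫ f₁ = a ∧ r ≫ f₂ = b :=
    fun T a b h => hrel T a b (by rw [← hqι, ← Category.assoc, h, Category.assoc])
  refine ⟨Q, q, w, ι, inferInstanceAs (IsImmersion (j ≫ H₂.ι)), ⟨?_⟩, q₀.surjective, ‹Flat q₀›, ‹IsProper q₀›, heff⟩
  have hc : ∀ (s : Cofork f₁ f₂) {W : Scheme.{u}} (g₁ g₂ : W ⟶ X.left), g₁ ≫ q₀ = g₂ ≫ q₀ →
      g₁ ≫ s.π.left = g₂ ≫ s.π.left := by
    intro s W g₁ g₂ hg
    have hS : g₂ ≫ X.hom = g₁ ≫ X.hom := by rw [← Over.w q, ← Category.assoc]; exact (congrArg (· ≫ Q.hom) hg).symm.trans (Category.assoc _ _ _)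
    obtain ⟨r, h1, h2⟩ := heff (Over.mk (g₁ ≫ X.hom)) (Over.homMk g₁) (Over.homMk g₂ hS) (Over.OverMorphism.ext hg)
    rw [show g₁ = (r ≫ f₁).left from (congrArg CommaMorphism.left h1).symm,
      show g₂ = (r ≫ f₂).left from (congrArg CommaMorphism.left h2).symm]
    exact congrArg CommaMorphism.left (show (r ≫ f₁) ≫ s.π = (r ≫ f₂) ≫ s.π by
      rw [Category.assoc, Category.assoc, s.condition])
  refine Cofork.IsColimit.mk _ (fun s => Over.homMk (EffectiveEpi.desc q₀ s.π.left (hc s)) ?_) (fun s => ?_)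
    fun s m hm => ?_
  · rw [← cancel_epi q₀, ← Category.assoc, EffectiveEpi.fac, Over.w]
    exact (Over.w q).symm
  · exact Over.OverMorphism.ext (EffectiveEpi.fac q₀ _ (hc s))
  · refine Over.OverMorphism.ext (EffectiveEpi.uniq q₀ s.π.left (hc s) _ ?_)
    exact congrArg CommaMorphism.left hm

end Groth.Agent.Quot8

end
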