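import Groth.Agent.GrassLib.PluckerOver
import Groth.Agent.GrassLib.Modules
import Groth.Agent.RelVALib.ChowPn
import Groth.Prelude.Def_Twist2

/-!
# The Grassmannian of a free module over a base
-/

set_option autoImplicit false
set_option linter.style.haveILetI false
set_option backward.isDefEq.respectTransparency.types false

universe u

open CategoryTheory CategoryTheory.Limits AlgebraicGeometry TopologicalSpace

noncomputable section

namespace Groth.Agent.Quot8

open Groth.Agent.GrassLib

variable (N e : ℕ) (S : Scheme.{u})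

/-- The Grassmannian over `S`. -/
abbrev GrS : Scheme.{u} :=
  pullback (specULiftZIsTerminal.from (Gr.{u} N e)) (specULiftZIsTerminal.from S)

/-- Its structure map. -/
abbrev GrS.toBase : GrS.{u} N e S ⟶ S := pullback.snd _ _

/-- The universal datum over the base. -/
def univS : Datum N e (GrS.{u} N e S) :=
  (univ N e).pull (pullback.fst (specULiftZIsTerminal.from (Gr.{u} N e)) (specULiftZIsTerminal.from S))

variable {N e S}

/-- Data on an `S`-scheme are classified by maps over `S`. -/
theorem existsUnique_homS {T : Scheme.{u}} (g₀ : T ⟶ S) (D : Datum N e T) :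
    ∃! g : T ⟶ GrS.{u} N e S, g ≫ GrS.toBase N e S = g₀ ∧ ((univS N e S).pull g).ker = D.ker := by
  obtain ⟨a, ha, hu⟩ := existsUnique_hom D
  have key : ∀ g : T ⟶ GrS.{u} N e S, ((univS N e S).pull g).ker = ((univ N e).pull (g ≫ pullback.fst _ _)).ker :=
    fun g => (Datum.pull_comp_ker (univ N e) _ g).symm
  refine ⟨pullback.lift a g₀ (specULiftZIsTerminal.hom_ext _ _), ⟨pullback.lift_snd _ _ _, ?_⟩, ?_⟩
  · rw [key, pullback.lift_fst]
    exact ha
  · rintro g ⟨hg₀, hg⟩
    refine pullback.hom_ext ?_ (hg₀.trans (pullback.lift_snd _ _ _).symm)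
    rw [pullback.lift_fst]
    exact hu _ ((key g).symm.trans hg)

variable (N e S)

/-- The Grassmannian is projective over the base. -/
theorem exists_closedImmersion_GrS :
    ∃ (M : ℕ) (c : GrS.{u} N e S ⟶ CohB1.ProjSpaceOver M S),
      IsClosedImmersion c ∧ c ≫ CohB1.ProjSpaceOver.toBase M S = GrS.toBase N e S := by
  by_cases hq : e ≤ N
  · have hpos : 0 < N.choose e := Nat.choose_pos hq
    let σ : Fin (N.choose e - 1 + 1) ≃ Sub N e :=
      (Fintype.equivFinOfCardEq (card_sub.trans (Nat.sub_add_cancel hpos).symm)).symm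
    let p := plucker.{u} (N.choose e - 1) σ
    let b := specULiftZIsTerminal.from S
    have hp : p ≫ CohB1.ProjSpace.toSpec (N.choose e - 1) (ULift.{u} ℤ) = specULiftZIsTerminal.from (Gr.{u} N e) :=
      specULiftZIsTerminal.hom_ext _ _
    let c : GrS.{u} N e S ⟶ CohB1.ProjSpaceOver (N.choose e - 1) S :=
      pullback.map (specULiftZIsTerminal.from (Gr.{u} N e)) b
        (CohB1.ProjSpace.toSpec (N.choose e - 1) (ULift.{u} ℤ)) b
        p (𝟙 _) (𝟙 _) (by rw [Category.comp_id, hp]) (by simp)
    refine ⟨_, c, ?_, (pullback.lift_snd _ _ _).trans (Category.comp_id _)⟩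
    have hsq : IsPullback c (pullback.fst (specULiftZIsTerminal.from (Gr.{u} N e)) b)
        (pullback.fst (CohB1.ProjSpace.toSpec (N.choose e - 1) (ULift.{u} ℤ)) b) p := by
      refine IsPullback.of_right ?_ (pullback.lift_fst _ _ _) (IsPullback.of_hasPullback _ b).flip
      have e' : c ≫ pullback.snd (CohB1.ProjSpace.toSpec (N.choose e - 1) (ULift.{u} ℤ)) b =
          pullback.snd (specULiftZIsTerminal.from (Gr.{u} N e)) b :=
        (pullback.lift_snd _ _ _).trans (Category.comp_id _)
      rw [e', hp]
      exact (IsPullback.of_hasPullback _ b).flip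
    exact MorphismProperty.of_isPullback (P := @IsClosedImmersion) hsq.flip (isClosedImmersion_plucker _ σ)
  · haveI : IsEmpty (Gr.{u} N e) := ⟨fun x => by
      obtain ⟨U, I, hx, hI⟩ := (univ N e).frame x
      exact hq (by simpa using Fintype.card_le_of_injective _ (hI.injective hx))⟩
    haveI : IsEmpty (GrS.{u} N e S) :=
      Function.isEmpty (pullback.fst (specULiftZIsTerminal.from (Gr.{u} N e)) (specULiftZIsTerminal.from S))
    exact ⟨0, isInitialOfIsEmpty.to _, inferInstance, isInitialOfIsEmpty.hom_ext _ _⟩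

instance isNoetherian_GrS [AlgebraicGeometry.IsNoetherian S] : AlgebraicGeometry.IsNoetherian (GrS.{u} N e S) := by
  obtain ⟨M, c, hc, w⟩ := exists_closedImmersion_GrS N e S
  haveI := RelVALib.isProper_toBase M S
  haveI : IsProper (GrS.toBase N e S) := by rw [← w]; infer_instance
  haveI : IsLocallyNoetherian (GrS.{u} N e S) := LocallyOfFiniteType.isLocallyNoetherian (GrS.toBase N e S)
  haveI : CompactSpace (GrS.{u} N e S) := QuasiCompact.compactSpace_of_compactSpace (GrS.toBase N e S)
  exact {}

end Groth.Agent.Quot8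

end
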