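import Groth.Agent.S11742
import Groth.Agent.Quot8.Hilb
import Groth.Agent.Coherent.CohBC.EulerFamily
import Groth.Agent.FlatMor12.FlatFun.Sheaf

/-!
# The stratum of a Hilbert polynomial
-/

set_option autoImplicit false
set_option linter.style.haveILetI false
set_option linter.unusedSectionVars false
set_option backward.isDefEq.respectTransparency false
set_option maxHeartbeats 1000000

universe u

open CategoryTheory CategoryTheory.Limits AlgebraicGeometry TopologicalSpace
open Groth.Agent.Coherent Groth.Agent.PicLib Groth.Agent.AmpleLib Groth.Agent.Coherent.CohBC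

noncomputable section

namespace Groth.Agent.Quot8

variable {n : ℕ}

/-- Flatness does not change under an isomorphism of families. -/
theorem isFlatOver_pullback_iso {X X' T : Scheme.{u}} (π : X ⟶ T) (π' : X' ⟶ T) (c : X' ≅ X) (w : c.hom ≫ π = π')
    (F : X.Modules) (hF : FlatMod.IsFlatOver π F) : FlatMod.IsFlatOver π' ((Scheme.Modules.pullback c.hom).obj F) :=
  fun x => Desc19b.isFlatOverAt_baseChange π π' c.hom (𝟙 T)
    (IsPullback.of_horiz_isIso ⟨by rw [w, Category.comp_id]⟩) F x (hF _)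

variable {G : Scheme.{u}} [AlgebraicGeometry.IsNoetherian G]

/-- Euler characteristics in the form of the flattening statement. -/
theorem eulerCharLE_eq_chi {F : (CohB1.ProjSpaceOver n G).Modules} (hF : Coh.IsCoh F) (s : G) (m : ℤ) :
    FGA.eulerCharLE ((Over.mk (𝟙 G)).left.residueField s)
        (FGA.fibreAt (CohB1.ProjSpaceOver.toBase n G) (Over.mk (𝟙 G)) s).left
        (CohB1.tensorMod
          (FGA.restrFibre (CohB1.ProjSpaceOver.toBase n G) (Over.mk (𝟙 G)) s
            (FGA.ET (CohB1.ProjSpaceOver.toBase n G) F (Over.mk (𝟙 G))))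
          (FGA.restrFibre (CohB1.ProjSpaceOver.toBase n G) (Over.mk (𝟙 G)) s
            (FGA.ET (CohB1.ProjSpaceOver.toBase n G) (Twist.twistOver n G m) (Over.mk (𝟙 G))))) n =
      chi (CohB1.ProjSpaceOver.toBase n G)
        (pullback.fst (CohB1.ProjSpace.toSpec n (ULift.{u} ℤ)) (specULiftZIsTerminal.from G)) F s m := by
  let f := CohB1.ProjSpaceOver.toBase n G
  let h := pullback.fst (CohB1.ProjSpace.toSpec n (ULift.{u} ℤ)) (specULiftZIsTerminal.from G)
  let g := pullback.fst f (Over.mk (𝟙 G)).hom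
  let π' := PicF.XTproj f (Over.mk (𝟙 G))
  haveI : IsProper f := (isPn_projSpaceOver n G).isProper
  haveI := hF.1
  have hsq : IsPullback g π' f (𝟙 G) := IsPullback.of_hasPullback f (Over.mk (𝟙 G)).hom
  have hbc := chi_pullback (h := h) (h' := g ≫ h) (G := F) hsq rfl (s : G) m
  refine Eq.trans ?_ hbc
  refine Finset.sum_congr rfl fun p _ => ?_
  refine congrArg (fun k : ℕ => (-1 : ℤ) ^ p * (k : ℤ)) ?_
  refine CohBC.finrank_HH_congr _ ?_ p
  exact AmpleLib.tensorIso (Iso.refl _) ((Scheme.Modules.pullback _).mapIso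
      ((Scheme.Modules.pullbackComp g h).app _)) ≪≫
    (DCat.PullTensor.pullTensorIso (π'.fiberι s) _ _).symm

/-- The locally closed subscheme where `F` is flat with Hilbert polynomial `Φ`. -/
theorem exists_stratum (F : (CohB1.ProjSpaceOver n G).Modules) (hF : Coh.IsCoh F) (Φ : Polynomial ℚ) :
    ∃ (Z : Scheme.{u}) (j : Z ⟶ G), IsImmersion j ∧
      (∀ s : G, s ∈ Set.range j ↔ ∀ d : ℤ, (chi (CohB1.ProjSpaceOver.toBase n G)
        (pullback.fst (CohB1.ProjSpace.toSpec n (ULift.{u} ℤ)) (specULiftZIsTerminal.from G)) F s d : ℚ) =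
          Φ.eval (d : ℚ)) ∧
      ∀ (T P : Scheme.{u}) (π : P ⟶ T) (g : P ⟶ CohB1.ProjSpaceOver n G) (φ : T ⟶ G), IsLocallyNoetherian T →
        IsPullback g π (CohB1.ProjSpaceOver.toBase n G) φ →
          ((FlatMod.IsFlatOver π ((Scheme.Modules.pullback g).obj F) ∧
            HasHP π (g ≫ pullback.fst (CohB1.ProjSpace.toSpec n (ULift.{u} ℤ)) (specULiftZIsTerminal.from G))
              ((Scheme.Modules.pullback g).obj F) Φ) ↔ ∃ k : T ⟶ Z, k ≫ j = φ) := by
  classical
  let f := CohB1.ProjSpaceOver.toBase n G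
  let h := pullback.fst (CohB1.ProjSpace.toSpec n (ULift.{u} ℤ)) (specULiftZIsTerminal.from G)
  haveI : IsProper f := (isPn_projSpaceOver n G).isProper
  haveI := hF.1
  obtain ⟨I, St, e, he, hrange, hflat, -⟩ := Groth.Agent.S11742.result G n F hF
  have hr : ∀ (P : ↥I) (s : G), s ∈ Set.range (e P) ↔
      ∀ d : ℤ, (chi f h F s d : ℚ) = (P : Polynomial ℚ).eval (d : ℚ) := fun P s =>
    (hrange P s).trans (forall_congr' fun d => by rw [eulerCharLE_eq_chi hF s d])
  have hfl : ∀ (T P : Scheme.{u}) (π : P ⟶ T) (g : P ⟶ CohB1.ProjSpaceOver n G) (φ : T ⟶ G),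
      IsLocallyNoetherian T → IsPullback g π f φ →
        (FlatMod.IsFlatOver π ((Scheme.Modules.pullback g).obj F) ↔ ∃ k : T ⟶ ∐ St, k ≫ Sigma.desc e = φ) := by
    intro T P π g φ _ hsq
    have H₀ : IsPullback (FGA.projMap n φ) (CohB1.ProjSpaceOver.toBase n T) f φ := by
      refine (isPn_projSpaceOver n G).isPullback_of_comp (isPn_projSpaceOver n T) ?_ (pullback.lift_snd _ _ _)
      exact (pullback.lift_fst _ _ _).trans (Category.comp_id _)
    let c := hsq.isoIsPullback _ _ H₀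
    have hc₁ : c.hom ≫ FGA.projMap n φ = g := hsq.isoIsPullback_hom_fst _ _ _
    have hc₂ : c.hom ≫ CohB1.ProjSpaceOver.toBase n T = π := hsq.isoIsPullback_hom_snd _ _ _
    rw [← hflat T φ]
    have hc₁' : c.inv ≫ g = FGA.projMap n φ := by rw [← hc₁, c.inv_hom_id_assoc]
    have hc₂' : c.inv ≫ π = CohB1.ProjSpaceOver.toBase n T := by rw [← hc₂, c.inv_hom_id_assoc]
    constructor
    · intro h1 x
      exact EGA43.DvrCrit.isFlatOverAt_of_iso _
        ((Scheme.Modules.pullbackComp c.inv g).app F ≪≫ (Scheme.Modules.pullbackCongr hc₁').app F) x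
        (isFlatOver_pullback_iso π _ c.symm hc₂' _ h1 x)
    · intro h1 x
      exact EGA43.DvrCrit.isFlatOverAt_of_iso _
        ((Scheme.Modules.pullbackComp c.hom (FGA.projMap n φ)).app F ≪≫ (Scheme.Modules.pullbackCongr hc₁).app F) x
        (isFlatOver_pullback_iso _ π c hc₂ _ h1 x)
  have hcover : ∀ s : G, ∃ P : ↥I, s ∈ Set.range (e P) := by
    intro s
    let φ := G.fromSpecResidueField s
    haveI : IsLocallyNoetherian (Spec (G.residueField s)) := inferInstance
    obtain ⟨k, hk⟩ := (hfl _ _ _ _ φ inferInstance (IsPullback.of_hasPullback f φ)).1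
      (CohBC.isFlatOver_field _ _ _)
    obtain ⟨P, z, hz⟩ : ∃ (P : ↥I) (z : St P), Sigma.ι St P z = k (IsLocalRing.closedPoint (G.residueField s)) :=
      (sigmaOpenCover St).exists_eq _
    refine ⟨P, z, ?_⟩
    rw [show e P z = (Sigma.desc e) (Sigma.ι St P z) from
      (congrArg (fun m : St P ⟶ G => m z) (Sigma.ι_desc e P)).symm, hz, ← Scheme.Hom.comp_apply, hk]
    exact Scheme.fromSpecResidueField_apply s _
  have heval : ∀ (p q : Polynomial ℚ), (∀ d : ℤ, p.eval (d : ℚ) = q.eval (d : ℚ)) → p = q := fun p q h' =>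
    Polynomial.eq_of_infinite_eval_eq _ _ (Set.infinite_of_injective_forall_mem
      (f := fun d : ℤ => (d : ℚ)) Int.cast_injective fun d => h' d)
  have hmem : ∀ (s : G), (∀ d : ℤ, (chi f h F s d : ℚ) = Φ.eval (d : ℚ)) → Φ ∈ I := by
    intro s hs
    obtain ⟨P, hP⟩ := hcover s
    rw [show Φ = P from heval _ _ fun d => (hs d).symm.trans ((hr P s).1 hP d)]
    exact P.2
  by_cases hΦ : Φ ∈ I
  · refine ⟨St ⟨Φ, hΦ⟩, e ⟨Φ, hΦ⟩, he _, hr ⟨Φ, hΦ⟩, fun T P π g φ hT hsq => ?_⟩
    haveI := hT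
    haveI : IsProper π := MorphismProperty.of_isPullback (P := @IsProper) hsq inferInstance
    have hchi : ∀ (y : T) (d : ℤ), chi π (g ≫ h) ((Scheme.Modules.pullback g).obj F) y d = chi f h F (φ y) d :=
      fun y d => chi_pullback hsq rfl y d
    constructor
    · rintro ⟨h1, h2⟩
      obtain ⟨k, hk⟩ := (hfl T P π g φ hT hsq).1 h1
      have hsub : Set.range k ⊆ Set.range (Sigma.ι St ⟨Φ, hΦ⟩) := by
        rintro _ ⟨y, rfl⟩
        obtain ⟨P', z, hz⟩ : ∃ (P' : ↥I) (z : St P'), Sigma.ι St P' z = k y := (sigmaOpenCover St).exists_eq _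
        have hy : φ y = e P' z := by
          rw [← hk, Scheme.Hom.comp_apply, ← hz, ← Scheme.Hom.comp_apply, Sigma.ι_desc]
        have : P' = ⟨Φ, hΦ⟩ := Subtype.ext (heval _ _ fun d =>
          ((hr P' (φ y)).1 ⟨z, hy.symm⟩ d).symm.trans ((congrArg (fun m : ℤ => (m : ℚ)) (hchi y d).symm).trans (h2 y d)))
        subst this
        exact ⟨z, hz⟩
      refine ⟨IsOpenImmersion.lift (Sigma.ι St ⟨Φ, hΦ⟩) k hsub, ?_⟩
      rw [← Sigma.ι_desc e ⟨Φ, hΦ⟩, IsOpenImmersion.lift_fac_assoc, hk]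
    · rintro ⟨k, hk⟩
      refine ⟨(hfl T P π g φ hT hsq).2 ⟨k ≫ Sigma.ι St ⟨Φ, hΦ⟩, by rw [Category.assoc, Sigma.ι_desc, hk]⟩,
        fun y d => ?_⟩
      rw [hchi y d]
      exact (hr ⟨Φ, hΦ⟩ (φ y)).1 ⟨k y, by rw [← Scheme.Hom.comp_apply, hk]⟩ d
  · refine ⟨(⊥ : G.Opens), (⊥ : G.Opens).ι, inferInstance, fun s => ⟨?_, fun h1 => absurd (hmem s h1) hΦ⟩,
      fun T P π g φ hT hsq => ?_⟩
    · rintro ⟨z, -⟩
      exact z.2.elim
    · haveI := hT
      haveI : IsProper π := MorphismProperty.of_isPullback (P := @IsProper) hsq inferInstance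
      constructor
      · rintro ⟨-, h2⟩
        haveI : IsEmpty T := ⟨fun y => hΦ (hmem (φ y) fun d => by
          rw [← chi_pullback (h' := g ≫ h) (G := F) hsq rfl y d]
          exact h2 y d)⟩
        exact ⟨isInitialOfIsEmpty.to _, isInitialOfIsEmpty.hom_ext _ _⟩
      · rintro ⟨k, -⟩
        exact ⟨fun x => ((k (π x)).2).elim, fun y => ((k y).2).elim⟩

end Groth.Agent.Quot8

end
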