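import Groth.Agent.Quot8.Regularity
import Groth.Agent.Quot8.Strata
import Groth.Agent.Quot8.GrBase
import Groth.Agent.Props12.Topo
import Groth.Agent.VarietyLib.HilbClosed
import Groth.Agent.Stk19b.DvrImmersion

/-!
# The piece of a Quot scheme with a given Hilbert polynomial
-/

set_option autoImplicit false
set_option linter.style.haveILetI false
set_option linter.unusedSectionVars false
set_option backward.isDefEq.respectTransparency false
set_option maxHeartbeats 1600000

universe u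

open CategoryTheory CategoryTheory.Limits AlgebraicGeometry TopologicalSpace
open Groth.Agent.Coherent Groth.Agent.PicLib Groth.Agent.AmpleLib Groth.Agent.GrassLib

noncomputable section

namespace Groth.Agent.Quot8

variable {n r a : ℕ} {Φ : Polynomial ℚ} {e : ℕ} {S : Scheme.{u}} [AlgebraicGeometry.IsNoetherian S]

/-- The projection to `P^n_ℤ` of the family over the Grassmannian. -/
abbrev hG (n : ℕ) (G : Scheme.{u}) : CohB1.ProjSpaceOver n G ⟶ CohB1.ProjSpace n (ULift.{u} ℤ) :=
  pullback.fst (CohB1.ProjSpace.toSpec n (ULift.{u} ℤ)) (specULiftZIsTerminal.from G)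

/-- The map of families over a map of bases. -/
def famMap {P T G : Scheme.{u}} (π : P ⟶ T) (h : P ⟶ CohB1.ProjSpace n (ULift.{u} ℤ)) (φ : T ⟶ G) :
    P ⟶ CohB1.ProjSpaceOver n G :=
  pullback.lift h (π ≫ φ) (specULiftZIsTerminal.hom_ext _ _)

theorem famMap_fst {P T G : Scheme.{u}} (π : P ⟶ T) (h : P ⟶ CohB1.ProjSpace n (ULift.{u} ℤ)) (φ : T ⟶ G) :
    famMap π h φ ≫ hG n G = h := pullback.lift_fst _ _ _

theorem famMap_snd {P T G : Scheme.{u}} (π : P ⟶ T) (h : P ⟶ CohB1.ProjSpace n (ULift.{u} ℤ)) (φ : T ⟶ G) :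
    famMap π h φ ≫ CohB1.ProjSpaceOver.toBase n G = π ≫ φ := pullback.lift_snd _ _ _

theorem isPullback_famMap {P T G : Scheme.{u}} {π : P ⟶ T} {h : P ⟶ CohB1.ProjSpace n (ULift.{u} ℤ)}
    (H : IsPn n π h) (φ : T ⟶ G) :
    IsPullback (famMap π h φ) π (CohB1.ProjSpaceOver.toBase n G) φ :=
  (isPn_projSpaceOver n G).isPullback_of_comp H (famMap_fst π h φ) (famMap_snd π h φ)

/-- A universal quotient on a stratum of the Grassmannian. -/
theorem exists_piece (hgood : GoodHP.{u} n r a Φ) (he : (e : ℚ) = Φ.eval 0) :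
    ∃ (G : Scheme.{u}) (Z : Scheme.{u}) (j : Z ⟶ G) (σ : G ⟶ S) (Q : (CohB1.ProjSpaceOver n G).Modules)
      (q : EP n r a (hG n G) ⟶ Q),
      IsClosedImmersion j ∧ (∃ (M : ℕ) (c : G ⟶ CohB1.ProjSpaceOver M S), IsClosedImmersion c ∧
        c ≫ CohB1.ProjSpaceOver.toBase M S = σ) ∧ IsLocallyNoetherian Z ∧ Epi q ∧ Coh.IsCoh Q ∧
      (∀ (T P : Scheme.{u}) (π : P ⟶ T) (h : P ⟶ CohB1.ProjSpace n (ULift.{u} ℤ)), IsPn n π h →
        IsLocallyNoetherian T → ∀ k : T ⟶ Z,
          FlatMod.IsFlatOver π ((Scheme.Modules.pullback (famMap π h (k ≫ j))).obj Q) ∧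
            HasHP π h ((Scheme.Modules.pullback (famMap π h (k ≫ j))).obj Q) Φ) ∧
      ∀ (T P : Scheme.{u}) (π : P ⟶ T) (h : P ⟶ CohB1.ProjSpace n (ULift.{u} ℤ)), IsPn n π h →
        IsLocallyNoetherian T → ∀ (g₀ : T ⟶ S) (Q' : P.Modules) (q' : EP n r a h ⟶ Q'), Epi q' → Coh.IsCoh Q' →
          FlatMod.IsFlatOver π Q' → HasHP π h Q' Φ →
            ∃! k : T ⟶ Z, k ≫ j ≫ σ = g₀ ∧
              kernelSubobject (Grass.quotBC (famMap_fst π h (k ≫ j)) q) = kernelSubobject q' := by
  classical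
  let N := numGen.{u} n r a
  let G := GrS.{u} N e S
  let h₀ := hG n G
  let f := CohB1.ProjSpaceOver.toBase n G
  haveI : IsProper f := (isPn_projSpaceOver n G).isProper
  haveI : IsLocallyNoetherian (CohB1.ProjSpaceOver n G) := LocallyOfFiniteType.isLocallyNoetherian f
  obtain ⟨Q, q, huniv, hqc⟩ := exists_isUniv (r := r) (a := a) f h₀ (univS N e S)
  haveI := huniv.1
  have hEc : Coh.IsCoh (EP n r a h₀) := isCoh_EP
  have hQ : Coh.IsCoh Q := ⟨hqc, Coherent.isFT_of_epi q hEc.2⟩
  obtain ⟨Z, j, hj, hjr, hjuniv⟩ := exists_stratum Q hQ Φ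
  haveI := hj
  haveI : IsLocallyNoetherian Z := LocallyOfFiniteType.isLocallyNoetherian j
  have hfact : ∀ (T P : Scheme.{u}) (π : P ⟶ T) (h : P ⟶ CohB1.ProjSpace n (ULift.{u} ℤ)), IsPn n π h →
      IsLocallyNoetherian T → ∀ φ : T ⟶ G,
        (FlatMod.IsFlatOver π ((Scheme.Modules.pullback (famMap π h φ)).obj Q) ∧
          HasHP π h ((Scheme.Modules.pullback (famMap π h φ)).obj Q) Φ) ↔ ∃ k : T ⟶ Z, k ≫ j = φ := by
    intro T P π h H hT φ
    have h1 := hjuniv T P π (famMap π h φ) φ hT (isPullback_famMap H φ)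
    rw [famMap_fst π h φ] at h1
    exact h1
  -- classification of quotients by the whole Grassmannian
  have hclass : ∀ (T P : Scheme.{u}) (π : P ⟶ T) (h : P ⟶ CohB1.ProjSpace n (ULift.{u} ℤ)), IsPn n π h →
      IsLocallyNoetherian T → ∀ (g₀ : T ⟶ S) (Q' : P.Modules) (q' : EP n r a h ⟶ Q'), Epi q' → Coh.IsCoh Q' →
        FlatMod.IsFlatOver π Q' → HasHP π h Q' Φ →
          ∃ φ : T ⟶ G, φ ≫ GrS.toBase N e S = g₀ ∧
            kernelSubobject (Grass.quotBC (famMap_fst π h φ) q) = kernelSubobject q' ∧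
            (∃ k : T ⟶ Z, k ≫ j = φ) ∧
            ∀ φ' : T ⟶ G, φ' ≫ GrS.toBase N e S = g₀ →
              kernelSubobject (Grass.quotBC (famMap_fst π h φ') q) = kernelSubobject q' → φ' = φ := by
    intro T P π h H hT g₀ Q' q' hq' hQ' hfl' hHP'
    haveI := hT
    haveI := hq'
    haveI := H.isProper
    obtain ⟨D, hD, hDu⟩ := exists_datum H hgood he q' hQ' hfl' hHP'
    obtain ⟨φ, ⟨hφ₀, hφ⟩, huφ⟩ := existsUnique_homS g₀ D
    have hu : ∀ ψ : T ⟶ G, IsUniv r a π h ((univS N e S).pull ψ) (Grass.quotBC (famMap_fst π h ψ) q) :=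
      fun ψ => huniv.pull (famMap_snd π h ψ) (famMap_fst π h ψ)
    have hker : kernelSubobject (Grass.quotBC (famMap_fst π h φ) q) = kernelSubobject q' :=
      ((hu φ).congr hφ).kernelSubobject_eq hD
    haveI := (hu φ).1
    obtain ⟨i, hi⟩ := exists_iso_of_kernelSubobject_eq _ _ hker
    refine ⟨φ, hφ₀, hker, (hfact T P π h H hT φ).1 ⟨fun x => EGA43.DvrCrit.isFlatOverAt_of_iso _ i.symm x (hfl' x),
      hHP'.congr i.symm⟩, fun φ' h0 hk' => huφ φ' ⟨h0, ?_⟩⟩
    haveI := (hu φ').1
    obtain ⟨i', hi'⟩ := exists_iso_of_kernelSubobject_eq _ _ hk'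
    refine hDu _ ?_
    rw [← hi']
    exact (hu φ').2.1.comp _
  -- closedness of the stratum
  haveI : TopologicalSpace.NoetherianSpace Z := (j.isEmbedding).isInducing.noetherianSpace
  haveI : QuasiCompact j := ⟨fun U _ _ => TopologicalSpace.NoetherianSpace.isCompact _⟩
  haveI hjc : IsClosedImmersion j := by
    refine IsClosedImmersion.of_isPreimmersion j (Props12.isClosed_range_of_stableUnderSpecialization j ?_)
    rintro η w hsp hη
    by_cases hne : η = w
    · exact hne ▸ hη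
    obtain ⟨R, _, _, _, ψ, hψ₀, hψη⟩ := Stk19b.exists_dvr_of_specializes hsp hne
    let T := Spec (CommRingCat.of R)
    let b : Spec (CommRingCat.of (FractionRing R)) ⟶ T := Spec.map (CommRingCat.ofHom (algebraMap R (FractionRing R)))
    let P := CohB1.ProjSpaceOver n T
    let π := CohB1.ProjSpaceOver.toBase n T
    let h := hG n T
    have H := isPn_projSpaceOver n T
    haveI : IsProper π := H.isProper
    haveI : IsLocallyNoetherian P := LocallyOfFiniteType.isLocallyNoetherian π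
    let gT := famMap π h ψ
    let qR := Grass.quotBC (famMap_fst π h ψ) q
    haveI : Epi qR := GrassLib.epi_quotBC q _
    have hFR : Coh.IsCoh ((Scheme.Modules.pullback gT).obj Q) := ZClosLib.isCoh_pullback gT Q hQ
    obtain ⟨F', p, hF', hp, hfl', hiso⟩ := VarietyLib.exists_flat_quotient π _ hFR
    haveI := hp
    haveI := hF'.1
    let P' := pullback π b
    let v : P' ⟶ P := pullback.fst π b
    let π' : P' ⟶ _ := pullback.snd π b
    have hsq' : IsPullback v π' π b := IsPullback.of_hasPullback π b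
    have H' : IsPn n π' (v ≫ h) := H.comp hsq'
    haveI : IsProper π' := H'.isProper
    haveI : IsIso ((Scheme.Modules.pullback v).map p) := hiso
    have hchi : ∀ (z : ↥(Spec (CommRingCat.of (FractionRing R)))) (d : ℤ),
        (chi π h F' (b z) d : ℚ) = Φ.eval (d : ℚ) := by
      intro z d
      haveI := hFR.1
      haveI := hQ.1
      rw [← chi_pullback hsq' rfl z d, ← chi_congr (asIso ((Scheme.Modules.pullback v).map p)) z d,
        chi_pullback hsq' rfl z d, chi_pullback (isPullback_famMap H ψ) (famMap_fst π h ψ) (b z) d]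
      exact (hjr _).1 (by rw [show ψ (b z) = η from hψη z]; exact hη) d
    haveI : PreconnectedSpace ↥T := inferInstanceAs (PreconnectedSpace (PrimeSpectrum R))
    have hHP : HasHP π h F' Φ := by
      intro y d
      rw [(isLocallyConstant_chi hF' H hfl' d).apply_eq_of_preconnectedSpace y
        (b (IsLocalRing.closedPoint (FractionRing R)))]
      exact hchi _ d
    let q' := qR ≫ p
    haveI : Epi q' := epi_comp _ _
    obtain ⟨φ, hφ₀, hφk, ⟨k, hk⟩, -⟩ := hclass T P π h H inferInstance (ψ ≫ GrS.toBase N e S) F' q' inferInstance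
      hF' hfl' hHP
    haveI : IsDominant b := ⟨(PrimeSpectrum.denseRange_comap_iff_ker_le_nilRadical (algebraMap R (FractionRing R))).2 (by
      rw [(RingHom.injective_iff_ker_eq_bot _).1 (IsFractionRing.injective R (FractionRing R))]; exact bot_le)⟩
    have hgen : b ≫ φ = b ≫ ψ := by
      have hFK : Coh.IsCoh ((Scheme.Modules.pullback v).obj F') := ZClosLib.isCoh_pullback v F' hF'
      have hHPK : HasHP π' (v ≫ h) ((Scheme.Modules.pullback v).obj F') Φ := hHP.pullback hsq' rfl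
      let qK := Grass.quotBC (rfl : v ≫ h = v ≫ h) q'
      haveI : Epi qK := GrassLib.epi_quotBC q' _
      obtain ⟨D, -, hDu⟩ := exists_datum H' hgood he qK hFK (CohBC.isFlatOver_field _ _ _) hHPK
      obtain ⟨χ, -, huχ⟩ := existsUnique_homS (b ≫ ψ ≫ GrS.toBase N e S) D
      have h1 : ((univS N e S).pull (b ≫ φ)).ker = D.ker := by
        rw [Datum.pull_comp_ker]
        refine hDu _ ?_
        haveI : Epi (Grass.quotBC (famMap_fst π h φ) q) := GrassLib.epi_quotBC q _
        obtain ⟨i, hi⟩ := exists_iso_of_kernelSubobject_eq _ _ hφk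
        have h2 : Compat r a π h ((univS N e S).pull φ) q' := by
          rw [← hi]
          exact (huniv.2.1.pull (famMap_snd π h φ) (famMap_fst π h φ)).comp _
        exact h2.pull hsq'.w rfl
      have h3 : ((univS N e S).pull (b ≫ ψ)).ker = D.ker := by
        rw [Datum.pull_comp_ker]
        exact hDu _ (((huniv.2.1.pull (famMap_snd π h ψ) (famMap_fst π h ψ)).comp p).pull hsq'.w rfl)
      exact (huχ _ ⟨by rw [Category.assoc, hφ₀], h1⟩).trans (huχ _ ⟨Category.assoc _ _ _, h3⟩).symm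
    haveI : IsSeparated (GrS.toBase N e S) := by
      obtain ⟨M, c, hc, w⟩ := exists_closedImmersion_GrS N e S
      haveI := RelVALib.isProper_toBase M S
      rw [← w]
      infer_instance
    have hφψ : φ = ψ := ext_of_isDominant_of_isSeparated (GrS.toBase N e S) hφ₀ b hgen
    exact ⟨k (IsLocalRing.closedPoint R), by
      rw [← Scheme.Hom.comp_apply, hk, hφψ]
      exact hψ₀⟩
  refine ⟨G, Z, j, GrS.toBase N e S, Q, q, hjc, exists_closedImmersion_GrS N e S, inferInstance, inferInstance, hQ,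
    fun T P π h H hT k => (hfact T P π h H hT (k ≫ j)).2 ⟨k, rfl⟩, ?_⟩
  intro T P π h H hT g₀ Q' q' hq' hQ' hfl' hHP'
  obtain ⟨φ, hφ₀, hker, ⟨k, hk⟩, hu⟩ := hclass T P π h H hT g₀ Q' q' hq' hQ' hfl' hHP'
  subst hk
  refine ⟨k, ⟨by rw [← Category.assoc]; exact hφ₀, hker⟩, fun k' hk' => ?_⟩
  exact (cancel_mono j).1 (hu (k' ≫ j) (by rw [Category.assoc]; exact hk'.1) hk'.2)

end Groth.Agent.Quot8

end
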