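import Groth.Agent.Quot8.PnFamily
import Groth.Agent.Quot8.FibreVanish
import Groth.Agent.Mumford23.Closed
import Groth.Agent.Coherent.CohBC.FibreInvariance
import Groth.Agent.Desc19b.GGFpqc

/-!
# Regular families on projective space
-/

set_option autoImplicit false
set_option linter.style.haveILetI false
set_option backward.isDefEq.respectTransparency.types false

universe u

open CategoryTheory CategoryTheory.Limits AlgebraicGeometry
open Groth.Agent.Coherent Groth.Agent.PicLib Groth.Agent.AmpleLib Groth.Agent.Coherent.CohBC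
open Groth.Agent.CAlgH3 Groth.Agent.CAlgH3.PSheaf Groth.Agent.CAlgH3.PSheafSeq

noncomputable section

namespace Groth.Agent.Quot8

variable {n : ℕ} {P T : Scheme.{u}} (π : P ⟶ T) (h : P ⟶ CohB1.ProjSpace n (ULift.{u} ℤ))

/-- `g` is the fibre of `π` at `y`, as a projective space with its twisting sheaves. -/
structure IsFibre (y : T) (g : CohB1.ProjSpace n (T.residueField y) ⟶ P) : Prop where
  sq : IsPullback g (CohB1.ProjSpace.toSpec n (T.residueField y)) π (T.fromSpecResidueField y)
  twist : ∀ t : ℤ, Nonempty ((Scheme.Modules.pullback g).obj (OT n h t) ≅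
    Twist.twistProjSpace n (T.residueField y) t)

/-- Every fibre of `G` is `m`-regular. -/
def RegFib (G : P.Modules) (m : ℤ) : Prop :=
  ∀ (y : T) (g : CohB1.ProjSpace n (T.residueField y) ⟶ P), IsFibre π h y g →
    Curv2.IsMRegular (T.residueField y) n ((Scheme.Modules.pullback g).obj G) m

variable {π h}

theorem IsPn.exists_fibre (H : IsPn n π h) (y : T) :
    ∃ g : CohB1.ProjSpace n (T.residueField y) ⟶ P, IsFibre π h y g := by
  obtain ⟨g, hg, ht⟩ := H.exists_projSquare (R := T.residueField y) (T.fromSpecResidueField y)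
  exact ⟨g, ⟨hg, ht⟩⟩

variable [IsProper π] [IsLocallyNoetherian T] {y : T} {g : CohB1.ProjSpace n (T.residueField y) ⟶ P}

omit [IsProper π] [IsLocallyNoetherian T] in
theorem IsFibre.exists_iso (hg : IsFibre π h y g) :
    ∃ e : CohB1.ProjSpace n (T.residueField y) ≅ π.fiber y, e.hom ≫ π.fiberι y = g ∧
      e.hom ≫ π.fiberToSpecResidueField y = CohB1.ProjSpace.toSpec n (T.residueField y) := by
  have hf : IsPullback (π.fiberι y) (π.fiberToSpecResidueField y) π (T.fromSpecResidueField y) :=
    IsPullback.of_hasPullback π (T.fromSpecResidueField y)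
  exact ⟨hg.sq.isoIsPullback _ _ hf, hg.sq.isoIsPullback_hom_fst _ _ _, hg.sq.isoIsPullback_hom_snd _ _ _⟩

omit [IsLocallyNoetherian T] in
theorem IsFibre.fiberRank_eq (hg : IsFibre π h y g) (F : P.Modules) [Coh.IsQCoh F] (p : ℕ) :
    CohIII.fiberRank π F p y = Module.finrank (T.residueField y)
      (Coh.HH (CohB1.ProjSpace n (T.residueField y)) ((Scheme.Modules.pullback g).obj F) p) := by
  obtain ⟨e, he, he'⟩ := hg.exists_iso
  haveI : IsProper (π.fiberToSpecResidueField y) := MorphismProperty.pullback_snd _ _ inferInstance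
  haveI : CompactSpace ↥(π.fiber y) :=
    QuasiCompact.compactSpace_of_compactSpace (π.fiberToSpecResidueField y)
  haveI : QuasiSeparatedSpace ↥(π.fiber y) :=
    quasiSeparatedSpace_of_quasiSeparated (π.fiberToSpecResidueField y)
  haveI : Coh.IsQCoh (CohIII.fiberMod π F y) := EGA43.InjFibre.isQCoh_pullback _ _
  have hsq : IsPullback e.hom (CohB1.ProjSpace.toSpec n (T.residueField y)) (π.fiberToSpecResidueField y)
      (Spec.map (CommRingCat.ofHom (RingHom.id (T.residueField y)))) := by
    have hid : (𝟙 (Spec (T.residueField y)) : Spec (T.residueField y) ⟶ Spec (T.residueField y)) =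
        Spec.map (CommRingCat.ofHom (RingHom.id (T.residueField y))) := (Spec.map_id _).symm
    suffices h0 : IsPullback e.hom (CohB1.ProjSpace.toSpec n (T.residueField y))
        (π.fiberToSpecResidueField y) (𝟙 (Spec (T.residueField y))) from hid ▸ h0
    refine IsPullback.of_horiz_isIso ⟨?_⟩
    exact he'.trans (Category.comp_id _).symm
  exact (Coherent.CohBC.finrank_HH_bc (T.residueField y) (T.residueField y) (RingHom.id _)
    (π.fiberToSpecResidueField y) (CohB1.ProjSpace.toSpec n (T.residueField y)) e.hom hsq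
    (CohIII.fiberMod π F y) ((Scheme.Modules.pullback g).obj F)
    ((Scheme.Modules.pullbackComp e.hom (π.fiberι y)).app F ≪≫ (Scheme.Modules.pullbackCongr he).app F) p).symm

omit [IsLocallyNoetherian T] in
theorem IsFibre.globallyGenerated (hg : IsFibre π h y g) {F : P.Modules}
    (hF : Curv2.IsGloballyGenerated ((Scheme.Modules.pullback g).obj F)) :
    Curv2.IsGloballyGenerated (CohIII.fiberMod π F y) := by
  obtain ⟨e, he, -⟩ := hg.exists_iso
  refine globallyGenerated_of_iso ?_ (Desc19b.isGloballyGenerated_pullback (π := e.inv) hF)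
  exact (Scheme.Modules.pullbackComp e.inv g).app F ≪≫
    (Scheme.Modules.pullbackCongr (show e.inv ≫ g = π.fiberι y by rw [← he, e.inv_hom_id_assoc])).app F

variable {G : P.Modules}

theorem IsFibre.isCoh_pullback (_hg : IsFibre π h y g) (hG : Coh.IsCoh G) :
    Coh.IsCoh ((Scheme.Modules.pullback g).obj G) := by
  haveI : IsLocallyNoetherian P := LocallyOfFiniteType.isLocallyNoetherian π
  exact ZClosLib.isCoh_pullback g G hG

theorem IsFibre.finrank_twist (hg : IsFibre π h y g) (hG : Coh.IsCoh G) (d : ℤ) (p : ℕ) :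
    CohIII.fiberRank π (CohB1.tensorMod G (OT n h d)) p y = Module.finrank (T.residueField y)
      (Coh.HH (CohB1.ProjSpace n (T.residueField y))
        (CohB1.tensorMod ((Scheme.Modules.pullback g).obj G) (Twist.twistProjSpace n (T.residueField y) d)) p) := by
  haveI : IsLocallyNoetherian P := LocallyOfFiniteType.isLocallyNoetherian π
  haveI := (isCoh_twist (h := h) hG d).1
  obtain ⟨e⟩ := nonempty_pullback_twist_point hg.twist G d
  rw [hg.fiberRank_eq]
  exact Mumford23.finrank_HH_congr _ e p

/-- `RegFib` from the vanishing of the fibre ranks. -/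
theorem regFib_of_fiberRank (hG : Coh.IsCoh G) {m : ℤ}
    (hr : ∀ (y : T) (i : ℕ), 1 ≤ i → CohIII.fiberRank π (CohB1.tensorMod G (OT n h (m - i))) i y = 0) :
    RegFib π h G m := fun y g hg i hi _ => by
  have h1 := hr y i hi
  rw [hg.finrank_twist hG] at h1
  exact Mumford23.subsingleton_of_finrank_eq_zero _ (PSheafGen.isCoh_twistProj (hg.isCoh_pullback hG) _) i h1

variable (H : IsPn n π h) (hG : Coh.IsCoh G) (hfl : FlatMod.IsFlatOver π G) {m : ℤ} (hreg : RegFib π h G m)
  {d : ℤ} (hd : m ≤ d)

include H hG hreg hd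

theorem fiberRank_twist_eq_zero (y : T) (p : ℕ) (hp : 1 ≤ p) :
    CohIII.fiberRank π (CohB1.tensorMod G (OT n h d)) p y = 0 := by
  obtain ⟨g, hg⟩ := H.exists_fibre y
  rw [hg.finrank_twist hG]
  haveI : Subsingleton (Coh.HH (CohB1.ProjSpace n (T.residueField y))
      (CohB1.tensorMod ((Scheme.Modules.pullback g).obj G) (Twist.twistProjSpace n (T.residueField y) d)) p) :=
    W_of_le (hg.isCoh_pullback hG).1 (hreg y g hg) hp (by omega)
  exact Module.finrank_zero_of_subsingleton

omit H in
theorem fiberRank_zero_eq_eu {g : CohB1.ProjSpace n (T.residueField y) ⟶ P} (hg : IsFibre π h y g) :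
    (CohIII.fiberRank π (CohB1.tensorMod G (OT n h d)) 0 y : ℤ) =
      Mumford23.eu ((Scheme.Modules.pullback g).obj G) d := by
  show _ = Curv2.euler _ _ _
  rw [hg.finrank_twist hG, EulerLib.euler_eq_sum _ _ _ 0 fun q hq =>
    W_of_le (hg.isCoh_pullback hG).1 (hreg y g hg) hq (by omega)]
  simp

include hfl

theorem isFinLocFree_push_twist : FlatMod.IsFinLocFree ((Coh.push π).obj (CohB1.tensorMod G (OT n h d))) := by
  haveI : IsLocallyNoetherian P := LocallyOfFiniteType.isLocallyNoetherian π
  exact isFinLocFree_push π (isCoh_twist hG d) (isFlatOver_twist hfl d) (fiberRank_twist_eq_zero H hG hreg hd)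

theorem isFinLocFreeOfRank_push_twist {r : ℕ}
    (hr : ∀ (y : T) (g : CohB1.ProjSpace n (T.residueField y) ⟶ P), IsFibre π h y g →
      Mumford23.eu ((Scheme.Modules.pullback g).obj G) d = (r : ℤ)) :
    FlatMod.IsFinLocFreeOfRank r ((Coh.push π).obj (CohB1.tensorMod G (OT n h d))) := by
  haveI : IsLocallyNoetherian P := LocallyOfFiniteType.isLocallyNoetherian π
  refine isFinLocFreeOfRank_push π (isCoh_twist hG d) (isFlatOver_twist hfl d)
    (fiberRank_twist_eq_zero H hG hreg hd) fun y => ?_
  obtain ⟨g, hg⟩ := H.exists_fibre y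
  have := (fiberRank_zero_eq_eu hG hreg hd hg).trans (hr y g hg)
  exact_mod_cast this

theorem isZero_rpushAb_twist (i : ℕ) (hi : 1 ≤ i) :
    IsZero ((Coh.RpushAb π i).obj (Coh.toAb (CohB1.tensorMod G (OT n h d)))) := by
  haveI : IsLocallyNoetherian P := LocallyOfFiniteType.isLocallyNoetherian π
  exact isZero_rpushAb π (isCoh_twist hG d) (isFlatOver_twist hfl d) (fiberRank_twist_eq_zero H hG hreg hd) i hi

theorem epi_counit_twist :
    Epi ((Scheme.Modules.pullbackPushforwardAdjunction π).counit.app (CohB1.tensorMod G (OT n h d))) := by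
  haveI : IsLocallyNoetherian P := LocallyOfFiniteType.isLocallyNoetherian π
  refine epi_counit π (isCoh_twist hG d) (isFlatOver_twist hfl d) (fiberRank_twist_eq_zero H hG hreg hd)
    fun y => ?_
  obtain ⟨g, hg⟩ := H.exists_fibre y
  obtain ⟨e⟩ := nonempty_pullback_twist_point hg.twist G d
  refine hg.globallyGenerated (globallyGenerated_of_iso e.symm ?_)
  exact PSheafGen.isGloballyGenerated (hg.isCoh_pullback hG).1
    (isMRegular_of_le (hg.isCoh_pullback hG).1 hd (hreg y g hg)) (PSheafGen.isCoh_twistProj (hg.isCoh_pullback hG) d)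

end Groth.Agent.Quot8

end
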