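import Groth.Agent.Quot8.Classify
import Groth.Agent.Mumford23.AllFields

/-!
# Uniform regularity for quotients with a given Hilbert polynomial
-/

set_option autoImplicit false
set_option linter.style.haveILetI false
set_option linter.unusedSectionVars false
set_option backward.isDefEq.respectTransparency.types false
set_option maxHeartbeats 1000000

universe u

open CategoryTheory CategoryTheory.Limits AlgebraicGeometry TopologicalSpace
open Groth.Agent.Coherent Groth.Agent.PicLib Groth.Agent.AmpleLib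
open Groth.Agent.CAlgH3 Groth.Agent.CAlgH3.PSheafSeq

noncomputable section

namespace Groth.Agent.Quot8

theorem nonempty_pullback_free {X Y : Scheme.{u}} (g : Y ⟶ X) (r : ℕ) :
    Nonempty ((Scheme.Modules.pullback g).obj (FlatMod.freeMod X r) ≅ FlatMod.freeMod Y r) :=
  ⟨PreservesCoproduct.iso (Scheme.Modules.pullback g) (fun _ : Fin r => Coh.structureModule _) ≪≫
    Sigma.mapIso fun _ => PicLoc.pullbackStructureIso g⟩

variable {n r : ℕ}

theorem nonempty_pullback_free_tensor {X Y : Scheme.{u}} (g : Y ⟶ X) (m : ℕ) (L : X.Modules) :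
    Nonempty ((Scheme.Modules.pullback g).obj (CohB1.tensorMod (FlatMod.freeMod X m) L) ≅
      CohB1.tensorMod (FlatMod.freeMod Y m) ((Scheme.Modules.pullback g).obj L)) := by
  obtain ⟨i⟩ := nonempty_pullback_free g m
  exact ⟨DCat.PullTensor.pullTensorIso g _ _ ≪≫ AmpleLib.tensorIso i (Iso.refl _)⟩

set_option backward.isDefEq.respectTransparency false in
theorem nonempty_EP_iso (a : ℕ) {P : Scheme.{u}} (h : P ⟶ CohB1.ProjSpace n (ULift.{u} ℤ)) :
    Nonempty (EP n r a h ≅ CohB1.tensorMod (FlatMod.freeMod P r) (OT n h (a : ℤ))) :=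
  nonempty_pullback_free_tensor h r _

/-- A short exact sequence with flat last term restricted to a fibre. -/
theorem IsFibre.shortExact {P T : Scheme.{u}} {π : P ⟶ T} [IsProper π] [IsLocallyNoetherian T]
    {h : P ⟶ CohB1.ProjSpace n (ULift.{u} ℤ)} {y : T} {g : CohB1.ProjSpace n (T.residueField y) ⟶ P}
    (hg : IsFibre π h y g) {S : ShortComplex P.Modules} (hS : S.ShortExact) (h₁ : Coh.IsCoh S.X₁)
    (h₂ : Coh.IsCoh S.X₂) (hf₂ : FlatMod.IsFlatOver π S.X₂) (hf₃ : FlatMod.IsFlatOver π S.X₃) :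
    (S.map (Scheme.Modules.pullback g)).ShortExact := by
  haveI : IsLocallyNoetherian P := LocallyOfFiniteType.isLocallyNoetherian π
  haveI : LocallyOfFinitePresentation π := CohBC.locallyOfFinitePresentation_of_isLocallyNoetherian π
  haveI := hS.mono_f
  haveI := hS.epi_g
  haveI := h₁.1
  haveI := h₂.1
  haveI : (Scheme.Modules.pullback g).IsLeftAdjoint := (Scheme.Modules.pullbackPushforwardAdjunction g).isLeftAdjoint
  haveI : Epi ((Scheme.Modules.pullback g).map S.g) := Grass.epi_pullback_map g S.g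
  have hcok : FlatMod.IsFlatOver π (cokernel S.f) := fun x =>
    EGA43.DvrCrit.isFlatOverAt_of_iso _
      (hS.gIsCokernel.coconePointUniqueUpToIso (cokernelIsCokernel S.f)) x (hf₃ x)
  haveI : Mono ((Scheme.Modules.pullback g).map S.f) := by
    haveI := mono_pullback_fiberι π S.f (Coherent.isFP_of_isCoh h₂) (Coherent.isFP_of_isCoh h₁) hf₂ hcok y
    obtain ⟨e, he, -⟩ := hg.exists_iso
    haveI : IsOpenImmersion e.hom := inferInstance
    rw [← NatIso.naturality_1
      (Scheme.Modules.pullbackComp e.hom (π.fiberι y) ≪≫ Scheme.Modules.pullbackCongr he) S.f]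
    haveI : Mono ((Scheme.Modules.pullback e.hom).map ((Scheme.Modules.pullback (π.fiberι y)).map S.f)) := by
      rw [← NatIso.naturality_1 (Scheme.Modules.restrictFunctorIsoPullback e.hom)
        ((Scheme.Modules.pullback (π.fiberι y)).map S.f)]
      haveI : (Scheme.Modules.restrictFunctor e.hom).PreservesMonomorphisms := inferInstance
      exact mono_comp _ _
    haveI : Mono ((Scheme.Modules.pullback (π.fiberι y) ⋙ Scheme.Modules.pullback e.hom).map S.f) :=
      (inferInstanceAs (Mono ((Scheme.Modules.pullback e.hom).map ((Scheme.Modules.pullback (π.fiberι y)).map S.f))))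
    exact mono_comp _ _
  exact
    { exact := ShortComplex.exact_of_g_is_cokernel _
        (CokernelCofork.mapIsColimit _ hS.gIsCokernel (Scheme.Modules.pullback g))
      mono_f := ‹_›
      epi_g := ‹_› }

/-- The shifted polynomial. -/
abbrev shiftPoly (Ψ : Polynomial ℚ) (a : ℤ) : Polynomial ℚ :=
  Ψ.comp (Polynomial.X + Polynomial.C (a : ℚ))

/-- Mumford's bound makes high twists of quotients with given Hilbert polynomial regular. -/
theorem exists_goodHP (n r : ℕ) (Ψ : Polynomial ℚ) :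
    ∃ m₀ : ℕ, ∀ a : ℕ, m₀ ≤ a → GoodHP.{u} n r a (shiftPoly Ψ a) := by
  obtain ⟨m, hm⟩ := Mumford23.exists_regularity_all.{u} n r Ψ
  refine ⟨m.toNat, fun a ha P T π h H _ Q q _ hQ hfl hHP => ?_⟩
  haveI := H.isProper
  haveI : IsLocallyNoetherian P := LocallyOfFiniteType.isLocallyNoetherian π
  haveI : Flat π := H.flat
  have hKc : Coh.IsCoh (kernel q) := Coherent.isCoh_kernel q isCoh_EP hQ.1
  let S : ShortComplex P.Modules := ShortComplex.mk (kernel.ι q) q (kernel.condition q)
  have hS : S.ShortExact := { exact := ShortComplex.exact_kernel q }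
  suffices key : ∀ (y : T) (g : CohB1.ProjSpace n (T.residueField y) ⟶ P), IsFibre π h y g →
      Curv2.IsMRegular (T.residueField y) n ((Scheme.Modules.pullback g).obj (kernel q)) 0 ∧
        Curv2.IsMRegular (T.residueField y) n ((Scheme.Modules.pullback g).obj Q) 0 from
    ⟨fun y g hg => (key y g hg).1, fun y g hg => (key y g hg).2⟩
  intro y g hg
  let k := T.residueField y
  have hSy := hg.shortExact hS hKc isCoh_EP (isFlatOver_EP H) hfl
  let Sy := S.map (Scheme.Modules.pullback g)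
  let tw := fun t : ℤ => Twist.twistProjSpace n k t
  obtain ⟨e₁⟩ := nonempty_EP_iso (r := r) a h
  obtain ⟨e₂⟩ := nonempty_pullback_free g r
  obtain ⟨e₃⟩ := hg.twist (a : ℤ)
  let eE : Sy.X₂ ≅ CohB1.tensorMod (FlatMod.freeMod (CohB1.ProjSpace n k) r) (tw a) :=
    (Scheme.Modules.pullback g).mapIso e₁ ≪≫ DCat.PullTensor.pullTensorIso g _ _ ≪≫ AmpleLib.tensorIso e₂ e₃
  have hcFree : Coh.IsCoh (FlatMod.freeMod (CohB1.ProjSpace n k) r) := Mumford23.isCoh_freeMod r
  have hcK : Coh.IsCoh Sy.X₁ := hg.isCoh_pullback hKc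
  have hcQ : Coh.IsCoh Sy.X₃ := hg.isCoh_pullback hQ
  let S' := EulerLib.twistSeq Sy (tw (-(a : ℤ)))
  have hS' : S'.ShortExact := twist_shortExact hSy _
  haveI := hS'.mono_f
  haveI := hS'.epi_g
  obtain ⟨e₄⟩ := nonempty_twist_assoc hcFree.1 (show (a : ℤ) + -(a : ℤ) = 0 by omega)
  obtain ⟨e₅⟩ : Nonempty (CohB1.tensorMod (FlatMod.freeMod (CohB1.ProjSpace n k) r) (tw 0) ≅
      FlatMod.freeMod (CohB1.ProjSpace n k) r) := by
    obtain ⟨i⟩ := TwistLib.nonempty_twist_zero_iso (𝒜 := CohB1.polyGrading n k)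
    exact ⟨AmpleLib.tensorIso (Iso.refl _) i ≪≫ DCat.PerfTensor.unitorR _⟩
  let eS : S'.X₂ ≅ FlatMod.freeMod (CohB1.ProjSpace n k) r :=
    AmpleLib.tensorIso eE (Iso.refl _) ≪≫ e₄ ≪≫ e₅
  let φ := eS.inv ≫ S'.g
  have hφeu : ∀ t : ℤ, (Mumford23.eu S'.X₃ t : ℚ) = Ψ.eval (t : ℚ) := by
    intro t
    obtain ⟨i⟩ := nonempty_twist_assoc hcQ.1 (show -(a : ℤ) + t = t - a by omega)
    show ((Curv2.euler _ _ (CohB1.tensorMod (CohB1.tensorMod Sy.X₃ (tw (-(a : ℤ)))) (tw t)) : ℤ) : ℚ) = _
    rw [EulerLib.euler_congr k _ i]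
    show ((Mumford23.eu Sy.X₃ (t - a) : ℤ) : ℚ) = _
    rw [show Mumford23.eu Sy.X₃ (t - a) = chi π h Q y (t - a) from (hg.chi_eq hQ _).symm, hHP y (t - a)]
    simp [shiftPoly]
  have hreg' := hm k S'.X₃ φ (PSheafGen.isCoh_twistProj hcQ _) inferInstance hφeu
  let iK : kernel φ ≅ S'.X₁ := kernelIsIsoComp eS.inv S'.g ≪≫
    IsLimit.conePointUniqueUpToIso (kernelIsKernel S'.g) hS'.fIsKernel
  have hK : Curv2.IsMRegular k n Sy.X₁ (m - a) := by
    intro i hi hin
    refine (W_iff_twist hcK.1 (show -(a : ℤ) + (m - i) = m - a - i by omega) i).1 ?_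
    exact ModCohSeq.V_of_iso (AmpleLib.tensorIso iK (Iso.refl _)) (hreg' i hi hin)
  have hK0 : Curv2.IsMRegular k n Sy.X₁ 0 := PSheaf.isMRegular_of_le hcK.1 (by omega) hK
  refine ⟨hK0, fun i hi hin => ?_⟩
  refine W_right hSy ?_ (W_of_le hcK.1 (PSheaf.isMRegular_of_le hcK.1 (show (0 : ℤ) ≤ 1 by omega) hK0) (by omega)
    (by omega))
  refine ModCohSeq.V_of_iso (AmpleLib.tensorIso eE.symm (Iso.refl _)) ?_
  exact (W_iff_twist hcFree.1 (show (a : ℤ) + (0 - i) = a - i by omega) i).2
    (W_of_le hcFree.1 (Mumford23.free_facts k n r).1 hi (by omega))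

end Groth.Agent.Quot8

end
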